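import Cfsg.Agent.Mrg.Omega.BTwo.Str
import Cfsg.Agent.Mrg.Omega.Assembly
import Cfsg.Agent.Mrg.Omega.BTwo.Split

section


/-!
# II.0h1, `q = 2`: the situation, (0) and (4) of #12123

`HT S P V R o`: `b = 2` (`BT V R`), points of order 2, `G` of characteristic 2 type, `S` a Sylow 2-subgroup in
`P ∩ N(V) ∩ N(R o)`, `P ≤ N(V)` transitive on the points, `[Ω₁(Z(S)), P] ≤ V`.

* `HT.nonloc` (0): no 2-subgroup `≠ 1` is normalised by `P` and `N(R i)`; `HT.cenQ`;
* `HT.zc_eq` (4): `Ω₁(Z(S)) = R o × C_Z(P)`, `HT.cz_eq`: `C_Z(P) = Z ∩ C(X)`;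
* `HT.o2_le_cen`: `O₂(M)` centralises `V` for `M ≥ S, X` local; `HT.cl_le_zc`: `⟨(R o)^M⟩ ≤ Ω₁(Z(O₂(M)))`;
* `HT.cl_z_le`: `⟨z^{N(R o)}⟩ ≤ Ω₁(Z(O₂(N(R o)))) ∩ C(W o)` for `z ∈ C_Z(P)`; `HT.exists_conj_ne`.
-/

set_option autoImplicit false
set_option linter.unusedSectionVars false

namespace Cfsg.Agent.Omega.HOneTwo

open Subgroup Cfsg Cfsg.Agent.ZN Cfsg.Agent.MinSimple.VModule Cfsg.Agent.Omega.BTwo
open Cfsg.Agent.Omega.MinPar

universe u

variable {G : Type u} [Group G] {ι : Type*}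

/-- the situation of II.0h1 for `q = 2` -/
structure HT (S : Sylow 2 G) (P V : Subgroup G) (R : ι → Subgroup G) (o : ι) : Prop extends BT V R where
  card_R : ∀ i, Nat.card (R i) = 2
  char2 : IsCharacteristicTwoType G
  S_V : (S : Subgroup G) ≤ normalizer (V : Set G)
  S_R : (S : Subgroup G) ≤ normalizer (R o : Set G)
  S_P : (S : Subgroup G) ≤ P
  P_V : P ≤ normalizer (V : Set G)
  P_trans : ∀ i, ∃ x ∈ P, cj x (R o) = R i
  P_Z : ∀ x ∈ P, ∀ z ∈ zc (S : Subgroup G), x * z * x⁻¹ * z⁻¹ ∈ V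

/-! ### normal closures `⟨A^M⟩` -/

/-- `⟨A^M⟩` -/
def cl (A M : Subgroup G) : Subgroup G := ⨆ m : M, cj (m : G) A

theorem cj_le_cl {A M : Subgroup G} {m : G} (hm : m ∈ M) : cj m A ≤ cl A M :=
  le_iSup (fun m : M => cj (m : G) A) ⟨m, hm⟩

theorem le_cl (A M : Subgroup G) : A ≤ cl A M := by
  have := cj_le_cl (A := A) (one_mem M)
  rwa [cj_one] at this

theorem le_normalizer_cl (A M : Subgroup G) : M ≤ normalizer (cl A M : Set G) := by
  intro g hg
  rw [← cj_eq_self_iff]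
  apply le_antisymm
  · rw [cl, cj_iSup]
    refine iSup_le fun h => ?_
    rw [← cj_mul]
    exact cj_le_cl (mul_mem hg h.2)
  · rw [cl]
    refine iSup_le fun h => ?_
    have := cj_mono (g := g) (cj_le_cl (A := A) (mul_mem (inv_mem hg) h.2))
    rwa [cj_mul, cj_cj_inv] at this

theorem cl_le {A M B : Subgroup G} (hA : A ≤ B) (hM : M ≤ normalizer (B : Set G)) : cl A M ≤ B :=
  iSup_le fun m => by
    have h1 := cj_mono (g := (m : G)) hA
    rwa [cj_eq_self_iff.2 (hM m.2)] at h1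

theorem WW_eq_cl (V R : Subgroup G) : WW V R = cl V (normalizer (R : Set G)) := rfl

/-! ### groups of order 2 -/

section two

variable {S : Sylow 2 G} {P V : Subgroup G} {R : ι → Subgroup G} {o : ι}

theorem eq_of_card_two {A : Subgroup G} (hA : Nat.card A = 2) {a x : G} (ha : a ∈ A) (ha1 : a ≠ 1)
    (hx : x ∈ A) (hx1 : x ≠ 1) : x = a := by
  obtain ⟨y, -, hy⟩ := (Nat.card_eq_two_iff' (1 : A)).1 hA
  have h1 := hy ⟨a, ha⟩ (fun h => ha1 (congrArg Subtype.val h))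
  have h2 := hy ⟨x, hx⟩ (fun h => hx1 (congrArg Subtype.val h))
  exact congrArg Subtype.val (h2.trans h1.symm)

theorem normalizer_le_cen_of_card {A : Subgroup G} (hA : Nat.card A = 2) :
    normalizer (A : Set G) ≤ centralizer (A : Set G) := by
  intro g hg
  rw [mem_centralizer_iff]
  intro a ha
  by_cases ha1 : a = 1
  · rw [ha1, one_mul, mul_one]
  have h1 : g * a * g⁻¹ ∈ A := conj_mem_of_normalizer hg ha
  have h2 : g * a * g⁻¹ ≠ 1 := fun h => ha1 (conj_eq_one_iff.1 h)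
  have h3 : g * a * g⁻¹ = a := eq_of_card_two hA ha ha1 h1 h2
  rw [mul_inv_eq_iff_eq_mul] at h3
  exact h3.symm

variable (b : HT S P V R o)
include b

/-- the nontrivial element of a point -/
theorem HT.exists_gen (i : ι) : ∃ r, r ≠ 1 ∧ r * r = 1 ∧ ∀ x, x ∈ R i ↔ x = 1 ∨ x = r := by
  obtain ⟨r, hr, hr1⟩ := b.exists_ne i
  refine ⟨r, hr1, b.V_sq r (b.R_le i hr), fun x => ⟨fun hx => ?_, ?_⟩⟩
  · by_contra hc
    push Not at hc
    exact hc.2 (eq_of_card_two (b.card_R i) hr hr1 hx hc.1)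
  · rintro (rfl | rfl)
    · exact one_mem _
    · exact hr

/-- an element normalising all the points centralises `V` -/
theorem HT.cen_of_norm {g : G} (h : ∀ i, g ∈ normalizer (R i : Set G)) : g ∈ centralizer (V : Set G) := by
  obtain ⟨i, j, hij⟩ := b.exists_pair
  rw [← b.R_sup i j hij]
  exact mem_cen_sup (normalizer_le_cen_of_card (b.card_R i) (h i))
    (normalizer_le_cen_of_card (b.card_R j) (h j))

theorem HT.cen_of_norm_two {i j : ι} (hij : i ≠ j) {g : G} (hi : g ∈ normalizer (R i : Set G))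
    (hj : g ∈ normalizer (R j : Set G)) : g ∈ centralizer (V : Set G) := by
  rw [← b.R_sup i j hij]
  exact mem_cen_sup (normalizer_le_cen_of_card (b.card_R i) hi)
    (normalizer_le_cen_of_card (b.card_R j) hj)

/-- there are three points -/
theorem HT.eq_of_ne {i j k l : ι} (hij : i ≠ j) (hik : i ≠ k) (hjk : j ≠ k) : l = i ∨ l = j ∨ l = k := by
  by_contra hc
  push Not at hc
  obtain ⟨hli, hlj, hlk⟩ := hc
  obtain ⟨ri, hi1, hi2, hi⟩ := b.exists_gen i
  obtain ⟨rj, hj1, hj2, hj⟩ := b.exists_gen j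
  -- the elements of `V` are `1, ri, rj, ri rj`
  have hV : ∀ v ∈ V, v ∈ R i ∨ v ∈ R j ∨ v = ri * rj := by
    intro v hv
    obtain ⟨a, ha, c, hc, rfl⟩ := b.exists_mul hij hv
    rcases (hi a).1 ha with rfl | rfl
    · rw [one_mul]; exact Or.inr (Or.inl hc)
    · rcases (hj c).1 hc with rfl | rfl
      · rw [mul_one]; exact Or.inl ha
      · exact Or.inr (Or.inr rfl)
  have key : ∀ m, m ≠ i → m ≠ j → ri * rj ∈ R m := by
    intro m hmi hmj
    obtain ⟨x, hx, hx1⟩ := b.exists_ne m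
    rcases hV x (b.R_le m hx) with h | h | h
    · exact absurd (b.eq_one hmi hx h) hx1
    · exact absurd (b.eq_one hmj hx h) hx1
    · rwa [h] at hx
  have h1 := b.eq_one hlk (key l hli hlj) (key k (Ne.symm hik) (Ne.symm hjk))
  have h2 : ri = rj := by
    rw [mul_eq_one_iff_eq_inv, b.inv_eq (b.R_le j ((hj rj).2 (Or.inr rfl)))] at h1
    exact h1
  exact hi1 (b.eq_one hij ((hi ri).2 (Or.inr rfl)) (by rw [h2]; exact (hj rj).2 (Or.inr rfl)))

theorem HT.one_lt : ∃ j k : ι, j ≠ o ∧ k ≠ o ∧ j ≠ k := by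
  obtain ⟨j, hj, -⟩ := b.third o o
  obtain ⟨k, hk, hk'⟩ := b.third o j
  exact ⟨j, k, hj, hk, Ne.symm hk'⟩

theorem HT.S_ne : (S : Subgroup G) ≠ ⊥ := by
  intro h
  have h1 : IsPGroup 2 (R o) := by
    intro x
    refine ⟨1, ?_⟩
    rw [pow_one, pow_two]
    exact Subtype.ext (b.V_sq _ (b.R_le o x.2))
  have h2 := le_of_le_normalizer S h1 b.S_R
  rw [h] at h2
  exact b.R_ne o (le_bot_iff.1 h2)

variable [Finite G]

theorem HT.isLoc_N : IsLoc (S : Subgroup G) (normalizer (R o : Set G)) :=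
  isLoc_normalizer S (by
    intro x
    refine ⟨1, ?_⟩
    rw [pow_one, pow_two]
    exact Subtype.ext (b.V_sq _ (b.R_le o x.2))) (b.R_ne o) b.S_R

theorem HT.Q_le_S : QQ (R o) ≤ (S : Subgroup G) := b.isLoc_N.o2_le S

theorem HT.W_le_S : WW V (R o) ≤ (S : Subgroup G) := (b.W_le_Q o).trans b.Q_le_S

theorem HT.V_le_S : V ≤ (S : Subgroup G) := (V_le_WW V (R o)).trans b.W_le_S

theorem HT.Q_le_P : QQ (R o) ≤ P := b.Q_le_S.trans b.S_P

theorem HT.V_le_P : V ≤ P := b.V_le_S.trans b.S_P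

/-- `W i ≤ P` -/
theorem HT.W_le_P (i : ι) : WW V (R i) ≤ P := by
  obtain ⟨x, hx, e⟩ := b.P_trans i
  rw [← b.cj_WW e, cj_le_iff]
  exact fun w hw => mul_mem (mul_mem hx (b.W_le_S.trans b.S_P hw)) (inv_mem hx)

theorem HT.X_le_P : XX V R ≤ P := iSup_le fun i => b.W_le_P i

/-- `C(Q i) ≤ Q i` in `N(R i)` -/
theorem HT.cenQ (i : ι) : normalizer (R i : Set G) ⊓ centralizer (QQ (R i) : Set G) ≤ QQ (R i) := by
  obtain ⟨x, -, e⟩ := b.P_trans i
  have h1 : normalizer (R o : Set G) ⊓ centralizer (QQ (R o) : Set G) ≤ QQ (R o) :=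
    b.isLoc_N.char2 S b.char2
  have h2 := cj_mono (g := x) h1
  rwa [cj_inf, ← normalizer_cj, ← centralizer_cj, b.cj_QQ e, e] at h2

/-- `O₂(M)` centralises `V` for a local `M ≥ S` transitive on the points -/
theorem HT.o2_le_cen {M : Subgroup G} (hM : IsLoc (S : Subgroup G) M)
    (ht : ∀ i, ∃ x ∈ M, cj x (R o) = R i) : o2 M ≤ centralizer (V : Set G) := by
  have h1 : ∀ i, o2 M ≤ normalizer (R i : Set G) := by
    intro i
    obtain ⟨x, hx, e⟩ := ht i
    have h2 := cj_mono (g := x) ((hM.o2_le S).trans b.S_R)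
    rwa [← normalizer_cj, e, cj_eq_self_iff.2 (le_normalizer_o2 M hx)] at h2
  exact fun g hg => b.cen_of_norm fun i => h1 i hg

theorem HT.V_le_zc_o2 {M : Subgroup G} (hM : IsLoc (S : Subgroup G) M)
    (ht : ∀ i, ∃ x ∈ M, cj x (R o) = R i) : V ≤ zc (o2 M) := by
  have h1 := b.o2_le_cen hM ht
  have h2 : V ≤ o2 M := by
    refine le_trans ?_ (hM.char2 S b.char2)
    exact le_inf (b.V_le_S.trans hM.le) (le_centralizer_iff.1 h1)
  intro v hv
  refine mem_zc.2 ⟨h2 hv, fun c hc => ?_, by rw [pow_two]; exact b.V_sq v hv⟩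
  exact (mem_centralizer_iff.1 (h1 hc) v hv).symm

/-- `V` is not normalised together with ... : a subgroup `T` with `V ≤ C(V^h)`, `h` as in `mt`, is impossible -/
theorem HT.false_of_comm {h : G} (hh : ∀ j k, j ≠ o → k ≠ o → ∃ v ∈ V, cj (h * v * h⁻¹) (R j) = R k)
    (hc : ∀ v ∈ V, h * v * h⁻¹ ∈ centralizer (V : Set G)) : False := by
  obtain ⟨j, k, hj, hk, hjk⟩ := b.one_lt
  obtain ⟨v, hv, e⟩ := hh j k hj hk
  have h1 : cj (h * v * h⁻¹) (R j) = R j := by
    rw [cj_eq_self_iff]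
    exact centralizer_le_normalizer _ (centralizer_le (b.R_le j) (hc v hv))
  exact hjk (b.R_index (h1.symm.trans e))

/-- **(0)** no 2-subgroup `≠ 1` is normalised by `P` (or any overgroup of `S` transitive on the points) and
`N(R o)` -/
theorem HT.nonloc_o {A T : Subgroup G} (hA : ∀ i, ∃ x ∈ A, cj x (R o) = R i) (hT : IsPGroup 2 T)
    (h1 : A ≤ normalizer (T : Set G)) (h2 : normalizer (R o : Set G) ≤ normalizer (T : Set G)) :
    T = ⊥ := by
  by_contra hne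
  have hM : IsLoc (S : Subgroup G) (normalizer (T : Set G)) :=
    isLoc_normalizer S hT hne (b.S_R.trans h2)
  have ht : ∀ i, ∃ x ∈ normalizer (T : Set G), cj x (R o) = R i := by
    intro i
    obtain ⟨x, hx, e⟩ := hA i
    exact ⟨x, h1 hx, e⟩
  obtain ⟨h, hh, H⟩ := b.mt o
  refine b.false_of_comm (h := h) (fun j k hj hk => (H j k hj hk).1) fun v hv => ?_
  apply b.o2_le_cen hM ht
  exact conj_mem_of_normalizer (le_normalizer_o2 _ (h2 hh)) (zc_le _ (b.V_le_zc_o2 hM ht hv))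

/-- **(0)** `P`, `N(R i)` normalise no 2-subgroup `≠ 1` -/
theorem HT.nonloc (i : ι) : NonLoc P (normalizer (R i : Set G)) := by
  intro T hT h1 h2
  obtain ⟨x, hx, e⟩ := b.P_trans i
  refine b.nonloc_o b.P_trans hT h1 ?_
  have h3 := cj_mono (g := x⁻¹) h2
  rwa [← normalizer_cj, ← normalizer_cj, cj_eq_self_iff.2 (h1 (inv_mem hx)), ← e, cj_inv_cj] at h3

/-! ### (4) -/

/-- `C_P(V)` centralises `Ω₁(Z(S))` -/
theorem HT.cen_zc {c z : G} (hc : c ∈ P) (hcV : c ∈ centralizer (V : Set G)) (hz : z ∈ zc (S : Subgroup G)) :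
    c * z = z * c := by
  have hsyl := MinSimple.Basic.not_dvd_relIndex S b.S_P
  -- `[zl, P] ≤ V`
  have hVP : P ≤ normalizer (V : Set G) := b.P_V
  have h1 : zl (S : Subgroup G) P ≤ V ⊔ zc (S : Subgroup G) := by
    refine zl_le le_sup_right ?_
    intro x hx
    rw [← cj_eq_self_iff]
    have key : ∀ x ∈ P, cj x (V ⊔ zc (S : Subgroup G)) ≤ V ⊔ zc (S : Subgroup G) := by
      intro x hx
      rw [cj_sup, cj_eq_self_iff.2 (hVP hx)]
      refine sup_le le_sup_left ?_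
      rw [cj_le_iff]
      intro z hz
      have e : x * z * x⁻¹ = x * z * x⁻¹ * z⁻¹ * z := by group
      rw [e]
      exact mul_mem (mem_sup_left (b.P_Z x hx z hz)) (mem_sup_right hz)
    apply le_antisymm (key x hx)
    have h2 := cj_mono (g := x) (key x⁻¹ (inv_mem hx))
    rwa [cj_cj_inv] at h2
  have hcomm : ∀ v ∈ V, ∀ z ∈ zc (S : Subgroup G), v * z = z * v := fun v hv z hz =>
    (mem_zc.1 hz).2.1 v (b.V_le_S hv)
  -- decomposition of the elements of `V ⊔ Z`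
  have hdec : ∀ w ∈ V ⊔ zc (S : Subgroup G), ∃ v ∈ V, ∃ z ∈ zc (S : Subgroup G), w = v * z := by
    intro w hw
    have h3 : zc (S : Subgroup G) ≤ normalizer (V : Set G) := (zc_le _).trans b.S_V
    rw [← SetLike.mem_coe, coe_mul_of_right_le_normalizer_left _ _ h3] at hw
    obtain ⟨v, hv, z, hz, rfl⟩ := hw
    exact ⟨v, hv, z, hz, rfl⟩
  have hsq : ∀ c ∈ P ⊓ centralizer (V : Set G), ∀ w ∈ V ⊔ zc (S : Subgroup G), c ^ 2 * w = w * c ^ 2 := by
    rintro c ⟨hc, hcV⟩ w hw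
    obtain ⟨v, hv, z, hz, rfl⟩ := hdec w hw
    set f := c * z * c⁻¹ * z⁻¹ with hf
    have hfV : f ∈ V := b.P_Z c hc z hz
    have h2 : c * f = f * c := (mem_centralizer_iff.1 hcV f hfV).symm
    have h3 : c * v = v * c := (mem_centralizer_iff.1 hcV v hv).symm
    have h4 : c * z = f * z * c := by rw [hf]; group
    have h5 : c ^ 2 * z = z * c ^ 2 := by
      calc c ^ 2 * z = c * (c * z) := by rw [pow_two, mul_assoc]
        _ = (c * f) * z * c := by rw [h4]; group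
        _ = f * (c * z) * c := by rw [h2]; group
        _ = (f * f) * z * c ^ 2 := by rw [h4, pow_two]; group
        _ = z * c ^ 2 := by rw [b.V_sq f hfV, one_mul]
    have h6 : c ^ 2 * v = v * c ^ 2 := (show Commute c v from h3).pow_left 2
    calc c ^ 2 * (v * z) = (c ^ 2 * v) * z := by group
      _ = v * (c ^ 2 * z) := by rw [h6]; group
      _ = v * z * c ^ 2 := by rw [h5]; group
  have h7 : P ⊓ centralizer (V : Set G) ≤ centralizer (zl (S : Subgroup G) P : Set G) := by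
    refine MinSimple.Basic.le_centralizer_zl_of_pow b.S_P S.isPGroup' hsyl inf_le_left ?_ ?_
    · intro g hg
      have h8 := normalizer_le_normalizer_centralizer V (hVP hg)
      rw [← cj_eq_self_iff] at h8 ⊢
      rw [cj_inf, h8, cj_of_mem hg]
    · intro x hx
      refine ⟨1, ?_⟩
      rw [pow_one, mem_centralizer_iff]
      exact fun w hw => (hsq x hx w (h1 hw)).symm
  exact (mem_centralizer_iff.1 (h7 ⟨hc, hcV⟩) z (zc_le_zl _ _ hz)).symm

/-- `N_P(R o)` centralises `Ω₁(Z(S))` -/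
theorem HT.norm_zc {c z : G} (hc : c ∈ P) (hcR : c ∈ normalizer (R o : Set G))
    (hz : z ∈ zc (S : Subgroup G)) : c * z = z * c := by
  obtain ⟨j, k, hj, hk, hjk⟩ := b.one_lt
  obtain ⟨l, hl⟩ := b.perm c (b.P_V hc) j
  have hlo : l ≠ o := by
    rintro rfl
    exact hj (b.R_index (cj_injective (hl.trans (cj_eq_self_iff.2 hcR).symm)))
  obtain ⟨w, hw, e⟩ := b.trans o hlo hj
  have h1 : w * c ∈ normalizer (R j : Set G) := by
    rw [← cj_eq_self_iff, cj_mul, hl, e]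
  have h2 : w * c ∈ normalizer (R o : Set G) := mul_mem (b.W_le_N o hw) hcR
  have hwP : w ∈ P := b.W_le_P o hw
  have h3 := b.cen_zc (mul_mem hwP hc) (b.cen_of_norm_two hj h1 h2) hz
  have h4 : w * z = z * w := (mem_zc.1 hz).2.1 w (b.W_le_S hw)
  have h5 : w * (c * z) = w * (z * c) := by
    calc w * (c * z) = w * c * z := by group
      _ = z * (w * c) := h3
      _ = (z * w) * c := by group
      _ = w * (z * c) := by rw [← h4]; group
  exact mul_left_cancel h5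

/-- **(4)** every `z ∈ Ω₁(Z(S))` is the product of an element of `R o` and an element of `C_Z(P)` -/
theorem HT.exists_zc {z : G} (hz : z ∈ zc (S : Subgroup G)) :
    ∃ r ∈ R o, ∃ y ∈ zc (S : Subgroup G) ⊓ centralizer (P : Set G), z = r * y := by
  obtain ⟨j, k, hj, hk, hjk⟩ := b.one_lt
  obtain ⟨x, hx, ex⟩ := b.P_trans j
  obtain ⟨y, hy, ey⟩ := b.P_trans k
  -- the conjugate of `z` by `g ∈ P` depends only on `(R o)^g`
  have hdep : ∀ g ∈ P, ∀ g' ∈ P, cj g (R o) = cj g' (R o) → g * z * g⁻¹ = g' * z * g'⁻¹ := by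
    intro g hg g' hg' h
    have h1 : g'⁻¹ * g ∈ normalizer (R o : Set G) := by
      rw [← cj_eq_self_iff, cj_mul, h, cj_inv_cj]
    have h2 := b.norm_zc (mul_mem (inv_mem hg') hg) h1 hz
    have h3 : g'⁻¹ * g * z * (g'⁻¹ * g)⁻¹ = z := by rw [h2]; group
    calc g * z * g⁻¹ = g' * (g'⁻¹ * g * z * (g'⁻¹ * g)⁻¹) * g'⁻¹ := by group
      _ = g' * z * g'⁻¹ := by rw [h3]
  -- the three conjugates lie in `V z`
  have hV : ∀ g ∈ P, ∃ v ∈ V, g * z * g⁻¹ = v * z := fun g hg =>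
    ⟨_, b.P_Z g hg z hz, by group⟩
  have hzV : ∀ v ∈ V, v * z = z * v := fun v hv => (mem_zc.1 hz).2.1 v (b.V_le_S hv)
  have hz2 : z * z = 1 := by rw [← pow_two]; exact (mem_zc.1 hz).2.2
  have hcm : ∀ g ∈ P, ∀ g' ∈ P, g * z * g⁻¹ * (g' * z * g'⁻¹) = g' * z * g'⁻¹ * (g * z * g⁻¹) := by
    intro g hg g' hg'
    obtain ⟨v, hv, e⟩ := hV g hg
    obtain ⟨v', hv', e'⟩ := hV g' hg'
    rw [e, e']
    calc v * z * (v' * z) = v * (z * v') * z := by group
      _ = v * v' * (z * z) := by rw [← hzV v' hv']; group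
      _ = v' * v * (z * z) := by rw [b.V_comm v hv v' hv']
      _ = v' * (v * z) * z := by group
      _ = v' * (z * v) * z := by rw [hzV v hv]
      _ = v' * z * (v * z) := by group
  set t := z * (x * z * x⁻¹) * (y * z * y⁻¹) with ht
  obtain ⟨v₁, hv₁, e₁⟩ := hV x hx
  obtain ⟨v₂, hv₂, e₂⟩ := hV y hy
  have htv : t = v₁ * v₂ * z := by
    rw [ht, e₁, e₂]
    calc z * (v₁ * z) * (v₂ * z) = (z * v₁) * (z * v₂) * z := by group
      _ = (v₁ * z) * (v₂ * z) * z := by rw [← hzV v₁ hv₁, ← hzV v₂ hv₂]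
      _ = v₁ * (z * v₂) * (z * z) := by group
      _ = v₁ * v₂ * z := by rw [← hzV v₂ hv₂, hz2]; group
  -- `t` is centralised by `P`
  have htP : t ∈ centralizer (P : Set G) := by
    rw [mem_centralizer_iff]
    intro g hg
    have hg : g ∈ P := hg
    suffices h : g * t * g⁻¹ = t by
      rw [mul_inv_eq_iff_eq_mul] at h
      exact h
    have h1 : g * t * g⁻¹ = (g * z * g⁻¹) * ((g * x) * z * (g * x)⁻¹) * ((g * y) * z * (g * y)⁻¹) := by
      rw [ht]; group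
    rw [h1]
    have hgx := mul_mem hg hx
    have hgy := mul_mem hg hy
    -- the points `(R o)^g, (R j)^g, (R k)^g` are all the points
    obtain ⟨a₀, ha₀⟩ := b.perm g (b.P_V hg) o
    obtain ⟨a₁, ha₁⟩ := b.perm g (b.P_V hg) j
    obtain ⟨a₂, ha₂⟩ := b.perm g (b.P_V hg) k
    have n01 : a₀ ≠ a₁ := by
      rintro rfl
      exact hj (b.R_index (cj_injective (ha₁.trans ha₀.symm)))
    have n02 : a₀ ≠ a₂ := by
      rintro rfl
      exact hk (b.R_index (cj_injective (ha₂.trans ha₀.symm)))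
    have n12 : a₁ ≠ a₂ := by
      rintro rfl
      exact hjk (b.R_index (cj_injective (ha₁.trans ha₂.symm)))
    have hx' : cj (g * x) (R o) = R a₁ := by rw [cj_mul, ex, ha₁]
    have hy' : cj (g * y) (R o) = R a₂ := by rw [cj_mul, ey, ha₂]
    -- values
    have val : ∀ h ∈ P, ∀ a, cj h (R o) = R a →
        (a = o → h * z * h⁻¹ = z) ∧ (a = j → h * z * h⁻¹ = x * z * x⁻¹) ∧
        (a = k → h * z * h⁻¹ = y * z * y⁻¹) := by
      intro h hh a e
      refine ⟨?_, ?_, ?_⟩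
      · rintro rfl
        have := hdep h hh 1 (one_mem P) (by rw [e, cj_one])
        rw [this]; group
      · rintro rfl
        exact hdep h hh x hx (e.trans ex.symm)
      · rintro rfl
        exact hdep h hh y hy (e.trans ey.symm)
    obtain ⟨A0, A1, A2⟩ := val g hg a₀ ha₀
    obtain ⟨B0, B1, B2⟩ := val (g * x) hgx a₁ hx'
    obtain ⟨C0, C1, C2⟩ := val (g * y) hgy a₂ hy'
    have c1 := hcm 1 (one_mem P) x hx
    have c2 := hcm 1 (one_mem P) y hy
    have c3 := hcm x hx y hy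
    rw [one_mul, inv_one, mul_one] at c1 c2
    rw [ht]
    generalize x * z * x⁻¹ = p at *
    generalize y * z * y⁻¹ = q at *
    have d := fun l => b.eq_of_ne (l := l) (Ne.symm hj) (Ne.symm hk) hjk
    rcases d a₀ with h0 | h0 | h0 <;> rcases d a₁ with h1 | h1 | h1 <;>
      rcases d a₂ with h2 | h2 | h2 <;>
      first
      | exact absurd (h0.trans h1.symm) n01
      | exact absurd (h0.trans h2.symm) n02
      | exact absurd (h1.trans h2.symm) n12
      | skip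
    · rw [A0 h0, B1 h1, C2 h2]
    · rw [A0 h0, B2 h1, C1 h2, mul_assoc, ← c3, ← mul_assoc]
    · rw [A1 h0, B0 h1, C2 h2, c1]
    · rw [A1 h0, B2 h1, C0 h2, mul_assoc, ← c2, ← mul_assoc, ← c1]
    · rw [A2 h0, B0 h1, C1 h2, ← c2, mul_assoc, ← c3, ← mul_assoc]
    · rw [A2 h0, B1 h1, C0 h2, ← c3, mul_assoc, ← c2, ← mul_assoc, ← c1]
  have hvS : v₁ * v₂ ∈ V := mul_mem hv₁ hv₂
  -- `v₁ v₂ ∈ V ∩ C(S) = R o`
  have hvc : ∀ s ∈ (S : Subgroup G), s * (v₁ * v₂) = v₁ * v₂ * s := by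
    intro s hs
    have h1 : s * t = t * s := mem_centralizer_iff.1 htP s (b.S_P hs)
    have h2 : s * z = z * s := (mem_zc.1 hz).2.1 s hs
    rw [htv] at h1
    apply mul_right_cancel (b := z)
    calc s * (v₁ * v₂) * z = s * (v₁ * v₂ * z) := by group
      _ = v₁ * v₂ * (z * s) := by rw [h1]; group
      _ = v₁ * v₂ * s * z := by rw [← h2]; group
  have hvR : v₁ * v₂ ∈ R o := by
    obtain ⟨i, hi⟩ := b.R_cov _ hvS
    by_cases hio : i = o
    · rwa [hio] at hi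
    obtain ⟨m, hm1, hm2⟩ := b.third o i
    obtain ⟨w, hw, e⟩ := b.trans o hio hm1
    have h1 : w * (v₁ * v₂) * w⁻¹ = v₁ * v₂ := by rw [hvc w (b.W_le_S hw)]; group
    have h2 : v₁ * v₂ ∈ R m := by
      rw [← e, ← h1]
      exact conj_mem_cj hi
    rw [b.eq_one (Ne.symm hm2) hi h2]
    exact one_mem _
  refine ⟨(v₁ * v₂)⁻¹, inv_mem hvR, t, ⟨?_, htP⟩, by rw [htv]; group⟩
  rw [htv]
  refine mem_zc.2 ⟨mul_mem (b.V_le_S hvS) (zc_le _ hz), fun s hs => ?_, ?_⟩
  · calc s * (v₁ * v₂ * z) = (s * (v₁ * v₂)) * z := by group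
      _ = v₁ * v₂ * (s * z) := by rw [hvc s hs]; group
      _ = v₁ * v₂ * z * s := by rw [(mem_zc.1 hz).2.1 s hs]; group
  · rw [pow_two]
    calc v₁ * v₂ * z * (v₁ * v₂ * z) = (v₁ * v₂ * z) * (z * (v₁ * v₂)) := by rw [hzV _ hvS]
      _ = v₁ * v₂ * (z * z) * (v₁ * v₂) := by group
      _ = 1 := by rw [hz2, mul_one, b.V_sq _ hvS]

/-- **(4)** `Ω₁(Z(S)) = R o C_Z(P)` -/
theorem HT.zc_eq : zc (S : Subgroup G) = R o ⊔ (zc (S : Subgroup G) ⊓ centralizer (P : Set G)) := by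
  apply le_antisymm
  · intro z hz
    obtain ⟨r, hr, y, hy, rfl⟩ := b.exists_zc hz
    exact mul_mem (mem_sup_left hr) (mem_sup_right hy)
  · refine sup_le ?_ inf_le_left
    intro r hr
    refine mem_zc.2 ⟨b.V_le_S (b.R_le o hr), fun s hs => ?_, by rw [pow_two]; exact b.V_sq r (b.R_le o hr)⟩
    exact (mem_centralizer_iff.1 (normalizer_le_cen_of_card (b.card_R o) (b.S_R hs)) r hr).symm

theorem HT.R_le_zc : R o ≤ zc (S : Subgroup G) := le_sup_left.trans_eq b.zc_eq.symm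

/-- `C_Z(P) ≤ C(X)` -/
theorem HT.cz_le : zc (S : Subgroup G) ⊓ centralizer (P : Set G) ≤ centralizer (XX V R : Set G) :=
  inf_le_right.trans (centralizer_le b.X_le_P)

/-- `C_Z(P) = Z ∩ C(X)` -/
theorem HT.cz_eq : zc (S : Subgroup G) ⊓ centralizer (P : Set G) =
    zc (S : Subgroup G) ⊓ centralizer (XX V R : Set G) := by
  apply le_antisymm (le_inf inf_le_left b.cz_le)
  rintro z ⟨hz, hzX⟩
  obtain ⟨r, hr, y, hy, rfl⟩ := b.exists_zc hz
  have h1 : r ∈ centralizer (XX V R : Set G) := by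
    have := (centralizer (XX V R : Set G)).mul_mem hzX ((centralizer (XX V R : Set G)).inv_mem (b.cz_le hy))
    rwa [mul_inv_cancel_right] at this
  rw [b.cen_VX (b.R_le o hr) h1, one_mul]
  exact hy

/-- `R o ∩ C_Z(P) = 1` -/
theorem HT.R_inf_cz : V ⊓ (zc (S : Subgroup G) ⊓ centralizer (P : Set G)) = ⊥ := by
  rw [eq_bot_iff]
  rintro z ⟨hz, hz'⟩
  exact b.cen_VX hz (b.cz_le hz')

/-- `C_{C_Z(P)}(N(R o)) = 1` -/
theorem HT.exists_conj_ne {z : G} (hz : z ∈ zc (S : Subgroup G) ⊓ centralizer (P : Set G)) (hz1 : z ≠ 1) :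
    ∃ h ∈ normalizer (R o : Set G), h * z * h⁻¹ ≠ z := by
  by_contra hc
  push Not at hc
  have hT : IsPGroup 2 (zpowers z) := MinSimple.Basic.isPGroup_zpowers (mem_zc.1 hz.1).2.2
  have hP : P ≤ normalizer (zpowers z : Set G) := by
    rw [MinSimple.Basic.normalizer_zpowers_eq (mem_zc.1 hz.1).2.2]
    intro g hg
    rw [mem_centralizer_singleton_iff]
    exact mem_centralizer_iff.1 hz.2 g hg
  have hN : normalizer (R o : Set G) ≤ normalizer (zpowers z : Set G) := by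
    rw [MinSimple.Basic.normalizer_zpowers_eq (mem_zc.1 hz.1).2.2]
    intro g hg
    rw [mem_centralizer_singleton_iff]
    exact mul_inv_eq_iff_eq_mul.1 (hc g hg)
  exact hz1 (zpowers_eq_bot.1 (b.nonloc_o b.P_trans hT hP hN))

/-! ### the modules `U` and `N_1` -/

theorem HT.isLoc_cen {z : G} (hz : z ∈ zc (S : Subgroup G)) (hz1 : z ≠ 1) :
    IsLoc (S : Subgroup G) (centralizer ({z} : Set G)) := by
  have _ := b
  refine isLoc_centralizer S (mem_zc.1 hz).2.2 hz1 ?_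
  intro g hg
  rw [mem_centralizer_singleton_iff]
  exact (mem_zc.1 hz).2.1 g hg

theorem HT.P_le_cen {z : G} (hz : z ∈ zc (S : Subgroup G) ⊓ centralizer (P : Set G)) :
    P ≤ centralizer ({z} : Set G) := by
  have _ := b
  intro g hg
  rw [mem_centralizer_singleton_iff]
  exact mem_centralizer_iff.1 hz.2 g hg

theorem HT.X_le_cen {z : G} (hz : z ∈ zc (S : Subgroup G) ⊓ centralizer (P : Set G)) :
    XX V R ≤ centralizer ({z} : Set G) := b.X_le_P.trans (b.P_le_cen hz)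

theorem HT.trans_of_X {M : Subgroup G} (h : XX V R ≤ M) (i : ι) : ∃ x ∈ M, cj x (R o) = R i := by
  obtain ⟨x, hx, e⟩ := b.trans_X_one o i
  exact ⟨x, h hx, e⟩

/-- `⟨V^M⟩ ≤ Ω₁(Z(O₂(M)))`, `M` local containing `S` and transitive on the points -/
theorem HT.cl_V_le {M : Subgroup G} (hM : IsLoc (S : Subgroup G) M)
    (ht : ∀ i, ∃ x ∈ M, cj x (R o) = R i) : cl V M ≤ zc (o2 M) :=
  cl_le (b.V_le_zc_o2 hM ht) ((le_normalizer_o2 M).trans (normalizer_le_normalizer_zc _))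

/-- `⟨(R o)^M⟩ = ⟨V^M⟩` -/
theorem HT.cl_R_eq {M : Subgroup G} (ht : ∀ i, ∃ x ∈ M, cj x (R o) = R i) : cl (R o) M = cl V M := by
  apply le_antisymm
  · exact cl_le ((b.R_le o).trans (le_cl V M)) (le_normalizer_cl V M)
  · refine cl_le ?_ (le_normalizer_cl _ M)
    obtain ⟨i, j, hij⟩ := b.exists_pair
    rw [← b.R_sup i j hij]
    obtain ⟨x, hx, ex⟩ := ht i
    obtain ⟨y, hy, ey⟩ := ht j
    rw [← ex, ← ey]
    exact sup_le (cj_le_cl hx) (cj_le_cl hy)

/-- `Ω₁(Z(S)) ≤ Ω₁(Z(Q o))` -/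
theorem HT.zc_le_zc_Q : zc (S : Subgroup G) ≤ zc (QQ (R o)) :=
  zc_le_zc_o2 b.S_R S.isPGroup' (MinSimple.Basic.not_dvd_relIndex S b.S_R) (b.cenQ o)

/-- `⟨z^{N(R o)}⟩ ≤ Ω₁(Z(Q o))` -/
theorem HT.cl_z_le {z : G} (hz : z ∈ zc (S : Subgroup G)) :
    cl (zpowers z) (normalizer (R o : Set G)) ≤ zc (QQ (R o)) := by
  refine cl_le ?_ ((le_normalizer_O2 _).trans (normalizer_le_normalizer_zc _))
  rw [zpowers_le]
  exact b.zc_le_zc_Q hz

omit [Finite G] in
theorem HT.zc_Q_le (i : ι) : zc (QQ (R i)) ≤ centralizer (WW V (R i) : Set G) :=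
  (zc_le_centralizer _).trans (centralizer_le (b.W_le_Q i))

omit [Finite G] in
theorem HT.zc_Q_le' (i : ι) : zc (QQ (R i)) ≤ QQ (R i) := by
  have _ := b
  exact zc_le _

end two

end Cfsg.Agent.Omega.HOneTwo

end

section


/-!
# The situation of II.0h1, `q = 2`, over a 2-group `S` which is Sylow in `N(R o)` (not in `G`)

`HTT S P V R o`: as `HT`, but `S : Subgroup G` is a 2-group of odd index in `N(R o)`, and `loc` :
`O₂(M)` centralises `V` for every `M ≥ S, X` of characteristic 2 with `O₂(M) ≠ 1`.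
The API of `HT` (file `HOneTwo/Basic`) with the same names; `TLoc S M` : `M ≥ S` is 2-local.
-/

set_option autoImplicit false
set_option linter.unusedSectionVars false

namespace Cfsg.Agent.Omega.HT

open Subgroup Cfsg Cfsg.Agent.ZN Cfsg.Agent.MinSimple.VModule Cfsg.Agent.Omega.BTwo
open Cfsg.Agent.Omega.MinPar
open Cfsg.Agent.Omega.HOneTwo (cl cj_le_cl le_cl le_normalizer_cl cl_le WW_eq_cl eq_of_card_two
  normalizer_le_cen_of_card)

universe u

variable {G : Type u} [Group G] {ι : Type*}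

/-- the situation of II.0h1 for `q = 2`, over a 2-group `S` -/
structure HTT (S P V : Subgroup G) (R : ι → Subgroup G) (o : ι) : Prop extends BT V R where
  card_R : ∀ i, Nat.card (R i) = 2
  char2 : IsCharacteristicTwoType G
  S_p : IsPGroup 2 S
  S_odd : ¬ 2 ∣ S.relIndex (normalizer (R o : Set G))
  S_V : S ≤ normalizer (V : Set G)
  S_R : S ≤ normalizer (R o : Set G)
  S_P : S ≤ P
  P_V : P ≤ normalizer (V : Set G)
  P_trans : ∀ i, ∃ x ∈ P, cj x (R o) = R i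
  P_Z : ∀ x ∈ P, ∀ z ∈ zc S, x * z * x⁻¹ * z⁻¹ ∈ V
  loc : ∀ M : Subgroup G, S ≤ M → XX V R ≤ M → o2 M ≠ ⊥ → M ⊓ centralizer (o2 M : Set G) ≤ o2 M →
    o2 M ≤ centralizer (V : Set G)

/-- `M` is a 2-local subgroup containing `S` -/
structure TLoc (S M : Subgroup G) : Prop where
  le : S ≤ M
  loc : IsTwoLocal M

theorem TLoc.o2_ne {S M : Subgroup G} (h : TLoc S M) : o2 M ≠ ⊥ := by
  obtain ⟨U, hU, hU1, rfl⟩ := h.loc
  exact o2_ne_bot_of_le hU hU1 le_normalizer le_rfl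

theorem TLoc.char2 {S M : Subgroup G} (h : TLoc S M) (hG : IsCharacteristicTwoType G) :
    M ⊓ centralizer (o2 M : Set G) ≤ o2 M := by
  obtain ⟨U, hU, hU1, rfl⟩ := h.loc
  exact MinSimple.Basic.char2_normalizer hG hU hU1

theorem TLoc.normalizer {S U : Subgroup G} (hU : IsPGroup 2 U) (hU1 : U ≠ ⊥)
    (h : S ≤ Subgroup.normalizer (U : Set G)) : TLoc S (Subgroup.normalizer (U : Set G)) :=
  ⟨h, U, hU, hU1, rfl⟩

theorem TLoc.centralizer {S : Subgroup G} {z : G} (hz : z ^ 2 = 1) (hz1 : z ≠ 1)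
    (h : S ≤ Subgroup.centralizer ({z} : Set G)) : TLoc S (Subgroup.centralizer ({z} : Set G)) := by
  have h1 := TLoc.normalizer (S := S) (MinSimple.Basic.isPGroup_zpowers hz)
    (fun h => hz1 (zpowers_eq_bot.mp h)) (by rw [MinSimple.Basic.normalizer_zpowers_eq hz]; exact h)
  rwa [MinSimple.Basic.normalizer_zpowers_eq hz] at h1

/-! ### 2-groups -/

/-- an involution of a nontrivial 2-group `E` normalised by the 2-group `T`, central in `T` -/
theorem exists_inv [Finite G] {T E : Subgroup G} (hT : IsPGroup 2 T) (hE : IsPGroup 2 E) (hE1 : E ≠ ⊥)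
    (hTE : T ≤ normalizer (E : Set G)) : ∃ e ∈ E, e ≠ 1 ∧ e * e = 1 ∧ ∀ s ∈ T, e * s = s * e := by
  obtain ⟨S, hS⟩ : ∃ S : Subgroup G, S = E ⊔ T := ⟨_, rfl⟩
  have hSp : IsPGroup 2 S := by
    rw [hS]; exact IsPGroup.to_sup_of_normal_left' hE hT hTE
  have hES : E ≤ S := by rw [hS]; exact le_sup_left
  have hTS : T ≤ S := by rw [hS]; exact le_sup_right
  have hSE : S ≤ normalizer (E : Set G) := by rw [hS]; exact sup_le le_normalizer hTE
  -- `E` is normal in `S`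
  have hn : (E.subgroupOf S).Normal := by
    refine ⟨?_⟩
    rintro ⟨x, hxS⟩ hx ⟨g, hg⟩
    exact mem_subgroupOf.2 (conj_mem_of_normalizer (hSE hg) (mem_subgroupOf.1 hx))
  have hne : E.subgroupOf S ≠ ⊥ := by
    intro h
    rw [subgroupOf_eq_bot, disjoint_iff, inf_eq_left.2 hES] at h
    exact hE1 h
  have : Fact (Nat.Prime 2) := ⟨Nat.prime_two⟩
  have : Group.IsNilpotent S := hSp.isNilpotent
  have h1 := Lib.NormalAbelian.normal_inf_center_ne_bot (E.subgroupOf S) hne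
  obtain ⟨x, hx1⟩ := (Subgroup.ne_bot_iff_exists_ne_one).mp h1
  have hx := x.2
  obtain ⟨k, hk⟩ := hSp (x : S)
  have hx1' : (x : S) ≠ 1 := fun e => hx1 (Subtype.ext e)
  have hex : ∃ n : ℕ, (x : S) ^ 2 ^ n = 1 := ⟨k, hk⟩
  classical
  set n := Nat.find hex with hn'
  have hn1 : (x : S) ^ 2 ^ n = 1 := Nat.find_spec hex
  have hn0 : n ≠ 0 := by
    intro e
    rw [e] at hn1
    apply hx1'
    simpa using hn1
  obtain ⟨m, hm⟩ := Nat.exists_eq_succ_of_ne_zero hn0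
  set y := (x : S) ^ 2 ^ m with hy
  have hy1 : y ≠ 1 := Nat.find_min hex (by omega)
  have hy2 : y * y = 1 := by
    rw [hy, ← pow_two, ← pow_mul, ← pow_succ]
    rw [hm] at hn1
    exact hn1
  have hyU : y ∈ E.subgroupOf S := pow_mem hx.1 _
  have hyC : y ∈ center S := pow_mem hx.2 _
  refine ⟨y, mem_subgroupOf.1 hyU, fun e => hy1 (Subtype.ext e), ?_, fun s hs => ?_⟩
  · exact congrArg Subtype.val hy2
  · exact (congrArg Subtype.val (mem_center_iff.1 hyC ⟨s, hTS hs⟩)).symm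

/-- `|T| ∣ |S|` for a 2-group `T ≤ N`, `S` of odd index in `N` -/
theorem card_dvd_card [Finite G] {S T N : Subgroup G} (hSN : S ≤ N) (hS : ¬ 2 ∣ S.relIndex N)
    (hT : IsPGroup 2 T) (hTN : T ≤ N) : Nat.card T ∣ Nat.card S := by
  have : Fact (Nat.Prime 2) := ⟨Nat.prime_two⟩
  obtain ⟨k, hk⟩ := IsPGroup.iff_card.1 hT
  have h1 : Nat.card T ∣ Nat.card N := card_dvd_of_le hTN
  have h2 : Nat.card S * S.relIndex N = Nat.card N := by
    rw [← relIndex_bot_left, ← relIndex_bot_left N]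
    exact relIndex_mul_relIndex _ _ _ bot_le hSN
  rw [← h2] at h1
  refine Nat.Coprime.dvd_of_dvd_mul_right ?_ h1
  rw [hk]
  exact Nat.Coprime.pow_left k ((Nat.Prime.coprime_iff_not_dvd Nat.prime_two).2 hS)

/-- a 2-subgroup `S ≤ P` lies in a 2-subgroup of odd index of `P` -/
theorem exists_syl [Finite G] {S P : Subgroup G} (hS : IsPGroup 2 S) (hSP : S ≤ P) :
    ∃ T : Subgroup G, S ≤ T ∧ T ≤ P ∧ IsPGroup 2 T ∧ ¬ 2 ∣ T.relIndex P := by
  have hf : Fact (Nat.Prime 2) := ⟨Nat.prime_two⟩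
  have h1 : IsPGroup 2 (S.subgroupOf P) := hS.comap_of_injective _ P.subtype_injective
  obtain ⟨Q, hQ⟩ := h1.exists_le_sylow
  refine ⟨(Q : Subgroup P).map P.subtype, ?_, map_subtype_le _, Q.isPGroup'.map _, ?_⟩
  · have := Subgroup.map_mono (f := P.subtype) hQ
    rwa [subgroupOf_map_subtype, inf_eq_left.2 hSP] at this
  · have h2 : ((Q : Subgroup P).map P.subtype).subgroupOf P = (Q : Subgroup P) := by
      rw [subgroupOf, comap_map_eq_self_of_injective P.subtype_injective]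
    rw [relIndex, h2]
    exact Q.not_dvd_index

/-- `S` of odd index in `N`, `P ≤ N(E)`, `E ≠ 1` a 2-group, ... -/
theorem odd_of_fix [Finite G] {S P N : Subgroup G} (hSp : IsPGroup 2 S) (hSP : S ≤ P) (hSN : S ≤ N)
    (hodd : ¬ 2 ∣ S.relIndex N)
    (h : ∀ T : Subgroup G, T ≤ P → IsPGroup 2 T → ∃ x : G, cj x T ≤ N) : ¬ 2 ∣ S.relIndex P := by
  obtain ⟨T, h1, h2, h3, h4⟩ := exists_syl hSp hSP
  obtain ⟨x, hx⟩ := h T h2 h3
  have h5 : IsPGroup 2 (cj x T : Subgroup G) := h3.map _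
  have h6 := Nat.le_of_dvd Nat.card_pos (card_dvd_card hSN hodd h5 hx)
  rw [card_cj] at h6
  have h7 : S = T := eq_of_le_of_card_ge h1 h6
  rw [h7]
  exact h4

/-! ### groups of order 2 -/

section two

variable {S P V : Subgroup G} {R : ι → Subgroup G} {o : ι}

variable (b : HTT S P V R o)
include b

/-- the nontrivial element of a point -/
theorem HTT.exists_gen (i : ι) : ∃ r, r ≠ 1 ∧ r * r = 1 ∧ ∀ x, x ∈ R i ↔ x = 1 ∨ x = r := by
  obtain ⟨r, hr, hr1⟩ := b.exists_ne i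
  refine ⟨r, hr1, b.V_sq r (b.R_le i hr), fun x => ⟨fun hx => ?_, ?_⟩⟩
  · by_contra hc
    push Not at hc
    exact hc.2 (eq_of_card_two (b.card_R i) hr hr1 hx hc.1)
  · rintro (rfl | rfl)
    · exact one_mem _
    · exact hr

/-- an element normalising all the points centralises `V` -/
theorem HTT.cen_of_norm {g : G} (h : ∀ i, g ∈ normalizer (R i : Set G)) : g ∈ centralizer (V : Set G) := by
  obtain ⟨i, j, hij⟩ := b.exists_pair
  rw [← b.R_sup i j hij]
  exact mem_cen_sup (normalizer_le_cen_of_card (b.card_R i) (h i))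
    (normalizer_le_cen_of_card (b.card_R j) (h j))

theorem HTT.cen_of_norm_two {i j : ι} (hij : i ≠ j) {g : G} (hi : g ∈ normalizer (R i : Set G))
    (hj : g ∈ normalizer (R j : Set G)) : g ∈ centralizer (V : Set G) := by
  rw [← b.R_sup i j hij]
  exact mem_cen_sup (normalizer_le_cen_of_card (b.card_R i) hi)
    (normalizer_le_cen_of_card (b.card_R j) hj)

/-- there are three points -/
theorem HTT.eq_of_ne {i j k l : ι} (hij : i ≠ j) (hik : i ≠ k) (hjk : j ≠ k) : l = i ∨ l = j ∨ l = k := by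
  by_contra hc
  push Not at hc
  obtain ⟨hli, hlj, hlk⟩ := hc
  obtain ⟨ri, hi1, hi2, hi⟩ := b.exists_gen i
  obtain ⟨rj, hj1, hj2, hj⟩ := b.exists_gen j
  -- the elements of `V` are `1, ri, rj, ri rj`
  have hV : ∀ v ∈ V, v ∈ R i ∨ v ∈ R j ∨ v = ri * rj := by
    intro v hv
    obtain ⟨a, ha, c, hc, rfl⟩ := b.exists_mul hij hv
    rcases (hi a).1 ha with rfl | rfl
    · rw [one_mul]; exact Or.inr (Or.inl hc)
    · rcases (hj c).1 hc with rfl | rfl
      · rw [mul_one]; exact Or.inl ha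
      · exact Or.inr (Or.inr rfl)
  have key : ∀ m, m ≠ i → m ≠ j → ri * rj ∈ R m := by
    intro m hmi hmj
    obtain ⟨x, hx, hx1⟩ := b.exists_ne m
    rcases hV x (b.R_le m hx) with h | h | h
    · exact absurd (b.eq_one hmi hx h) hx1
    · exact absurd (b.eq_one hmj hx h) hx1
    · rwa [h] at hx
  have h1 := b.eq_one hlk (key l hli hlj) (key k (Ne.symm hik) (Ne.symm hjk))
  have h2 : ri = rj := by
    rw [mul_eq_one_iff_eq_inv, b.inv_eq (b.R_le j ((hj rj).2 (Or.inr rfl)))] at h1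
    exact h1
  exact hi1 (b.eq_one hij ((hi ri).2 (Or.inr rfl)) (by rw [h2]; exact (hj rj).2 (Or.inr rfl)))

theorem HTT.one_lt : ∃ j k : ι, j ≠ o ∧ k ≠ o ∧ j ≠ k := by
  obtain ⟨j, hj, -⟩ := b.third o o
  obtain ⟨k, hk, hk'⟩ := b.third o j
  exact ⟨j, k, hj, hk, Ne.symm hk'⟩

theorem HTT.isLoc_N : TLoc S (normalizer (R o : Set G)) :=
  TLoc.normalizer (by
    intro x
    refine ⟨1, ?_⟩
    rw [pow_one, pow_two]
    exact Subtype.ext (b.V_sq _ (b.R_le o x.2))) (b.R_ne o) b.S_R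

variable [Finite G]

theorem HTT.Q_le_S : QQ (R o) ≤ S := o2_le_of_sylow b.S_p b.S_odd

theorem HTT.S_ne : S ≠ ⊥ := by
  intro h
  have h2 := ((b.R_le o).trans (b.V_Q o)).trans b.Q_le_S
  rw [h] at h2
  exact b.R_ne o (le_bot_iff.1 h2)

theorem HTT.W_le_S : WW V (R o) ≤ S := (b.W_le_Q o).trans b.Q_le_S

theorem HTT.V_le_S : V ≤ S := (V_le_WW V (R o)).trans b.W_le_S

theorem HTT.Q_le_P : QQ (R o) ≤ P := b.Q_le_S.trans b.S_P

theorem HTT.V_le_P : V ≤ P := b.V_le_S.trans b.S_P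

/-- `W i ≤ P` -/
theorem HTT.W_le_P (i : ι) : WW V (R i) ≤ P := by
  obtain ⟨x, hx, e⟩ := b.P_trans i
  rw [← b.cj_WW e, cj_le_iff]
  exact fun w hw => mul_mem (mul_mem hx (b.W_le_S.trans b.S_P hw)) (inv_mem hx)

theorem HTT.X_le_P : XX V R ≤ P := iSup_le fun i => b.W_le_P i

/-- `C(Q i) ≤ Q i` in `N(R i)` -/
theorem HTT.cenQ (i : ι) : normalizer (R i : Set G) ⊓ centralizer (QQ (R i) : Set G) ≤ QQ (R i) := by
  obtain ⟨x, -, e⟩ := b.P_trans i
  have h1 : normalizer (R o : Set G) ⊓ centralizer (QQ (R o) : Set G) ≤ QQ (R o) :=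
    b.isLoc_N.char2 b.char2
  have h2 := cj_mono (g := x) h1
  rwa [cj_inf, ← normalizer_cj, ← centralizer_cj, b.cj_QQ e, e] at h2

/-- `O₂(M)` centralises `V` for a local `M ≥ S, X` -/
theorem HTT.o2_le_cen {M : Subgroup G} (hM : TLoc S M)
    (ht : XX V R ≤ M) : o2 M ≤ centralizer (V : Set G) :=
  b.loc M hM.le ht hM.o2_ne (hM.char2 b.char2)

theorem HTT.V_le_zc_o2 {M : Subgroup G} (hM : TLoc S M)
    (ht : XX V R ≤ M) : V ≤ zc (o2 M) := by
  have h1 := b.o2_le_cen hM ht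
  have h2 : V ≤ o2 M := by
    refine le_trans ?_ (hM.char2 b.char2)
    exact le_inf (b.V_le_S.trans hM.le) (le_centralizer_iff.1 h1)
  intro v hv
  refine mem_zc.2 ⟨h2 hv, fun c hc => ?_, by rw [pow_two]; exact b.V_sq v hv⟩
  exact (mem_centralizer_iff.1 (h1 hc) v hv).symm

/-- `V` is not normalised together with ... : a subgroup `T` with `V ≤ C(V^h)`, `h` as in `mt`, is impossible -/
theorem HTT.false_of_comm {h : G} (hh : ∀ j k, j ≠ o → k ≠ o → ∃ v ∈ V, cj (h * v * h⁻¹) (R j) = R k)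
    (hc : ∀ v ∈ V, h * v * h⁻¹ ∈ centralizer (V : Set G)) : False := by
  obtain ⟨j, k, hj, hk, hjk⟩ := b.one_lt
  obtain ⟨v, hv, e⟩ := hh j k hj hk
  have h1 : cj (h * v * h⁻¹) (R j) = R j := by
    rw [cj_eq_self_iff]
    exact centralizer_le_normalizer _ (centralizer_le (b.R_le j) (hc v hv))
  exact hjk (b.R_index (h1.symm.trans e))

/-- `S` has odd index in `P` -/
theorem HTT.P_odd : ¬ 2 ∣ S.relIndex P := by
  refine odd_of_fix b.S_p b.S_P b.S_R b.S_odd fun T hTP hT => ?_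
  have hVp : IsPGroup 2 V := by
    intro x
    refine ⟨1, ?_⟩
    rw [pow_one, pow_two]
    exact Subtype.ext (b.V_sq _ x.2)
  have hV1 : V ≠ ⊥ := fun h => b.R_ne o (le_bot_iff.1 ((b.R_le o).trans_eq h))
  obtain ⟨v, hv, hv1, -, hc⟩ := exists_inv hT hVp hV1 (hTP.trans b.P_V)
  obtain ⟨i, hi⟩ := b.R_cov v hv
  obtain ⟨x, hx, e⟩ := b.P_trans i
  refine ⟨x⁻¹, ?_⟩
  have h1 : T ≤ normalizer (R i : Set G) := by
    intro t ht
    obtain ⟨r, hr1, hr2, hr⟩ := b.exists_gen i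
    have hvr : v = r := ((hr v).1 hi).resolve_left hv1
    refine centralizer_le_normalizer _ (mem_centralizer_iff.2 fun y hy => ?_)
    rcases (hr y).1 hy with rfl | rfl
    · rw [one_mul, mul_one]
    · rw [← hvr]; exact hc t ht
  have h2 := cj_mono (g := x⁻¹) h1
  rwa [← normalizer_cj, ← e, cj_inv_cj] at h2

/-- **(0)** no 2-subgroup `≠ 1` is normalised by `P` (or any overgroup of `S` transitive on the points) and
`N(R o)` -/
theorem HTT.nonloc_o {A T : Subgroup G} (hA : XX V R ≤ A) (hT : IsPGroup 2 T)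
    (h1 : A ≤ normalizer (T : Set G)) (h2 : normalizer (R o : Set G) ≤ normalizer (T : Set G)) :
    T = ⊥ := by
  by_contra hne
  have hM : TLoc S (normalizer (T : Set G)) :=
    TLoc.normalizer hT hne (b.S_R.trans h2)
  have ht : XX V R ≤ normalizer (T : Set G) := hA.trans h1
  obtain ⟨h, hh, H⟩ := b.mt o
  refine b.false_of_comm (h := h) (fun j k hj hk => (H j k hj hk).1) fun v hv => ?_
  apply b.o2_le_cen hM ht
  exact conj_mem_of_normalizer (le_normalizer_o2 _ (h2 hh)) (zc_le _ (b.V_le_zc_o2 hM ht hv))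

/-- **(0)** `P`, `N(R i)` normalise no 2-subgroup `≠ 1` -/
theorem HTT.nonloc (i : ι) : NonLoc P (normalizer (R i : Set G)) := by
  intro T hT h1 h2
  obtain ⟨x, hx, e⟩ := b.P_trans i
  refine b.nonloc_o b.X_le_P hT h1 ?_
  have h3 := cj_mono (g := x⁻¹) h2
  rwa [← normalizer_cj, ← normalizer_cj, cj_eq_self_iff.2 (h1 (inv_mem hx)), ← e, cj_inv_cj] at h3

/-! ### (4) -/

/-- `C_P(V)` centralises `Ω₁(Z(S))` -/
theorem HTT.cen_zc {c z : G} (hc : c ∈ P) (hcV : c ∈ centralizer (V : Set G)) (hz : z ∈ zc S) :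
    c * z = z * c := by
  have hsyl := b.P_odd
  -- `[zl, P] ≤ V`
  have hVP : P ≤ normalizer (V : Set G) := b.P_V
  have h1 : zl S P ≤ V ⊔ zc S := by
    refine zl_le le_sup_right ?_
    intro x hx
    rw [← cj_eq_self_iff]
    have key : ∀ x ∈ P, cj x (V ⊔ zc S) ≤ V ⊔ zc S := by
      intro x hx
      rw [cj_sup, cj_eq_self_iff.2 (hVP hx)]
      refine sup_le le_sup_left ?_
      rw [cj_le_iff]
      intro z hz
      have e : x * z * x⁻¹ = x * z * x⁻¹ * z⁻¹ * z := by group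
      rw [e]
      exact mul_mem (mem_sup_left (b.P_Z x hx z hz)) (mem_sup_right hz)
    apply le_antisymm (key x hx)
    have h2 := cj_mono (g := x) (key x⁻¹ (inv_mem hx))
    rwa [cj_cj_inv] at h2
  have hcomm : ∀ v ∈ V, ∀ z ∈ zc S, v * z = z * v := fun v hv z hz =>
    (mem_zc.1 hz).2.1 v (b.V_le_S hv)
  -- decomposition of the elements of `V ⊔ Z`
  have hdec : ∀ w ∈ V ⊔ zc S, ∃ v ∈ V, ∃ z ∈ zc S, w = v * z := by
    intro w hw
    have h3 : zc S ≤ normalizer (V : Set G) := (zc_le _).trans b.S_V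
    rw [← SetLike.mem_coe, coe_mul_of_right_le_normalizer_left _ _ h3] at hw
    obtain ⟨v, hv, z, hz, rfl⟩ := hw
    exact ⟨v, hv, z, hz, rfl⟩
  have hsq : ∀ c ∈ P ⊓ centralizer (V : Set G), ∀ w ∈ V ⊔ zc S, c ^ 2 * w = w * c ^ 2 := by
    rintro c ⟨hc, hcV⟩ w hw
    obtain ⟨v, hv, z, hz, rfl⟩ := hdec w hw
    set f := c * z * c⁻¹ * z⁻¹ with hf
    have hfV : f ∈ V := b.P_Z c hc z hz
    have h2 : c * f = f * c := (mem_centralizer_iff.1 hcV f hfV).symm
    have h3 : c * v = v * c := (mem_centralizer_iff.1 hcV v hv).symm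
    have h4 : c * z = f * z * c := by rw [hf]; group
    have h5 : c ^ 2 * z = z * c ^ 2 := by
      calc c ^ 2 * z = c * (c * z) := by rw [pow_two, mul_assoc]
        _ = (c * f) * z * c := by rw [h4]; group
        _ = f * (c * z) * c := by rw [h2]; group
        _ = (f * f) * z * c ^ 2 := by rw [h4, pow_two]; group
        _ = z * c ^ 2 := by rw [b.V_sq f hfV, one_mul]
    have h6 : c ^ 2 * v = v * c ^ 2 := (show Commute c v from h3).pow_left 2
    calc c ^ 2 * (v * z) = (c ^ 2 * v) * z := by group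
      _ = v * (c ^ 2 * z) := by rw [h6]; group
      _ = v * z * c ^ 2 := by rw [h5]; group
  have h7 : P ⊓ centralizer (V : Set G) ≤ centralizer (zl S P : Set G) := by
    refine MinSimple.Basic.le_centralizer_zl_of_pow b.S_P b.S_p hsyl inf_le_left ?_ ?_
    · intro g hg
      have h8 := normalizer_le_normalizer_centralizer V (hVP hg)
      rw [← cj_eq_self_iff] at h8 ⊢
      rw [cj_inf, h8, cj_of_mem hg]
    · intro x hx
      refine ⟨1, ?_⟩
      rw [pow_one, mem_centralizer_iff]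
      exact fun w hw => (hsq x hx w (h1 hw)).symm
  exact (mem_centralizer_iff.1 (h7 ⟨hc, hcV⟩) z (zc_le_zl _ _ hz)).symm

/-- `N_P(R o)` centralises `Ω₁(Z(S))` -/
theorem HTT.norm_zc {c z : G} (hc : c ∈ P) (hcR : c ∈ normalizer (R o : Set G))
    (hz : z ∈ zc S) : c * z = z * c := by
  obtain ⟨j, k, hj, hk, hjk⟩ := b.one_lt
  obtain ⟨l, hl⟩ := b.perm c (b.P_V hc) j
  have hlo : l ≠ o := by
    rintro rfl
    exact hj (b.R_index (cj_injective (hl.trans (cj_eq_self_iff.2 hcR).symm)))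
  obtain ⟨w, hw, e⟩ := b.trans o hlo hj
  have h1 : w * c ∈ normalizer (R j : Set G) := by
    rw [← cj_eq_self_iff, cj_mul, hl, e]
  have h2 : w * c ∈ normalizer (R o : Set G) := mul_mem (b.W_le_N o hw) hcR
  have hwP : w ∈ P := b.W_le_P o hw
  have h3 := b.cen_zc (mul_mem hwP hc) (b.cen_of_norm_two hj h1 h2) hz
  have h4 : w * z = z * w := (mem_zc.1 hz).2.1 w (b.W_le_S hw)
  have h5 : w * (c * z) = w * (z * c) := by
    calc w * (c * z) = w * c * z := by group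
      _ = z * (w * c) := h3
      _ = (z * w) * c := by group
      _ = w * (z * c) := by rw [← h4]; group
  exact mul_left_cancel h5

/-- **(4)** every `z ∈ Ω₁(Z(S))` is the product of an element of `R o` and an element of `C_Z(P)` -/
theorem HTT.exists_zc {z : G} (hz : z ∈ zc S) :
    ∃ r ∈ R o, ∃ y ∈ zc S ⊓ centralizer (P : Set G), z = r * y := by
  obtain ⟨j, k, hj, hk, hjk⟩ := b.one_lt
  obtain ⟨x, hx, ex⟩ := b.P_trans j
  obtain ⟨y, hy, ey⟩ := b.P_trans k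
  -- the conjugate of `z` by `g ∈ P` depends only on `(R o)^g`
  have hdep : ∀ g ∈ P, ∀ g' ∈ P, cj g (R o) = cj g' (R o) → g * z * g⁻¹ = g' * z * g'⁻¹ := by
    intro g hg g' hg' h
    have h1 : g'⁻¹ * g ∈ normalizer (R o : Set G) := by
      rw [← cj_eq_self_iff, cj_mul, h, cj_inv_cj]
    have h2 := b.norm_zc (mul_mem (inv_mem hg') hg) h1 hz
    have h3 : g'⁻¹ * g * z * (g'⁻¹ * g)⁻¹ = z := by rw [h2]; group
    calc g * z * g⁻¹ = g' * (g'⁻¹ * g * z * (g'⁻¹ * g)⁻¹) * g'⁻¹ := by group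
      _ = g' * z * g'⁻¹ := by rw [h3]
  -- the three conjugates lie in `V z`
  have hV : ∀ g ∈ P, ∃ v ∈ V, g * z * g⁻¹ = v * z := fun g hg =>
    ⟨_, b.P_Z g hg z hz, by group⟩
  have hzV : ∀ v ∈ V, v * z = z * v := fun v hv => (mem_zc.1 hz).2.1 v (b.V_le_S hv)
  have hz2 : z * z = 1 := by rw [← pow_two]; exact (mem_zc.1 hz).2.2
  have hcm : ∀ g ∈ P, ∀ g' ∈ P, g * z * g⁻¹ * (g' * z * g'⁻¹) = g' * z * g'⁻¹ * (g * z * g⁻¹) := by
    intro g hg g' hg'
    obtain ⟨v, hv, e⟩ := hV g hg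
    obtain ⟨v', hv', e'⟩ := hV g' hg'
    rw [e, e']
    calc v * z * (v' * z) = v * (z * v') * z := by group
      _ = v * v' * (z * z) := by rw [← hzV v' hv']; group
      _ = v' * v * (z * z) := by rw [b.V_comm v hv v' hv']
      _ = v' * (v * z) * z := by group
      _ = v' * (z * v) * z := by rw [hzV v hv]
      _ = v' * z * (v * z) := by group
  set t := z * (x * z * x⁻¹) * (y * z * y⁻¹) with ht
  obtain ⟨v₁, hv₁, e₁⟩ := hV x hx
  obtain ⟨v₂, hv₂, e₂⟩ := hV y hy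
  have htv : t = v₁ * v₂ * z := by
    rw [ht, e₁, e₂]
    calc z * (v₁ * z) * (v₂ * z) = (z * v₁) * (z * v₂) * z := by group
      _ = (v₁ * z) * (v₂ * z) * z := by rw [← hzV v₁ hv₁, ← hzV v₂ hv₂]
      _ = v₁ * (z * v₂) * (z * z) := by group
      _ = v₁ * v₂ * z := by rw [← hzV v₂ hv₂, hz2]; group
  -- `t` is centralised by `P`
  have htP : t ∈ centralizer (P : Set G) := by
    rw [mem_centralizer_iff]
    intro g hg
    have hg : g ∈ P := hg
    suffices h : g * t * g⁻¹ = t by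
      rw [mul_inv_eq_iff_eq_mul] at h
      exact h
    have h1 : g * t * g⁻¹ = (g * z * g⁻¹) * ((g * x) * z * (g * x)⁻¹) * ((g * y) * z * (g * y)⁻¹) := by
      rw [ht]; group
    rw [h1]
    have hgx := mul_mem hg hx
    have hgy := mul_mem hg hy
    -- the points `(R o)^g, (R j)^g, (R k)^g` are all the points
    obtain ⟨a₀, ha₀⟩ := b.perm g (b.P_V hg) o
    obtain ⟨a₁, ha₁⟩ := b.perm g (b.P_V hg) j
    obtain ⟨a₂, ha₂⟩ := b.perm g (b.P_V hg) k
    have n01 : a₀ ≠ a₁ := by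
      rintro rfl
      exact hj (b.R_index (cj_injective (ha₁.trans ha₀.symm)))
    have n02 : a₀ ≠ a₂ := by
      rintro rfl
      exact hk (b.R_index (cj_injective (ha₂.trans ha₀.symm)))
    have n12 : a₁ ≠ a₂ := by
      rintro rfl
      exact hjk (b.R_index (cj_injective (ha₁.trans ha₂.symm)))
    have hx' : cj (g * x) (R o) = R a₁ := by rw [cj_mul, ex, ha₁]
    have hy' : cj (g * y) (R o) = R a₂ := by rw [cj_mul, ey, ha₂]
    -- values
    have val : ∀ h ∈ P, ∀ a, cj h (R o) = R a →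
        (a = o → h * z * h⁻¹ = z) ∧ (a = j → h * z * h⁻¹ = x * z * x⁻¹) ∧
        (a = k → h * z * h⁻¹ = y * z * y⁻¹) := by
      intro h hh a e
      refine ⟨?_, ?_, ?_⟩
      · rintro rfl
        have := hdep h hh 1 (one_mem P) (by rw [e, cj_one])
        rw [this]; group
      · rintro rfl
        exact hdep h hh x hx (e.trans ex.symm)
      · rintro rfl
        exact hdep h hh y hy (e.trans ey.symm)
    obtain ⟨A0, A1, A2⟩ := val g hg a₀ ha₀
    obtain ⟨B0, B1, B2⟩ := val (g * x) hgx a₁ hx'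
    obtain ⟨C0, C1, C2⟩ := val (g * y) hgy a₂ hy'
    have c1 := hcm 1 (one_mem P) x hx
    have c2 := hcm 1 (one_mem P) y hy
    have c3 := hcm x hx y hy
    rw [one_mul, inv_one, mul_one] at c1 c2
    rw [ht]
    generalize x * z * x⁻¹ = p at *
    generalize y * z * y⁻¹ = q at *
    have d := fun l => b.eq_of_ne (l := l) (Ne.symm hj) (Ne.symm hk) hjk
    rcases d a₀ with h0 | h0 | h0 <;> rcases d a₁ with h1 | h1 | h1 <;>
      rcases d a₂ with h2 | h2 | h2 <;>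
      first
      | exact absurd (h0.trans h1.symm) n01
      | exact absurd (h0.trans h2.symm) n02
      | exact absurd (h1.trans h2.symm) n12
      | skip
    · rw [A0 h0, B1 h1, C2 h2]
    · rw [A0 h0, B2 h1, C1 h2, mul_assoc, ← c3, ← mul_assoc]
    · rw [A1 h0, B0 h1, C2 h2, c1]
    · rw [A1 h0, B2 h1, C0 h2, mul_assoc, ← c2, ← mul_assoc, ← c1]
    · rw [A2 h0, B0 h1, C1 h2, ← c2, mul_assoc, ← c3, ← mul_assoc]
    · rw [A2 h0, B1 h1, C0 h2, ← c3, mul_assoc, ← c2, ← mul_assoc, ← c1]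
  have hvS : v₁ * v₂ ∈ V := mul_mem hv₁ hv₂
  -- `v₁ v₂ ∈ V ∩ C(S) = R o`
  have hvc : ∀ s ∈ S, s * (v₁ * v₂) = v₁ * v₂ * s := by
    intro s hs
    have h1 : s * t = t * s := mem_centralizer_iff.1 htP s (b.S_P hs)
    have h2 : s * z = z * s := (mem_zc.1 hz).2.1 s hs
    rw [htv] at h1
    apply mul_right_cancel (b := z)
    calc s * (v₁ * v₂) * z = s * (v₁ * v₂ * z) := by group
      _ = v₁ * v₂ * (z * s) := by rw [h1]; group
      _ = v₁ * v₂ * s * z := by rw [← h2]; group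
  have hvR : v₁ * v₂ ∈ R o := by
    obtain ⟨i, hi⟩ := b.R_cov _ hvS
    by_cases hio : i = o
    · rwa [hio] at hi
    obtain ⟨m, hm1, hm2⟩ := b.third o i
    obtain ⟨w, hw, e⟩ := b.trans o hio hm1
    have h1 : w * (v₁ * v₂) * w⁻¹ = v₁ * v₂ := by rw [hvc w (b.W_le_S hw)]; group
    have h2 : v₁ * v₂ ∈ R m := by
      rw [← e, ← h1]
      exact conj_mem_cj hi
    rw [b.eq_one (Ne.symm hm2) hi h2]
    exact one_mem _
  refine ⟨(v₁ * v₂)⁻¹, inv_mem hvR, t, ⟨?_, htP⟩, by rw [htv]; group⟩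
  rw [htv]
  refine mem_zc.2 ⟨mul_mem (b.V_le_S hvS) (zc_le _ hz), fun s hs => ?_, ?_⟩
  · calc s * (v₁ * v₂ * z) = (s * (v₁ * v₂)) * z := by group
      _ = v₁ * v₂ * (s * z) := by rw [hvc s hs]; group
      _ = v₁ * v₂ * z * s := by rw [(mem_zc.1 hz).2.1 s hs]; group
  · rw [pow_two]
    calc v₁ * v₂ * z * (v₁ * v₂ * z) = (v₁ * v₂ * z) * (z * (v₁ * v₂)) := by rw [hzV _ hvS]
      _ = v₁ * v₂ * (z * z) * (v₁ * v₂) := by group
      _ = 1 := by rw [hz2, mul_one, b.V_sq _ hvS]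

/-- **(4)** `Ω₁(Z(S)) = R o C_Z(P)` -/
theorem HTT.zc_eq : zc S = R o ⊔ (zc S ⊓ centralizer (P : Set G)) := by
  apply le_antisymm
  · intro z hz
    obtain ⟨r, hr, y, hy, rfl⟩ := b.exists_zc hz
    exact mul_mem (mem_sup_left hr) (mem_sup_right hy)
  · refine sup_le ?_ inf_le_left
    intro r hr
    refine mem_zc.2 ⟨b.V_le_S (b.R_le o hr), fun s hs => ?_, by rw [pow_two]; exact b.V_sq r (b.R_le o hr)⟩
    exact (mem_centralizer_iff.1 (normalizer_le_cen_of_card (b.card_R o) (b.S_R hs)) r hr).symm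

theorem HTT.R_le_zc : R o ≤ zc S := le_sup_left.trans_eq b.zc_eq.symm

/-- `C_Z(P) ≤ C(X)` -/
theorem HTT.cz_le : zc S ⊓ centralizer (P : Set G) ≤ centralizer (XX V R : Set G) :=
  inf_le_right.trans (centralizer_le b.X_le_P)

/-- `C_Z(P) = Z ∩ C(X)` -/
theorem HTT.cz_eq : zc S ⊓ centralizer (P : Set G) =
    zc S ⊓ centralizer (XX V R : Set G) := by
  apply le_antisymm (le_inf inf_le_left b.cz_le)
  rintro z ⟨hz, hzX⟩
  obtain ⟨r, hr, y, hy, rfl⟩ := b.exists_zc hz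
  have h1 : r ∈ centralizer (XX V R : Set G) := by
    have := (centralizer (XX V R : Set G)).mul_mem hzX ((centralizer (XX V R : Set G)).inv_mem (b.cz_le hy))
    rwa [mul_inv_cancel_right] at this
  rw [b.cen_VX (b.R_le o hr) h1, one_mul]
  exact hy

/-- `R o ∩ C_Z(P) = 1` -/
theorem HTT.R_inf_cz : V ⊓ (zc S ⊓ centralizer (P : Set G)) = ⊥ := by
  rw [eq_bot_iff]
  rintro z ⟨hz, hz'⟩
  exact b.cen_VX hz (b.cz_le hz')

/-- `C_{C_Z(P)}(N(R o)) = 1` -/
theorem HTT.exists_conj_ne {z : G} (hz : z ∈ zc S ⊓ centralizer (P : Set G)) (hz1 : z ≠ 1) :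
    ∃ h ∈ normalizer (R o : Set G), h * z * h⁻¹ ≠ z := by
  by_contra hc
  push Not at hc
  have hT : IsPGroup 2 (zpowers z) := MinSimple.Basic.isPGroup_zpowers (mem_zc.1 hz.1).2.2
  have hP : P ≤ normalizer (zpowers z : Set G) := by
    rw [MinSimple.Basic.normalizer_zpowers_eq (mem_zc.1 hz.1).2.2]
    intro g hg
    rw [mem_centralizer_singleton_iff]
    exact mem_centralizer_iff.1 hz.2 g hg
  have hN : normalizer (R o : Set G) ≤ normalizer (zpowers z : Set G) := by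
    rw [MinSimple.Basic.normalizer_zpowers_eq (mem_zc.1 hz.1).2.2]
    intro g hg
    rw [mem_centralizer_singleton_iff]
    exact mul_inv_eq_iff_eq_mul.1 (hc g hg)
  exact hz1 (zpowers_eq_bot.1 (b.nonloc_o b.X_le_P hT hP hN))

/-! ### the modules `U` and `N_1` -/

theorem HTT.isLoc_cen {z : G} (hz : z ∈ zc S) (hz1 : z ≠ 1) :
    TLoc S (centralizer ({z} : Set G)) := by
  have _ := b
  refine TLoc.centralizer (mem_zc.1 hz).2.2 hz1 ?_
  intro g hg
  rw [mem_centralizer_singleton_iff]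
  exact (mem_zc.1 hz).2.1 g hg

theorem HTT.P_le_cen {z : G} (hz : z ∈ zc S ⊓ centralizer (P : Set G)) :
    P ≤ centralizer ({z} : Set G) := by
  have _ := b
  intro g hg
  rw [mem_centralizer_singleton_iff]
  exact mem_centralizer_iff.1 hz.2 g hg

theorem HTT.X_le_cen {z : G} (hz : z ∈ zc S ⊓ centralizer (P : Set G)) :
    XX V R ≤ centralizer ({z} : Set G) := b.X_le_P.trans (b.P_le_cen hz)

theorem HTT.trans_of_X {M : Subgroup G} (h : XX V R ≤ M) (i : ι) : ∃ x ∈ M, cj x (R o) = R i := by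
  obtain ⟨x, hx, e⟩ := b.trans_X_one o i
  exact ⟨x, h hx, e⟩

/-- `⟨V^M⟩ ≤ Ω₁(Z(O₂(M)))`, `M` local containing `S, X` -/
theorem HTT.cl_V_le {M : Subgroup G} (hM : TLoc S M)
    (ht : XX V R ≤ M) : cl V M ≤ zc (o2 M) :=
  cl_le (b.V_le_zc_o2 hM ht) ((le_normalizer_o2 M).trans (normalizer_le_normalizer_zc _))

/-- `⟨(R o)^M⟩ = ⟨V^M⟩` -/
theorem HTT.cl_R_eq {M : Subgroup G} (ht : ∀ i, ∃ x ∈ M, cj x (R o) = R i) : cl (R o) M = cl V M := by
  apply le_antisymm
  · exact cl_le ((b.R_le o).trans (le_cl V M)) (le_normalizer_cl V M)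
  · refine cl_le ?_ (le_normalizer_cl _ M)
    obtain ⟨i, j, hij⟩ := b.exists_pair
    rw [← b.R_sup i j hij]
    obtain ⟨x, hx, ex⟩ := ht i
    obtain ⟨y, hy, ey⟩ := ht j
    rw [← ex, ← ey]
    exact sup_le (cj_le_cl hx) (cj_le_cl hy)

/-- `Ω₁(Z(S)) ≤ Ω₁(Z(Q o))` -/
theorem HTT.zc_le_zc_Q : zc S ≤ zc (QQ (R o)) :=
  zc_le_zc_o2 b.S_R b.S_p b.S_odd (b.cenQ o)

/-- `⟨z^{N(R o)}⟩ ≤ Ω₁(Z(Q o))` -/
theorem HTT.cl_z_le {z : G} (hz : z ∈ zc S) :
    cl (zpowers z) (normalizer (R o : Set G)) ≤ zc (QQ (R o)) := by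
  refine cl_le ?_ ((le_normalizer_O2 _).trans (normalizer_le_normalizer_zc _))
  rw [zpowers_le]
  exact b.zc_le_zc_Q hz

omit [Finite G] in
theorem HTT.zc_Q_le (i : ι) : zc (QQ (R i)) ≤ centralizer (WW V (R i) : Set G) :=
  (zc_le_centralizer _).trans (centralizer_le (b.W_le_Q i))

omit [Finite G] in
theorem HTT.zc_Q_le' (i : ι) : zc (QQ (R i)) ≤ QQ (R i) := by
  have _ := b
  exact zc_le _

end two

/-- `HT` over a Sylow group gives `HTT` -/
theorem of_HT [Finite G] {S : Sylow 2 G} {P V : Subgroup G} {R : ι → Subgroup G} {o : ι} (c : HOneTwo.HT S P V R o) : HTT (S : Subgroup G) P V R o where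
  toBT := c.toBT
  card_R := c.card_R
  char2 := c.char2
  S_p := S.isPGroup'
  S_odd := MinSimple.Basic.not_dvd_relIndex S c.S_R
  S_V := c.S_V
  S_R := c.S_R
  S_P := c.S_P
  P_V := c.P_V
  P_trans := c.P_trans
  P_Z := c.P_Z
  loc _ hS hX h2 _ := c.o2_le_cen ⟨hS, h2⟩ (c.trans_of_X hX)


end Cfsg.Agent.Omega.HT

end

section


/-!
# II.0h1, the dichotomy (5) of #12123 (field-free)

`BTS V R` (`b = 2`, `C_D(X) ≠ 1` allowed), `z` with `z ∈ Ω₁(Z(Q i))`, `M = C(z) ≥ X`, `V ≤ Ω₁(Z(O₂(M)))`: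
`U = ⟨V^M⟩`, `N i = ⟨z^{N(R i)}⟩`.

* `Dt.U_cen_N` : `C_U(N i) = U ∩ Q i`; `Dt.N_cen_U` : `C_{N i}(U) = N i ∩ O₂(M)`;
* `Dt.alpha_iff` : `U ≤ Q i ↔ N i ≤ O₂(M)` (case (α), `[U, N i] = 1`);
* `Dt.U_inf_Q` : `U ∩ Q i = (U ∩ W i)(U ∩ Q i ∩ Q j)`; `Dt.N_U_comm` : `[N i, U ∩ Q j] ≤ R i · C_D(X)`.
* `HT.toBTS`, `HT.dt` : the situation `HT`.
-/

set_option autoImplicit false
set_option linter.unusedSectionVars false

namespace Cfsg.Agent.Omega.HOneTwo

open Subgroup Cfsg Cfsg.Agent.ZN Cfsg.Agent.MinSimple.VModule Cfsg.Agent.Omega.BTwo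
open Cfsg.Agent.Omega.MinPar

universe u

variable {G : Type u} [Group G] {ι : Type*}

/-- the data of (5) -/
structure Dt (V : Subgroup G) (R : ι → Subgroup G) (z : G) (M : Subgroup G) : Prop where
  M_eq : M = centralizer ({z} : Set G)
  X_M : XX V R ≤ M
  V_M : V ≤ zc (o2 M)
  z_Q : ∀ i, z ∈ zc (QQ (R i))

/-- `U = ⟨V^M⟩` -/
abbrev UM (V M : Subgroup G) : Subgroup G := cl V M

/-- `N = ⟨z^{N(R)}⟩` -/
abbrev NN (R : Subgroup G) (z : G) : Subgroup G := cl (zpowers z) (normalizer (R : Set G))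

section

variable {V : Subgroup G} {R : ι → Subgroup G} {z : G} {M : Subgroup G} (b : BT V R) (d : Dt V R z M)

theorem cmem {H : Subgroup G} {g x : G} (hg : g ∈ H) (hx : x ∈ H) : g * x * g⁻¹ ∈ H :=
  H.mul_mem (H.mul_mem hg hx) (H.inv_mem hg)

theorem cmem' {H : Subgroup G} {g x : G} (hg : g ∈ normalizer (H : Set G)) (hx : x ∈ H) :
    g * x * g⁻¹ * x⁻¹ ∈ H := H.mul_mem (conj_mem_of_normalizer hg hx) (H.inv_mem hx)

theorem rel_ne [Finite G] (H K : Subgroup G) : H.relIndex K ≠ 0 := by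
  intro h
  have h1 := relIndex_dvd_card H K
  rw [h, Nat.zero_dvd] at h1
  exact Nat.card_pos.ne' h1

theorem z_mem_NN (R : Subgroup G) (z : G) : z ∈ NN R z := le_cl _ _ (mem_zpowers z)

include d

theorem Dt.mem_M {g : G} : g ∈ M ↔ g * z = z * g := by
  rw [d.M_eq, mem_centralizer_singleton_iff]

theorem Dt.U_le : UM V M ≤ zc (o2 M) :=
  cl_le d.V_M ((le_normalizer_o2 M).trans (normalizer_le_normalizer_zc _))

theorem Dt.U_le_o2 : UM V M ≤ o2 M := d.U_le.trans (zc_le _)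

theorem Dt.U_le_M : UM V M ≤ M := d.U_le_o2.trans (MinSimple.VModule.o2_le _)

theorem Dt.U_isPGroup : IsPGroup 2 (UM V M) := (o2_isPGroup M).to_le d.U_le_o2

theorem Dt.U_comm {u v : G} (hu : u ∈ UM V M) (hv : v ∈ UM V M) : u * v = v * u :=
  (mem_zc.1 (d.U_le hv)).2.1 u (d.U_le_o2 hu)

theorem Dt.U_sq {u : G} (hu : u ∈ UM V M) : u * u = 1 := by
  rw [← pow_two]; exact (mem_zc.1 (d.U_le hu)).2.2

theorem Dt.U_le_cen : UM V M ≤ centralizer (V : Set G) := by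
  intro u hu
  rw [mem_centralizer_iff]
  exact fun v hv => d.U_comm (le_cl V M hv) hu

theorem Dt.X_le_NU : XX V R ≤ normalizer (UM V M : Set G) := d.X_M.trans (le_normalizer_cl V M)

theorem Dt.N_le (i : ι) : NN (R i) z ≤ zc (QQ (R i)) := by
  refine cl_le ?_ ((le_normalizer_O2 _).trans (normalizer_le_normalizer_zc _))
  rw [zpowers_le]
  exact d.z_Q i

theorem Dt.N_le_Q (i : ι) : NN (R i) z ≤ QQ (R i) := (d.N_le i).trans (zc_le _)

theorem Dt.Q_le_M (i : ι) : QQ (R i) ≤ M := by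
  intro g hg
  rw [d.mem_M]
  exact (mem_zc.1 (d.z_Q i)).2.1 g hg

theorem Dt.N_le_M (i : ι) : NN (R i) z ≤ M := (d.N_le_Q i).trans (d.Q_le_M i)

theorem Dt.N_isPGroup (i : ι) : IsPGroup 2 (NN (R i) z) := (O2_isPGroup _).to_le (d.N_le_Q i)

theorem Dt.N_comm {i : ι} {n q : G} (hn : n ∈ NN (R i) z) (hq : q ∈ QQ (R i)) : q * n = n * q :=
  (mem_zc.1 (d.N_le i hn)).2.1 q hq

theorem Dt.N_sq {i : ι} {n : G} (hn : n ∈ NN (R i) z) : n * n = 1 := by
  rw [← pow_two]; exact (mem_zc.1 (d.N_le i hn)).2.2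

include b

theorem Dt.U_le_N (i : ι) : UM V M ≤ normalizer (R i : Set G) := d.U_le_cen.trans (b.cen_le_N i)

/-- `N i ≤ C(W i)` -/
theorem Dt.N_le_cen (i : ι) : NN (R i) z ≤ centralizer (WW V (R i) : Set G) := by
  intro n hn
  rw [mem_centralizer_iff]
  exact fun w hw => d.N_comm hn (b.W_le_Q i hw)

theorem Dt.cj_NN {g : G} (hg : g ∈ M) {i j : ι} (h : cj g (R i) = R j) : cj g (NN (R i) z) = NN (R j) z := by
  have _ := b
  have key : ∀ g ∈ M, ∀ i j : ι, cj g (R i) = R j → cj g (NN (R i) z) ≤ NN (R j) z := by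
    intro g hg i j h
    have e : cj g (zpowers z) = zpowers z := by
      rw [cj_eq_self_iff]
      refine centralizer_le_normalizer _ ?_
      rw [mem_centralizer_iff]
      rintro _ ⟨k, rfl⟩
      exact ((show Commute g z from d.mem_M.1 hg).zpow_right k).symm
    rw [NN, cl, cj_iSup]
    refine iSup_le fun m => ?_
    have h1 : g * (m : G) * g⁻¹ ∈ normalizer (R j : Set G) := by
      rw [← h, normalizer_cj]
      exact conj_mem_cj m.2
    have e2 : cj g (cj (m : G) (zpowers z)) = cj (g * m * g⁻¹) (zpowers z) := by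
      have e3 : cj g⁻¹ (zpowers z) = zpowers z := by
        nth_rewrite 1 [← e]
        rw [cj_inv_cj]
      rw [cj_mul, cj_mul, e3]
    rw [e2]
    exact cj_le_cl h1
  apply le_antisymm (key g hg i j h)
  have h' : cj g⁻¹ (R j) = R i := by rw [← h, cj_inv_cj]
  have h3 := cj_mono (g := g) (key g⁻¹ (inv_mem hg) j i h')
  rwa [cj_cj_inv] at h3

/-- `C_U(N i) = U ∩ Q i` -/
theorem Dt.U_cen_N (i : ι) : UM V M ⊓ centralizer (NN (R i) z : Set G) = UM V M ⊓ QQ (R i) := by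
  apply le_antisymm
  · refine le_inf inf_le_left ?_
    have hCM : normalizer (R i : Set G) ⊓ centralizer (NN (R i) z : Set G) ≤ M := by
      rintro g ⟨-, hg⟩
      rw [d.mem_M]
      exact (mem_centralizer_iff.1 hg z (z_mem_NN (R i) z)).symm
    refine le_O2_of_chain (B := normalizer (R i : Set G) ⊓ centralizer (NN (R i) z : Set G))
      (C := normalizer (R i : Set G) ⊓ centralizer (NN (R i) z : Set G))
      (inf_le_inf_right _ (d.U_le_N b i)) le_rfl inf_le_left (d.U_isPGroup.to_le inf_le_left) ?_ ?_ ?_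
    · rintro g ⟨hg, hg'⟩ u ⟨hu, hu'⟩
      exact ⟨conj_mem_of_normalizer (le_normalizer_cl V M (hCM ⟨hg, hg'⟩)) hu, cmem hg' hu'⟩
    · exact fun g hg x hx => cmem hg hx
    · rintro g hg x ⟨hx, hx'⟩
      refine ⟨cmem hg hx, ?_⟩
      exact conj_mem_of_normalizer
        (normalizer_le_normalizer_centralizer _ (le_normalizer_cl _ _ hg)) hx'
  · refine le_inf inf_le_left ?_
    rintro q ⟨-, hq⟩
    rw [mem_centralizer_iff]
    exact fun n hn => (d.N_comm hn hq).symm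

/-- `C_{N i}(U) = N i ∩ O₂(M)` -/
theorem Dt.N_cen_U (i : ι) : NN (R i) z ⊓ centralizer (UM V M : Set G) = NN (R i) z ⊓ o2 M := by
  apply le_antisymm
  · refine le_inf inf_le_left ?_
    have hCM : M ⊓ centralizer (UM V M : Set G) ≤ normalizer (R i : Set G) := by
      rintro g ⟨-, hg⟩
      exact b.cen_le_N i (centralizer_le (le_cl V M) hg)
    refine le_O2_of_chain (B := M ⊓ centralizer (UM V M : Set G))
      (C := M ⊓ centralizer (UM V M : Set G))
      (inf_le_inf_right _ (d.N_le_M i)) le_rfl inf_le_left ((d.N_isPGroup i).to_le inf_le_left) ?_ ?_ ?_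
    · rintro g ⟨hg, hg'⟩ u ⟨hu, hu'⟩
      exact ⟨conj_mem_of_normalizer (le_normalizer_cl _ _ (hCM ⟨hg, hg'⟩)) hu, cmem hg' hu'⟩
    · exact fun g hg x hx => cmem hg hx
    · rintro g hg x ⟨hx, hx'⟩
      refine ⟨cmem hg hx, ?_⟩
      exact conj_mem_of_normalizer
        (normalizer_le_normalizer_centralizer _ (le_normalizer_cl V M hg)) hx'
  · refine le_inf inf_le_left ?_
    rintro q ⟨-, hq⟩
    rw [mem_centralizer_iff]
    exact fun u hu => ((mem_zc.1 (d.U_le hu)).2.1 q hq).symm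

/-- case (α): `[U, N i] = 1` iff `U ≤ Q i` -/
theorem Dt.U_le_Q_iff (i : ι) : UM V M ≤ QQ (R i) ↔ UM V M ≤ centralizer (NN (R i) z : Set G) := by
  rw [← inf_eq_left (a := UM V M) (b := QQ (R i)), ← d.U_cen_N b i, inf_eq_left]

/-- case (α): `[U, N i] = 1` iff `N i ≤ O₂(M)` -/
theorem Dt.N_le_o2_iff (i : ι) : NN (R i) z ≤ o2 M ↔ NN (R i) z ≤ centralizer (UM V M : Set G) := by
  rw [← inf_eq_left (a := NN (R i) z) (b := o2 M), ← d.N_cen_U b i, inf_eq_left]

/-- case (α) -/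
theorem Dt.alpha_iff (i : ι) : UM V M ≤ QQ (R i) ↔ NN (R i) z ≤ o2 M := by
  rw [d.U_le_Q_iff b, d.N_le_o2_iff b, le_centralizer_iff]

/-- case (α) does not depend on `i` -/
theorem Dt.alpha_indep (i j : ι) : UM V M ≤ QQ (R i) ↔ UM V M ≤ QQ (R j) := by
  have key : ∀ i j : ι, UM V M ≤ QQ (R i) → UM V M ≤ QQ (R j) := by
    intro i j h
    obtain ⟨x, hx, e⟩ := b.trans_X_one i j
    have h1 := cj_mono (g := x) h
    rwa [b.cj_QQ e, cj_eq_self_iff.2 (d.X_le_NU hx)] at h1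
  exact ⟨key i j, key j i⟩

/-- case (α): `⟨U^{N(R i)}⟩ ≤ Q i` -/
theorem Dt.alpha_cl {i : ι} (h : UM V M ≤ QQ (R i)) :
    cl (UM V M) (normalizer (R i : Set G)) ≤ QQ (R i) := by
  have _ := b
  have _ := d
  exact cl_le h (le_normalizer_O2 _)

/-- case (α): `⟨N_i^M⟩ ≤ O₂(M)` -/
theorem Dt.alpha_cl' {i : ι} (h : UM V M ≤ QQ (R i)) : cl (NN (R i) z) M ≤ o2 M :=
  cl_le ((d.alpha_iff b i).1 h) (le_normalizer_o2 M)

/-- case (α): `W i` induces on `U` transvections with centre `R i` -/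
theorem Dt.alpha_comm {i : ι} (h : UM V M ≤ QQ (R i)) {u w : G} (hu : u ∈ UM V M)
    (hw : w ∈ WW V (R i)) : u * w * u⁻¹ * w⁻¹ ∈ R i := by
  have _ := d
  exact b.WQ i (h hu) hw

/-! ### `U ∩ Q i = (U ∩ W i)(U ∩ Q i ∩ Q j)` -/

theorem Dt.CC_le_NCC : XX V R ≤ normalizer (CC R : Set G) := by
  have _ := d
  have key : ∀ x ∈ XX V R, cj x (CC R) ≤ CC R := by
    intro x hx
    refine le_iInf fun k => ?_
    obtain ⟨j, hj⟩ := b.perm_inv (b.X_le_NV hx) k
    rw [← b.cj_QQ hj]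
    exact cj_mono (iInf_le _ j)
  intro x hx
  rw [← cj_eq_self_iff]
  apply le_antisymm (key x hx)
  have h := cj_mono (g := x) (key x⁻¹ (inv_mem hx))
  rwa [cj_cj_inv] at h

/-- `t ∈ U ∩ Q j`, `w ∈ W i` moving `R j`: `[t, w] ∈ U ∩ W i`, and in `Q i ∩ Q j` only if `t` is -/
theorem Dt.mem_CC_of_comm {i j : ι} (hij : i ≠ j) {w t : G} (hw : w ∈ WW V (R i))
    (hwj : cj w (R j) ≠ R j) (ht : t ∈ QQ (R j)) (h : w * t * w⁻¹ * t⁻¹ ∈ CC R) : t ∈ CC R := by
  obtain ⟨k, hk⟩ := b.perm w (b.W_le_NV i hw) j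
  have hkj : k ≠ j := by
    rintro rfl
    exact hwj hk
  have h1 : w * t * w⁻¹ ∈ QQ (R j) := by
    have e : w * t * w⁻¹ = w * t * w⁻¹ * t⁻¹ * t := by group
    rw [e]
    exact mul_mem (mem_iInf.1 h j) ht
  have h2 : w * t * w⁻¹ ∈ QQ (R k) := by
    rw [← b.cj_QQ hk]
    exact conj_mem_cj ht
  have h3 : w * t * w⁻¹ ∈ CC R := by
    rw [b.C_eq hkj]
    exact ⟨h2, h1⟩
  have h4 := conj_inv_mem_of_normalizer (d.CC_le_NCC b (W_le_X V R i hw)) h3
  have e : w⁻¹ * (w * t * w⁻¹) * w = t := by group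
  rwa [e] at h4

/-- **(5)** `U ∩ Q i = (U ∩ W i)(U ∩ Q i ∩ Q j)` -/
theorem Dt.U_inf_Q [Finite G] (i : ι) :
    UM V M ⊓ QQ (R i) = (UM V M ⊓ WW V (R i)) ⊔ (UM V M ⊓ CC R) := by
  obtain ⟨j, hj, -⟩ := b.third i i
  obtain ⟨k, hk, hkj⟩ := b.third i j
  have hij : i ≠ j := Ne.symm hj
  obtain ⟨w, hw, e⟩ := b.trans i hj hk
  have hwj : cj w (R j) ≠ R j := by
    rw [e]
    exact fun h => hkj (b.R_index h)
  set A := UM V M ⊓ QQ (R j) with hA
  set B := UM V M ⊓ QQ (R i) with hB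
  set C := UM V M ⊓ CC R with hC
  set W := UM V M ⊓ WW V (R i) with hW
  have hCB : C ≤ B := inf_le_inf_left _ (iInf_le _ i)
  have hWB : W ≤ B := inf_le_inf_left _ (b.W_le_Q i)
  have hwU : w ∈ normalizer (UM V M : Set G) := d.X_le_NU (W_le_X V R i hw)
  -- indices
  have h1 : C.relIndex A = C.relIndex B := by
    obtain ⟨x, hx, ex⟩ := b.trans_X_one j i
    have eA : cj x A = B := by rw [hA, cj_inf, cj_eq_self_iff.2 (d.X_le_NU hx), b.cj_QQ ex]
    have eC : cj x C = C := by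
      rw [hC, cj_inf, cj_eq_self_iff.2 (d.X_le_NU hx), cj_eq_self_iff.2 (d.CC_le_NCC b hx)]
    rw [← eA]
    nth_rewrite 2 [← eC]
    exact (relIndex_map_map_of_injective _ _ (MulAut.conj x).injective).symm
  let f : A →* G :=
    { toFun := fun t => w * (t : G) * w⁻¹ * (t : G)⁻¹
      map_one' := by simp
      map_mul' := by
        rintro ⟨s, hs⟩ ⟨t, ht⟩
        change w * (s * t) * w⁻¹ * (s * t)⁻¹ = w * s * w⁻¹ * s⁻¹ * (w * t * w⁻¹ * t⁻¹)
        have h2 : s⁻¹ * (w * t * w⁻¹) = w * t * w⁻¹ * s⁻¹ :=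
          d.U_comm (inv_mem hs.1) (conj_mem_of_normalizer hwU ht.1)
        have h3 : t⁻¹ * s⁻¹ = s⁻¹ * t⁻¹ := d.U_comm (inv_mem ht.1) (inv_mem hs.1)
        calc w * (s * t) * w⁻¹ * (s * t)⁻¹ = w * s * w⁻¹ * (w * t * w⁻¹) * (t⁻¹ * s⁻¹) := by group
          _ = w * s * w⁻¹ * ((w * t * w⁻¹) * s⁻¹) * t⁻¹ := by rw [h3]; group
          _ = w * s * w⁻¹ * s⁻¹ * (w * t * w⁻¹ * t⁻¹) := by rw [← h2]; group }
  have hf : ∀ t : A, f t ∈ W := by
    rintro ⟨t, ht⟩
    change w * t * w⁻¹ * t⁻¹ ∈ W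
    refine ⟨(UM V M).mul_mem (conj_mem_of_normalizer hwU ht.1) ((UM V M).inv_mem ht.1), ?_⟩
    have e1 : w * t * w⁻¹ * t⁻¹ = w * (t * w⁻¹ * t⁻¹) := by group
    rw [e1]
    exact mul_mem hw (conj_mem_of_normalizer (b.cen_le_NW i (d.U_le_cen ht.1)) (inv_mem hw))
  have h2 : C.comap f = C.subgroupOf A := by
    ext t
    rw [mem_comap, mem_subgroupOf]
    constructor
    · intro h
      exact ⟨t.2.1, d.mem_CC_of_comm b hij hw hwj t.2.2 h.2⟩
    · intro h
      refine ⟨(hf t).1, ?_⟩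
      exact (CC R).mul_mem (conj_mem_of_normalizer (d.CC_le_NCC b (W_le_X V R i hw)) h.2)
        ((CC R).inv_mem h.2)
  have h3 : C.relIndex A ≤ C.relIndex W := by
    have h4 : (C.comap f).index = C.relIndex f.range := index_comap C f
    rw [h2] at h4
    have h5 : C.relIndex A = C.relIndex f.range := h4
    rw [h5]
    have h6 : f.range ≤ W := by
      rintro _ ⟨t, rfl⟩
      exact hf t
    exact relIndex_le_of_le_right h6 (rel_ne C W)
  apply le_antisymm _ (sup_le hWB hCB)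
  -- in `B`
  have hn : (C.subgroupOf B).Normal := by
    refine ⟨fun x hx y => ?_⟩
    have h4 : (y : G) * x = x * y := d.U_comm y.2.1 x.2.1
    have h5 : y * x * y⁻¹ = x := by
      apply Subtype.ext
      change (y : G) * x * (y : G)⁻¹ = x
      rw [h4, mul_inv_cancel_right]
    rwa [h5]
  have h4 : (C.subgroupOf B).relIndex (W.subgroupOf B ⊔ C.subgroupOf B) *
      (W.subgroupOf B ⊔ C.subgroupOf B).index = (C.subgroupOf B).index :=
    relIndex_mul_index le_sup_right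
  rw [relIndex_sup_right, relIndex_subgroupOf hWB] at h4
  have h5 : (C.subgroupOf B).index = C.relIndex B := rfl
  rw [h5, ← h1] at h4
  have h6 : C.relIndex A ≠ 0 := rel_ne C A
  have h7 : (W.subgroupOf B ⊔ C.subgroupOf B).index = 1 := by
    have h8 : (W.subgroupOf B ⊔ C.subgroupOf B).index ≠ 0 := by
      intro h
      rw [h, mul_zero] at h4
      exact h6 h4.symm
    by_contra h9
    have h10 : 2 ≤ (W.subgroupOf B ⊔ C.subgroupOf B).index := by omega
    have h11 : C.relIndex W * 2 ≤ C.relIndex A := by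
      rw [← h4]
      exact Nat.mul_le_mul_left _ h10
    omega
  rw [index_eq_one] at h7
  intro x hx
  have h8 : (⟨x, hx⟩ : B) ∈ W.subgroupOf B ⊔ C.subgroupOf B := by rw [h7]; exact mem_top _
  have h9 : (W.subgroupOf B ⊔ C.subgroupOf B).map B.subtype ≤ W ⊔ C := by
    rw [Subgroup.map_sup]
    exact sup_le_sup ((subgroupOf_map_subtype _ _).le.trans inf_le_left)
      ((subgroupOf_map_subtype _ _).le.trans inf_le_left)
  exact h9 ⟨_, h8, rfl⟩

end

/-! ### `[N i, U ∩ Q j] ≤ R i C_D(X)` -/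

section

variable {V : Subgroup G} {R : ι → Subgroup G} {z : G} {M : Subgroup G} (b : BTS V R) (d : Dt V R z M)
include b d

/-- **(5)** `[N i, U ∩ Q j] ≤ D ∩ C(W i)` -/
theorem Dt.N_U_comm' [Finite G] {i j : ι} (hij : i ≠ j) {n u : G} (hn : n ∈ NN (R i) z) (hu : u ∈ UM V M)
    (hu' : u ∈ QQ (R j)) : n * u * n⁻¹ * u⁻¹ ∈ DD V R ⊓ centralizer (WW V (R i) : Set G) := by
  have h1 : u ∈ (UM V M ⊓ WW V (R j)) ⊔ (UM V M ⊓ CC R) := by
    rw [← d.U_inf_Q b.toBT j]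
    exact ⟨hu, hu'⟩
  have hle : UM V M ⊓ CC R ≤ normalizer (UM V M ⊓ WW V (R j) : Subgroup G) := by
    intro x hx
    refine centralizer_le_normalizer _ ?_
    rw [mem_centralizer_iff]
    exact fun y hy => d.U_comm hy.1 hx.1
  rw [← SetLike.mem_coe, coe_mul_of_right_le_normalizer_left _ _ hle] at h1
  obtain ⟨s, hs, t, ht, rfl⟩ := h1
  have hnt : t * n = n * t := d.N_comm hn ((mem_iInf.1 ht.2) i)
  have hsU : s ∈ UU V R j := ⟨hs.2, d.U_le_cen hs.1⟩
  have h2 := b.cen_W_U hij (d.N_le_cen b.toBT i hn) hsU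
  have e : n * (s * t) * n⁻¹ * (s * t)⁻¹ = n * s * n⁻¹ * s⁻¹ := by
    calc n * (s * t) * n⁻¹ * (s * t)⁻¹ = n * s * (t * n⁻¹) * t⁻¹ * s⁻¹ := by group
      _ = n * s * (n⁻¹ * t) * t⁻¹ * s⁻¹ := by
          rw [((show Commute t n from hnt).inv_right).eq]
      _ = n * s * n⁻¹ * s⁻¹ := by group
  change n * (s * t) * n⁻¹ * (s * t)⁻¹ ∈ _
  rw [e]
  exact h2

/-- **(5)** `[N i, U ∩ Q j] ≤ R i · C_D(X)` -/
theorem Dt.N_U_comm [Finite G] {i j : ι} (hij : i ≠ j) {n u : G} (hn : n ∈ NN (R i) z) (hu : u ∈ UM V M)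
    (hu' : u ∈ QQ (R j)) : ∃ a ∈ R i, a * (n * u * n⁻¹ * u⁻¹) ∈ DD V R ⊓ CenX V R := by
  have h := d.N_U_comm' b hij hn hu hu'
  exact b.cen_DW h.1 h.2

end

/-! ### the situation `HT` -/

section

variable [Finite G] {S : Sylow 2 G} {P V : Subgroup G} {R : ι → Subgroup G} {o : ι} (b : HT S P V R o)
include b

theorem HT.toBTS : BTS V R where
  toBT := b.toBT
  nonloc := fun i T hT _ _ h1 h2 => b.nonloc i T hT (b.P_V.trans h1) h2
  cenQ := b.cenQ

theorem HT.dt {z : G} (hz : z ∈ zc (S : Subgroup G) ⊓ centralizer (P : Set G)) (hz1 : z ≠ 1) :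
    Dt V R z (centralizer ({z} : Set G)) where
  M_eq := rfl
  X_M := b.X_le_cen hz
  V_M := b.V_le_zc_o2 (b.isLoc_cen hz.1 hz1) (b.trans_of_X (b.X_le_cen hz))
  z_Q := by
    intro i
    obtain ⟨x, hx, e⟩ := b.trans_X_one o i
    have h1 := b.zc_le_zc_Q hz.1
    have h2 : x * z * x⁻¹ = z := by
      rw [mem_centralizer_iff.1 (b.cz_le hz) x hx, mul_inv_cancel_right]
    have h3 : cj x (zc (QQ (R o))) = zc (QQ (R i)) := by
      rw [← b.cj_QQ e]
      exact (zc_map (MulAut.conj x).toMonoidHom (MulAut.conj x).injective _).symm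
    rw [← h3, ← h2]
    exact conj_mem_cj h1

end

end Cfsg.Agent.Omega.HOneTwo

end

section


/-!
# `HTT`: the frame `BTS` and the data `Dt` for `z ∈ C_Z(P)`
-/

set_option autoImplicit false
set_option linter.unusedSectionVars false

namespace Cfsg.Agent.Omega.HT

open Subgroup Cfsg Cfsg.Agent.ZN Cfsg.Agent.MinSimple.VModule Cfsg.Agent.Omega.BTwo
open Cfsg.Agent.Omega.MinPar Cfsg.Agent.Omega.HOneTwo

universe u

variable {G : Type u} [Group G] {ι : Type*}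

variable [Finite G] {S P V : Subgroup G} {R : ι → Subgroup G} {o : ι} (b : HTT S P V R o)
include b

theorem HTT.toBTS : BTS V R where
  toBT := b.toBT
  nonloc := fun i T hT _ _ h1 h2 => b.nonloc i T hT (b.P_V.trans h1) h2
  cenQ := b.cenQ

theorem HTT.dt {z : G} (hz : z ∈ zc S ⊓ centralizer (P : Set G)) (hz1 : z ≠ 1) :
    Dt V R z (centralizer ({z} : Set G)) where
  M_eq := rfl
  X_M := b.X_le_cen hz
  V_M := b.V_le_zc_o2 (b.isLoc_cen hz.1 hz1) (b.X_le_cen hz)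
  z_Q := by
    intro i
    obtain ⟨x, hx, e⟩ := b.trans_X_one o i
    have h1 := b.zc_le_zc_Q hz.1
    have h2 : x * z * x⁻¹ = z := by
      rw [mem_centralizer_iff.1 (b.cz_le hz) x hx, mul_inv_cancel_right]
    have h3 : cj x (zc (QQ (R o))) = zc (QQ (R i)) := by
      rw [← b.cj_QQ e]
      exact (zc_map (MulAut.conj x).toMonoidHom (MulAut.conj x).injective _).symm
    rw [← h3, ← h2]
    exact conj_mem_cj h1

end Cfsg.Agent.Omega.HT

end

section


/-!
# The structures `BT`, `HTT` for a four-group `{1, a, b, ab}`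

* `Ln a b` : `a`, `b` are distinct commuting involutions; `ln h = {1, a, b, ab}`, `pts a b` : its three points;
* `Ln.bt` : the structure `BT (ln h) (pts a b)`;
* `Ln.htt` : the structure `HTT T (T ⊔ X) (ln h) (pts a b) 0`.
-/

set_option autoImplicit false

namespace Cfsg.Agent.Omega.HT.LineOf

open Subgroup Cfsg Cfsg.Agent.ZN Cfsg.Agent.Omega.BTwo Cfsg.Agent.Omega.HT

universe u

variable {G : Type u} [Group G]

/-- the points of `{1, a, b, ab}` -/
def dd (a b : G) : Fin 3 → G := ![a, b, a * b]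

/-- the subgroups of order 2 of `{1, a, b, ab}` -/
def pts (a b : G) (i : Fin 3) : Subgroup G := zpowers (dd a b i)

/-- `a`, `b` are distinct commuting involutions -/
structure Ln (a b : G) : Prop where
  aa : a * a = 1
  bb : b * b = 1
  comm : a * b = b * a
  a1 : a ≠ 1
  b1 : b ≠ 1
  ne : a ≠ b

theorem third_eq : ∀ {i j k l : Fin 3}, j ≠ i → k ≠ i → j ≠ k → l ≠ i → l ≠ j → l = k := by decide

theorem three_cases : ∀ {i j' k' j k : Fin 3}, j' ≠ i → k' ≠ i → j' ≠ k' → j ≠ i → k ≠ i →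
    (j = k) ∨ (j = j' ∧ k = k') ∨ (j = k' ∧ k = j') := by decide

theorem mem_zp {x : G} (hx : x * x = 1) {y : G} : y ∈ zpowers x ↔ y = 1 ∨ y = x := by
  constructor
  · rintro ⟨n, rfl⟩
    rcases Int.even_or_odd' n with ⟨m, rfl | rfl⟩
    · left; show x ^ (2 * m) = 1; rw [zpow_mul, zpow_two, hx, one_zpow]
    · right; show x ^ (2 * m + 1) = x; rw [zpow_add, zpow_mul, zpow_two, hx, one_zpow, one_mul, zpow_one]
  · rintro (rfl | rfl)
    · exact one_mem _
    · exact mem_zpowers y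

theorem card_zp {x : G} (hx : x * x = 1) (h1 : x ≠ 1) : Nat.card (zpowers x) = 2 := by
  rw [Nat.card_zpowers]
  exact orderOf_eq_prime (by rw [pow_two]; exact hx) h1

namespace Ln

variable {a b : G} (h : Ln a b)
include h

theorem ab1 : a * b ≠ 1 := fun e => h.ne (by
  calc a = a * b * b := by rw [mul_assoc, h.bb, mul_one]
    _ = b := by rw [e, one_mul])

theorem a_ab : a ≠ a * b := fun e => h.b1 (by
  calc b = a * a * b := by rw [h.aa, one_mul]
    _ = a * (a * b) := by rw [mul_assoc]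
    _ = 1 := by rw [← e, h.aa])

theorem b_ab : b ≠ a * b := fun e => h.a1 (by
  calc a = a * b * b := by rw [mul_assoc, h.bb, mul_one]
    _ = 1 := by rw [← e, h.bb])

theorem abab : a * b * (a * b) = 1 := by
  calc a * b * (a * b) = a * (b * a) * b := by group
    _ = (a * a) * (b * b) := by rw [← h.comm]; group
    _ = 1 := by rw [h.aa, h.bb, mul_one]

theorem dd_sq (i : Fin 3) : dd a b i * dd a b i = 1 := by
  fin_cases i
  · exact h.aa
  · exact h.bb
  · exact h.abab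

theorem dd_ne (i : Fin 3) : dd a b i ≠ 1 := by
  fin_cases i
  · exact h.a1
  · exact h.b1
  · exact h.ab1

theorem dd_inj {i j : Fin 3} (e : dd a b i = dd a b j) : i = j := by
  fin_cases i <;> fin_cases j
  · rfl
  · exact absurd e h.ne
  · exact absurd e h.a_ab
  · exact absurd e h.ne.symm
  · rfl
  · exact absurd e h.b_ab
  · exact absurd e h.a_ab.symm
  · exact absurd e h.b_ab.symm
  · rfl

theorem dd_comm (i j : Fin 3) : dd a b i * dd a b j = dd a b j * dd a b i := by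
  have h1 : a * (a * b) = a * b * a := by rw [h.comm, ← mul_assoc, h.comm]
  have h2 : b * (a * b) = a * b * b := by rw [← mul_assoc, ← h.comm]
  fin_cases i <;> fin_cases j
  · rfl
  · exact h.comm
  · exact h1
  · exact h.comm.symm
  · rfl
  · exact h2
  · exact h1.symm
  · exact h2.symm
  · rfl

/-- the product of two points is the third one -/
theorem dd_mul {i j k : Fin 3} (hij : i ≠ j) (hik : i ≠ k) (hjk : j ≠ k) : dd a b i * dd a b j = dd a b k := by
  have e1 : a * (a * b) = b := by rw [← mul_assoc, h.aa, one_mul]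
  have e2 : b * (a * b) = a := by rw [h.comm, ← mul_assoc, h.bb, one_mul]
  have e3 : a * b * a = b := by rw [h.comm, mul_assoc, h.aa, mul_one]
  have e4 : a * b * b = a := by rw [mul_assoc, h.bb, mul_one]
  fin_cases i <;> fin_cases j <;> fin_cases k <;>
    first
    | exact absurd rfl hij
    | exact absurd rfl hik
    | exact absurd rfl hjk
    | rfl
    | exact h.comm.symm
    | exact e1
    | exact e2
    | exact e3
    | exact e4

end Ln

/-- the group `{1, a, b, ab}` -/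
def ln {a b : G} (h : Ln a b) : Subgroup G where
  carrier := {x | x = 1 ∨ ∃ i, x = dd a b i}
  one_mem' := Or.inl rfl
  mul_mem' := by
    rintro x y (rfl | ⟨i, rfl⟩) hy
    · rwa [one_mul]
    · rcases hy with rfl | ⟨j, rfl⟩
      · rw [mul_one]; exact Or.inr ⟨i, rfl⟩
      · by_cases hij : i = j
        · subst hij; exact Or.inl (h.dd_sq i)
        · obtain ⟨k, hk1, hk2⟩ : ∃ k : Fin 3, i ≠ k ∧ j ≠ k := by
            revert i j; decide
          exact Or.inr ⟨k, h.dd_mul hij hk1 hk2⟩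
  inv_mem' := by
    rintro x (rfl | ⟨i, rfl⟩)
    · left; exact inv_one
    · right; exact ⟨i, inv_eq_of_mul_eq_one_left (h.dd_sq i)⟩

namespace Ln

variable {a b : G} (h : Ln a b)
include h

theorem mem_ln {x : G} : x ∈ ln h ↔ x = 1 ∨ ∃ i, x = dd a b i := Iff.rfl

theorem dd_mem (i : Fin 3) : dd a b i ∈ ln h := Or.inr ⟨i, rfl⟩

theorem mem_pts {i : Fin 3} {x : G} : x ∈ pts a b i ↔ x = 1 ∨ x = dd a b i := mem_zp (h.dd_sq i)

theorem pts_le (i : Fin 3) : pts a b i ≤ ln h := fun x hx => by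
  rcases h.mem_pts.1 hx with rfl | rfl
  · exact one_mem _
  · exact h.dd_mem i

theorem card_pts (i : Fin 3) : Nat.card (pts a b i) = 2 := card_zp (h.dd_sq i) (h.dd_ne i)

/-- `N(R i) = C(d i)` -/
theorem normalizer_pts (i : Fin 3) : normalizer (pts a b i : Set G) = centralizer ({dd a b i} : Set G) :=
  MinSimple.Basic.normalizer_zpowers_eq (by rw [pow_two]; exact h.dd_sq i)

theorem cj_pts {g : G} {i j : Fin 3} (e : g * dd a b i * g⁻¹ = dd a b j) : cj g (pts a b i) = pts a b j := by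
  ext x
  rw [mem_cj, h.mem_pts, h.mem_pts]
  constructor
  · rintro (hx | hx)
    · left
      calc x = g * (g⁻¹ * x * g) * g⁻¹ := by group
        _ = 1 := by rw [hx]; group
    · right
      calc x = g * (g⁻¹ * x * g) * g⁻¹ := by group
        _ = dd a b j := by rw [hx, e]
  · rintro (rfl | rfl)
    · left; group
    · right
      rw [← e]; group

variable (hV : ∀ i, ln h ≤ o2 (centralizer ({dd a b i} : Set G)))
  (hQ : ∀ i, ∀ g ∈ o2 (centralizer ({dd a b i} : Set G)), ∀ j, g * dd a b j * g⁻¹ * (dd a b j)⁻¹ ∈ pts a b i)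
  (hm : ∀ i, ∃ t ∈ centralizer ({dd a b i} : Set G), ∃ j k,
    t * dd a b j * t⁻¹ * dd a b k ≠ dd a b k * (t * dd a b j * t⁻¹))

include hV hQ hm in
/-- the swap -/
theorem swap {i j k : Fin 3} (hji : j ≠ i) (hki : k ≠ i) (hjk : j ≠ k) : ∃ t ∈ centralizer ({dd a b i} : Set G),
    (∃ v ∈ ln h, (t * v * t⁻¹) * dd a b j * (t * v * t⁻¹)⁻¹ = dd a b k) ∧
    ∃ v ∈ ln h, (t⁻¹ * v * t) * dd a b j * (t⁻¹ * v * t)⁻¹ = dd a b k := by
  obtain ⟨t, ht, p, q, hpq⟩ := hm i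
  -- a noncommuting element of `Q` swaps
  have key : ∀ g ∈ o2 (centralizer ({dd a b i} : Set G)), ∀ l : Fin 3, g * dd a b l ≠ dd a b l * g →
      g * dd a b j * g⁻¹ = dd a b k := by
    intro g hg l hl
    have hgi : g * dd a b i = dd a b i * g := mem_centralizer_singleton_iff.1 (O2_le _ hg)
    have hli : l ≠ i := by rintro rfl; exact hl hgi
    have hgl : g * dd a b l * g⁻¹ = dd a b i * dd a b l := by
      rcases (h.mem_pts).1 (hQ i g hg l) with e | e
      · exact absurd (by rw [mul_inv_eq_one, mul_inv_eq_iff_eq_mul] at e; exact e) hl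
      · rw [mul_inv_eq_iff_eq_mul] at e; exact e
    by_cases hlj : l = j
    · subst hlj
      rw [hgl]; exact h.dd_mul hji.symm hki.symm hjk
    · have hlk : l = k := third_eq hji hki hjk hli hlj
      have e1 : dd a b j = dd a b i * dd a b l := (h.dd_mul hli.symm hji.symm (by rw [hlk]; exact hjk.symm)).symm
      have e2 : g * dd a b j * g⁻¹ = dd a b i * (dd a b i * dd a b l) := by
        rw [e1]
        calc g * (dd a b i * dd a b l) * g⁻¹ = (g * dd a b i) * dd a b l * g⁻¹ := by group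
          _ = dd a b i * (g * dd a b l * g⁻¹) := by rw [hgi]; group
          _ = _ := by rw [hgl]
      rw [e2, ← mul_assoc, h.dd_sq, one_mul, hlk]
  have hnt : ∀ {g : G}, g ∈ centralizer ({dd a b i} : Set G) → ∀ v ∈ ln h,
      g * v * g⁻¹ ∈ o2 (centralizer ({dd a b i} : Set G)) := fun {g} hg v hv =>
    BTwo.conj_mem_of_normalizer (le_normalizer_O2 _ hg) (hV i hv)
  refine ⟨t, ht, ⟨dd a b p, h.dd_mem p, key _ (hnt ht _ (h.dd_mem p)) q hpq⟩, ⟨dd a b q, h.dd_mem q, ?_⟩⟩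
  have h1 := key _ (hnt (inv_mem ht) _ (h.dd_mem q)) p (fun e => hpq ?_)
  · rwa [inv_inv] at h1
  · rw [inv_inv] at e
    calc t * dd a b p * t⁻¹ * dd a b q = t * (dd a b p * (t⁻¹ * dd a b q * t)) * t⁻¹ := by group
      _ = t * (t⁻¹ * dd a b q * t * dd a b p) * t⁻¹ := by rw [e]
      _ = dd a b q * (t * dd a b p * t⁻¹) := by group

include hV hQ hm in
/-- the structure `BT` -/
theorem bt : BT (ln h) (pts a b) where
  V_comm := by
    rintro x (rfl | ⟨i, rfl⟩) y (rfl | ⟨j, rfl⟩)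
    · rfl
    · rw [one_mul, mul_one]
    · rw [one_mul, mul_one]
    · exact h.dd_comm i j
  V_sq := by
    rintro x (rfl | ⟨i, rfl⟩)
    · exact mul_one 1
    · exact h.dd_sq i
  R_le := h.pts_le
  R_inf := by
    intro i j hij
    rw [eq_bot_iff]
    rintro x ⟨h1, h2⟩
    rcases h.mem_pts.1 h1 with rfl | rfl
    · exact one_mem _
    · rcases h.mem_pts.1 h2 with e | e
      · exact absurd e (h.dd_ne i)
      · exact absurd (h.dd_inj e) hij
  R_sup := by
    intro i j hij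
    refine le_antisymm (sup_le (h.pts_le i) (h.pts_le j)) ?_
    rintro x (rfl | ⟨k, rfl⟩)
    · exact one_mem _
    · by_cases hki : i = k
      · subst hki; exact mem_sup_left (mem_zpowers _)
      by_cases hkj : j = k
      · subst hkj; exact mem_sup_right (mem_zpowers _)
      rw [← h.dd_mul hij hki hkj]
      exact mul_mem (mem_sup_left (mem_zpowers _)) (mem_sup_right (mem_zpowers _))
  R_cov := by
    rintro x (rfl | ⟨i, rfl⟩)
    · exact ⟨0, one_mem _⟩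
    · exact ⟨i, mem_zpowers _⟩
  R_ne := fun i e => h.dd_ne i (zpowers_eq_bot.1 e)
  third := by decide
  perm := by
    intro g hg i
    have h1 : g * dd a b i * g⁻¹ ∈ ln h := BTwo.conj_mem_of_normalizer hg (h.dd_mem i)
    rcases h1 with e | ⟨j, e⟩
    · exact absurd (conj_eq_one_iff.1 e) (h.dd_ne i)
    · exact ⟨j, h.cj_pts e⟩
  V_Q := fun i => by
    show ln h ≤ O2 (normalizer (pts a b i : Set G))
    rw [h.normalizer_pts i]
    exact hV i
  QV := by
    intro i g hg v hv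
    change g ∈ O2 (normalizer (pts a b i : Set G)) at hg
    rw [h.normalizer_pts i] at hg
    rcases hv with rfl | ⟨j, rfl⟩
    · have e : g * 1 * g⁻¹ * 1⁻¹ = 1 := by group
      rw [e]; exact one_mem _
    · exact hQ i g hg j
  QR := by
    intro i g hg x hx
    change g ∈ O2 (normalizer (pts a b i : Set G)) at hg
    rw [h.normalizer_pts i] at hg
    rcases h.mem_pts.1 hx with rfl | rfl
    · rw [one_mul, mul_one]
    · exact mem_centralizer_singleton_iff.1 (O2_le _ hg)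
  mt := by
    intro i
    obtain ⟨j', k', h1, h2, h3⟩ : ∃ j k : Fin 3, j ≠ i ∧ k ≠ i ∧ j ≠ k := by revert i; decide
    obtain ⟨t, ht, ⟨v, hv, e⟩, ⟨w, hw, f⟩⟩ := h.swap hV hQ hm h1 h2 h3
    have e' : (t * v * t⁻¹) * dd a b k' * (t * v * t⁻¹)⁻¹ = dd a b j' := by
      have hvv : v * v = 1 := by
        rcases hv with rfl | ⟨l, rfl⟩
        · exact mul_one 1
        · exact h.dd_sq l
      have e2 : (t * v * t⁻¹) * (t * v * t⁻¹) = 1 := by
        calc (t * v * t⁻¹) * (t * v * t⁻¹) = t * (v * v) * t⁻¹ := by group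
          _ = 1 := by rw [hvv]; group
      have e3 : (t * v * t⁻¹)⁻¹ = t * v * t⁻¹ := inv_eq_of_mul_eq_one_left e2
      rw [e3] at e
      rw [← e, e3]
      calc t * v * t⁻¹ * (t * v * t⁻¹ * dd a b j' * (t * v * t⁻¹)) * (t * v * t⁻¹)
          = (t * v * t⁻¹ * (t * v * t⁻¹)) * dd a b j' * (t * v * t⁻¹ * (t * v * t⁻¹)) := by group
        _ = dd a b j' := by rw [e2]; group
    have f' : (t⁻¹ * w * t) * dd a b k' * (t⁻¹ * w * t)⁻¹ = dd a b j' := by
      have hvv : w * w = 1 := by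
        rcases hw with rfl | ⟨l, rfl⟩
        · exact mul_one 1
        · exact h.dd_sq l
      have e2 : (t⁻¹ * w * t) * (t⁻¹ * w * t) = 1 := by
        calc (t⁻¹ * w * t) * (t⁻¹ * w * t) = t⁻¹ * (w * w) * t := by group
          _ = 1 := by rw [hvv]; group
      have e3 : (t⁻¹ * w * t)⁻¹ = t⁻¹ * w * t := inv_eq_of_mul_eq_one_left e2
      rw [e3] at f
      rw [← f, e3]
      calc t⁻¹ * w * t * (t⁻¹ * w * t * dd a b j' * (t⁻¹ * w * t)) * (t⁻¹ * w * t)
          = (t⁻¹ * w * t * (t⁻¹ * w * t)) * dd a b j' * (t⁻¹ * w * t * (t⁻¹ * w * t)) := by group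
        _ = dd a b j' := by rw [e2]; group
    refine ⟨t, by rw [h.normalizer_pts i]; exact ht, ?_⟩
    intro j k hj hk
    have hcase := three_cases h1 h2 h3 hj hk
    have one1 : cj (t * 1 * t⁻¹) (pts a b j) = pts a b j := by
      rw [mul_one, mul_inv_cancel, cj_one]
    have one2 : cj (t⁻¹ * 1 * t) (pts a b j) = pts a b j := by
      rw [mul_one, inv_mul_cancel, cj_one]
    rcases hcase with rfl | ⟨rfl, rfl⟩ | ⟨rfl, rfl⟩
    · exact ⟨⟨1, one_mem _, one1⟩, ⟨1, one_mem _, one2⟩⟩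
    · exact ⟨⟨v, hv, h.cj_pts e⟩, ⟨w, hw, h.cj_pts f⟩⟩
    · exact ⟨⟨v, hv, h.cj_pts e'⟩, ⟨w, hw, h.cj_pts f'⟩⟩

/-- the structure `HTT` over `T`, from `BT` -/
theorem htt (b' : BT (ln h) (pts a b)) (hG : IsCharacteristicTwoType G) {T : Subgroup G} (hT : IsPGroup 2 T)
    (hodd : ¬ 2 ∣ T.relIndex (centralizer ({a} : Set G))) (hTa : T ≤ centralizer ({a} : Set G))
    (hTV : T ≤ normalizer (ln h : Set G))
    (hdec : ∀ z ∈ zc T, ∃ v ∈ ln h, ∃ c, (∀ x ∈ XX (ln h) (pts a b), x * c = c * x) ∧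
      (∀ t ∈ T, t * c = c * t) ∧ z = v * c)
    (loc : ∀ M : Subgroup G, T ≤ M → XX (ln h) (pts a b) ≤ M → o2 M ≠ ⊥ →
      M ⊓ centralizer (o2 M : Set G) ≤ o2 M → o2 M ≤ centralizer (ln h : Set G)) :
    HTT T (T ⊔ XX (ln h) (pts a b)) (ln h) (pts a b) 0 where
  toBT := b'
  card_R := h.card_pts
  char2 := hG
  S_p := hT
  S_odd := by rw [h.normalizer_pts 0]; exact hodd
  S_V := hTV
  S_R := by rw [h.normalizer_pts 0]; exact hTa
  S_P := le_sup_left
  P_V := sup_le hTV b'.X_le_NV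
  P_trans := fun k => by
    obtain ⟨x, hx, e⟩ := b'.trans_X_one 0 k
    exact ⟨x, mem_sup_right hx, e⟩
  P_Z := by
    intro x hx z hz
    obtain ⟨u, hu, e, hxe, hte, rfl⟩ := hdec z hz
    have hPe : T ⊔ XX (ln h) (pts a b) ≤ centralizer ({e} : Set G) :=
      sup_le (fun t ht => mem_centralizer_singleton_iff.2 (hte t ht))
        fun t ht => mem_centralizer_singleton_iff.2 (hxe t ht)
    have h1 : x * e = e * x := mem_centralizer_singleton_iff.1 (hPe hx)
    have hxN : x ∈ normalizer (ln h : Set G) :=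
      (sup_le hTV b'.X_le_NV : T ⊔ XX (ln h) (pts a b) ≤ _) hx
    have e2 : x * (u * e) * x⁻¹ * (u * e)⁻¹ = x * u * x⁻¹ * u⁻¹ := by
      calc x * (u * e) * x⁻¹ * (u * e)⁻¹ = x * u * (e * x⁻¹) * e⁻¹ * u⁻¹ := by group
        _ = x * u * (x⁻¹ * (x * e) * x⁻¹) * e⁻¹ * u⁻¹ := by group
        _ = x * u * (x⁻¹ * (e * x) * x⁻¹) * e⁻¹ * u⁻¹ := by rw [h1]
        _ = x * u * x⁻¹ * u⁻¹ := by group
    rw [e2]
    exact mul_mem (BTwo.conj_mem_of_normalizer hxN hu) (inv_mem hu)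
  loc := loc

end Ln

end Cfsg.Agent.Omega.HT.LineOf

end

section


/-!
# MemH2 (#21183), (loc'): `O₂(M) ≤ T₁`, `[O₂(M), V_l] = 1` for `M ≥ ⟨T₁, X⟩`

`LD V L Q T T₁ R o` : `L = V_l` with the points `R i`, `R o = ⟨12⟩`, `Q = C_S(V)`, `V = Ω₁Z(Q)`, `T = C_S(12) ≤ T₁`,
`T₁` of odd index in `N(R o) ∩ N(L)`, and LEMMA F as a hypothesis.
-/

set_option autoImplicit false
set_option linter.unusedSectionVars false

namespace Cfsg.Agent.Omega.F4Leaf.Syl.LocP

open Subgroup Cfsg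
open Cfsg.Agent.ZN (o2 zc)
open Cfsg.Agent.Omega.BTwo
open Cfsg.Agent.Omega.HT
open Cfsg.Agent.Omega.HOneTwo (eq_of_card_two normalizer_le_cen_of_card)
open Cfsg.Agent.MinSimple.VModule (o2_isPGroup le_o2 o2_le le_normalizer_o2 o2_le_of_sylow mem_zc zc_le zc_comm zc_sq)

universe u

variable {G : Type u} [Group G] {ι : Type*}

/-- a 2-subgroup `H` of `K` normalised by `T`, `T` of odd index in `K`, lies in `T` -/
theorem le_of_odd [Finite G] {T H K : Subgroup G} (hT : IsPGroup 2 T) (hTK : T ≤ K) (hodd : ¬ 2 ∣ T.relIndex K)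
    (hH : IsPGroup 2 H) (hHK : H ≤ K) (hn : T ≤ normalizer (H : Set G)) : H ≤ T := by
  have h1 : IsPGroup 2 (H ⊔ T : Subgroup G) := IsPGroup.to_sup_of_normal_left' hH hT hn
  have h2 := Nat.le_of_dvd Nat.card_pos (card_dvd_card hTK hodd h1 (sup_le hHK hTK))
  have h3 : T = H ⊔ T := eq_of_le_of_card_ge le_sup_right h2
  rw [h3]
  exact le_sup_left

/-- a 2-group `O` normalised by the 2-group `T`, `O ⊄ T`: there is `w ∈ O ∩ N(T)`, `w ∉ T` -/
theorem exists_step [Finite G] {T O : Subgroup G} (hT : IsPGroup 2 T) (hO : IsPGroup 2 O)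
    (hn : T ≤ normalizer (O : Set G)) (hlt : ¬ O ≤ T) : ∃ w ∈ O, w ∈ normalizer (T : Set G) ∧ w ∉ T := by
  obtain ⟨E, hE⟩ : ∃ E, E = O ⊔ T := ⟨_, rfl⟩
  have hEp : IsPGroup 2 E := by rw [hE]; exact IsPGroup.to_sup_of_normal_left' hO hT hn
  have hTE : T ≤ E := by rw [hE]; exact le_sup_right
  have hOE : O ≤ E := by rw [hE]; exact le_sup_left
  have : Fact (Nat.Prime 2) := ⟨Nat.prime_two⟩
  have : Group.IsNilpotent E := hEp.isNilpotent
  have hne : T.subgroupOf E < ⊤ := by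
    rw [lt_top_iff_ne_top, ne_eq, subgroupOf_eq_top]
    exact fun h => hlt (hOE.trans h)
  have h1 := Group.normalizerCondition_of_isNilpotent (G := E) _ hne
  obtain ⟨x, hx, hx'⟩ := SetLike.exists_of_lt h1
  have hxN : (x : G) ∈ normalizer (T : Set G) := by
    refine mem_normalizer_of_conj fun t ht => ?_
    have h2 := (mem_normalizer_iff.1 hx ⟨t, hTE ht⟩).1 (mem_subgroupOf.2 ht)
    exact mem_subgroupOf.1 h2
  have hxE : (x : G) ∈ O ⊔ T := by rw [← hE]; exact x.2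
  rw [← SetLike.mem_coe, coe_mul_of_right_le_normalizer_left _ _ hn] at hxE
  obtain ⟨w, hw, t, ht, hwt⟩ := hxE
  refine ⟨w, hw, ?_, fun h => hx' (mem_subgroupOf.2 ?_)⟩
  · have h3 : w = (x : G) * t⁻¹ := by rw [← hwt]; group
    rw [h3]
    exact mul_mem hxN (inv_mem (le_normalizer ht))
  · rw [← hwt]
    exact mul_mem h ht

/-- The data of (loc'). -/
structure LD (V L Q T T₁ : Subgroup G) (R : ι → Subgroup G) (o : ι) : Prop extends BT L R where
  card_R : ∀ i, Nat.card (R i) = 2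
  T_p : IsPGroup 2 T₁
  T_R : T₁ ≤ normalizer (R o : Set G)
  T_L : T₁ ≤ normalizer (L : Set G)
  T_odd : ¬ 2 ∣ T₁.relIndex (normalizer (R o : Set G) ⊓ normalizer (L : Set G))
  T_le : T ≤ T₁
  Q_T : Q ≤ T
  Q_cen : centralizer (Q : Set G) ≤ Q
  zcQ : zc Q = V
  L_le : L ≤ V
  QV' : ∀ g ∈ QQ (R o), ∀ v ∈ V, g * v * g⁻¹ * v⁻¹ ∈ R o
  F : ∀ t ∈ normalizer (R o : Set G), ∀ i, i ≠ o → cj t (R i) ≤ V →
    (∀ s ∈ T, ∀ x ∈ cj t (R i), s * x * s⁻¹ * x⁻¹ ∈ R o) → t ∈ normalizer (L : Set G)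

namespace LD

variable [Finite G] {V L Q T T₁ : Subgroup G} {R : ι → Subgroup G} {o : ι} (b : LD V L Q T T₁ R o)
include b

/-- `Q₁₂ ≤ T₁` -/
theorem QQ_le : QQ (R o) ≤ T₁ := by
  refine le_of_odd b.T_p (le_inf b.T_R b.T_L) b.T_odd (O2_isPGroup _) (le_inf (b.Q_le o) ?_)
    (b.T_R.trans (le_normalizer_O2 _))
  intro g hg
  refine mem_normalizer_of_conj fun v hv => ?_
  have h1 := b.R_le o (b.QV o g hg v hv)
  have h2 : g * v * g⁻¹ = g * v * g⁻¹ * v⁻¹ * v := by group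
  rw [h2]
  exact mul_mem h1 hv

/-- `[T₁, L] ≤ R o` -/
theorem comm_T1 {t y : G} (ht : t ∈ T₁) (hy : y ∈ L) : t * y * t⁻¹ * y⁻¹ ∈ R o := by
  obtain ⟨i, hio, -⟩ := b.third o o
  have htR := b.T_R ht
  obtain ⟨a, ha, c, hc, rfl⟩ := b.exists_mul (Ne.symm hio) hy
  obtain ⟨a', ha', c', hc', h5⟩ := b.exists_mul (Ne.symm hio)
    (conj_mem_of_normalizer (b.T_L ht) (b.R_le i hc))
  by_cases hc1 : c = 1
  · rw [hc1, mul_one]
    exact mul_mem (conj_mem_of_normalizer htR ha) (inv_mem ha)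
  · have hc1' : c' ≠ 1 := by
      intro h6
      rw [h6, mul_one] at h5
      have h7 : c ∈ R o := by
        have h8 := conj_inv_mem_of_normalizer htR (h5 ▸ ha')
        have h9 : t⁻¹ * (t * c * t⁻¹) * t = c := by group
        rwa [h9] at h8
      exact hc1 (b.eq_one hio hc h7)
    have h6 : c' = c := eq_of_card_two (b.card_R i) hc hc1 hc' hc1'
    have h7 : t * (a * c) * t⁻¹ * (a * c)⁻¹ = (t * a * t⁻¹) * a' * a⁻¹ := by
      calc t * (a * c) * t⁻¹ * (a * c)⁻¹ = (t * a * t⁻¹) * (t * c * t⁻¹) * c⁻¹ * a⁻¹ := by group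
        _ = _ := by rw [h5, h6]; group
    rw [h7]
    exact mul_mem (mul_mem (conj_mem_of_normalizer htR ha) ha') (inv_mem ha)

/-- an element of `Q₁₂` moving the point `i ≠ o` -/
theorem exists_mov {i : ι} (hi : i ≠ o) : ∃ g ∈ QQ (R o), ∃ j, j ≠ o ∧ j ≠ i ∧ cj g (R i) = R j := by
  obtain ⟨k, hko, hki⟩ := b.third o i
  obtain ⟨h, hh, hm⟩ := b.mt o
  obtain ⟨⟨v, hv, h1⟩, -⟩ := hm i k hi hko
  refine ⟨h * v * h⁻¹, ?_, k, hko, hki, h1⟩
  exact conj_mem_of_normalizer (le_normalizer_O2 _ hh) (b.V_Q o hv)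

theorem R_cen {i : ι} {g x : G} (hg : g ∈ normalizer (R i : Set G)) (hx : x ∈ R i) : g * x = x * g := by
  have h1 := mem_centralizer_iff.1 (normalizer_le_cen_of_card (b.card_R i) hg) x hx
  exact h1.symm

/-- an element normalising all the points centralises `L` -/
theorem cen_of_norm {g : G} (h : ∀ i, g ∈ normalizer (R i : Set G)) : g ∈ centralizer (L : Set G) := by
  obtain ⟨i, j, hij⟩ := b.exists_pair
  rw [← b.R_sup i j hij]
  exact mem_cen_sup (normalizer_le_cen_of_card (b.card_R i) (h i))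
    (normalizer_le_cen_of_card (b.card_R j) (h j))

/-- a 2-group `O ≤ N(L)` normalised by `T₁` and by `X` centralises `L` -/
theorem cen_of_two {O : Subgroup G} (hO : IsPGroup 2 O) (hL : O ≤ normalizer (L : Set G))
    (hT : T₁ ≤ normalizer (O : Set G)) (hX : XX L R ≤ normalizer (O : Set G)) :
    O ≤ centralizer (L : Set G) := by
  -- a common fixed point of `O` and `T₁`
  have h1 : IsPGroup 2 (O ⊔ T₁ : Subgroup G) := IsPGroup.to_sup_of_normal_left' hO b.T_p hT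
  have hLp : IsPGroup 2 L := by
    intro x
    refine ⟨1, Subtype.ext ?_⟩
    have := b.V_sq x x.2
    rw [pow_one, pow_two]
    exact this
  have hL1 : L ≠ ⊥ := fun h => b.R_ne o (le_bot_iff.1 (h ▸ b.R_le o))
  obtain ⟨e, he, he1, -, hc⟩ := exists_inv h1 hLp hL1 (sup_le hL b.T_L)
  obtain ⟨i, hi⟩ := b.R_cov e he
  have hio : i = o := by
    by_contra hne
    obtain ⟨g, hg, j, hjo, hji, h2⟩ := b.exists_mov hne
    have h3 : g * e * g⁻¹ ∈ R j := by rw [← h2]; exact conj_mem_cj hi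
    have h4 := hc g (mem_sup_right (b.QQ_le hg))
    rw [← h4, mul_inv_cancel_right] at h3
    exact he1 (b.eq_one hji h3 hi)
  have hR : ∀ y ∈ O, y ∈ normalizer (R o : Set G) := by
    intro y hy
    refine mem_normalizer_of_conj fun x hx => ?_
    rw [← hio] at hx ⊢
    by_cases hx1 : x = 1
    · rw [hx1, mul_one, mul_inv_cancel]; exact one_mem _
    · have : x = e := eq_of_card_two (b.card_R i) hi he1 hx hx1
      rw [this, ← hc y (mem_sup_left hy), mul_inv_cancel_right]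
      exact hi
  intro y hy
  refine b.cen_of_norm fun j => ?_
  obtain ⟨x, hx, h2⟩ := b.trans_X_one o j
  have h3 : x⁻¹ * y * x ∈ O := conj_inv_mem_of_normalizer (hX hx) hy
  have h4 := hR _ h3
  rw [← h2, normalizer_cj, mem_cj]
  exact h4

/-- **(loc')** -/
theorem loc {M : Subgroup G} (hT : T₁ ≤ M) (hX : XX L R ≤ M) :
    o2 M ≤ T₁ ∧ o2 M ≤ centralizer (L : Set G) := by
  obtain ⟨O, hO⟩ : ∃ O, O = o2 M := ⟨_, rfl⟩
  have hOp : IsPGroup 2 O := by rw [hO]; exact o2_isPGroup M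
  have hMO : M ≤ normalizer (O : Set G) := by rw [hO]; exact le_normalizer_o2 M
  have hTO := hT.trans hMO
  have hXO := hX.trans hMO
  -- `N_O(L)` centralises `L` and lies in `T₁`
  have hXNL : XX L R ≤ normalizer (normalizer (L : Set G) : Set G) := b.X_le_NV.trans le_normalizer
  have hinf : ∀ {A B C : Subgroup G}, A ≤ normalizer (B : Set G) → A ≤ normalizer (C : Set G) →
      A ≤ normalizer ((B ⊓ C : Subgroup G) : Set G) := by
    intro A B C h1 h2 a ha
    refine mem_normalizer_of_conj fun x hx => ?_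
    exact ⟨conj_mem_of_normalizer (h1 ha) hx.1, conj_mem_of_normalizer (h2 ha) hx.2⟩
  have h1 : O ⊓ normalizer (L : Set G) ≤ centralizer (L : Set G) :=
    b.cen_of_two (hOp.to_le inf_le_left) inf_le_right (hinf hTO (b.T_L.trans le_normalizer)) (hinf hXO hXNL)
  have h2 : O ⊓ normalizer (L : Set G) ≤ T₁ := by
    refine le_of_odd b.T_p (le_inf b.T_R b.T_L) b.T_odd (hOp.to_le inf_le_left) (le_inf (fun y hy => ?_) inf_le_right)
      (hinf hTO (b.T_L.trans le_normalizer))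
    refine mem_normalizer_of_conj fun x hx => ?_
    have h3 := mem_centralizer_iff.1 (h1 hy) x (b.R_le o hx)
    rw [← h3, mul_inv_cancel_right]
    exact hx
  suffices hOT : O ≤ T₁ by
    rw [← hO]
    exact ⟨hOT, fun y hy => h1 ⟨hy, b.T_L (hOT hy)⟩⟩
  by_contra hlt
  obtain ⟨w, hw, hwN, hwT⟩ := exists_step b.T_p hOp hTO hlt
  -- `[w, T₁] ≤ O₁ = O ∩ T₁`
  have hc : ∀ s ∈ T₁, w * s * w⁻¹ * s⁻¹ ∈ O ∧ w * s * w⁻¹ * s⁻¹ ∈ T₁ := by
    intro s hs
    refine ⟨?_, mul_mem (conj_mem_of_normalizer hwN hs) (inv_mem hs)⟩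
    have h3 : w * s * w⁻¹ * s⁻¹ = w * (s * w⁻¹ * s⁻¹) := by group
    rw [h3]
    exact mul_mem hw (conj_mem_of_normalizer (hTO hs) (inv_mem hw))
  have hc' : ∀ s ∈ T₁, ∀ x ∈ L, (w * s * w⁻¹ * s⁻¹) * x = x * (w * s * w⁻¹ * s⁻¹) := by
    intro s hs x hx
    obtain ⟨h3, h4⟩ := hc s hs
    exact (mem_centralizer_iff.1 (h1 ⟨h3, b.T_L h4⟩) x hx).symm
  have hQT : Q ≤ T₁ := b.Q_T.trans b.T_le
  have hwN' := inv_mem hwN
  have hO1 : ∀ y ∈ O, y ∈ T₁ → w⁻¹ * y * w ∈ O ∧ w⁻¹ * y * w ∈ T₁ := fun y h3 h4 =>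
    ⟨mul_mem (mul_mem (inv_mem hw) h3) hw, conj_inv_mem_of_normalizer hwN h4⟩
  -- `x ∈ L` is moved by `w` into `V ∩ C(O₁)`
  have hCO : ∀ x ∈ L, ∀ y ∈ O, y ∈ T₁ → y * (w * x * w⁻¹) = (w * x * w⁻¹) * y := by
    intro x hx y h3 h4
    obtain ⟨h5, h6⟩ := hO1 y h3 h4
    have h7 := mem_centralizer_iff.1 (h1 ⟨h5, b.T_L h6⟩) x hx
    calc y * (w * x * w⁻¹) = w * ((w⁻¹ * y * w) * x) * w⁻¹ := by group
      _ = w * (x * (w⁻¹ * y * w)) * w⁻¹ := by rw [← h7]
      _ = (w * x * w⁻¹) * y := by group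
  have hCV : ∀ x ∈ L, w * x * w⁻¹ ∈ V := by
    intro x hx
    have hxV := b.L_le hx
    rw [← b.zcQ] at hxV ⊢
    obtain ⟨-, h4, h5⟩ := mem_zc.1 hxV
    have hcomm : ∀ q ∈ Q, q * (w * x * w⁻¹) = (w * x * w⁻¹) * q := by
      intro q hq
      -- `w⁻¹ q w = d q` with `d ∈ O₁`
      obtain ⟨d, hd⟩ : ∃ d, d = w⁻¹ * q * w * q⁻¹ := ⟨_, rfl⟩
      have hdO : d ∈ O := by
        have h6 : d = w⁻¹ * (q * w * q⁻¹) := by rw [hd]; group
        rw [h6]
        exact mul_mem (inv_mem hw) (conj_mem_of_normalizer (hTO (hQT hq)) hw)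
      have hdT : d ∈ T₁ := by
        rw [hd]
        exact mul_mem (conj_inv_mem_of_normalizer hwN (hQT hq)) (inv_mem (hQT hq))
      have h7 := mem_centralizer_iff.1 (h1 ⟨hdO, b.T_L hdT⟩) x hx
      have h8 : q * x = x * q := h4 q hq
      have h9 : w⁻¹ * q * w = d * q := by rw [hd]; group
      calc q * (w * x * w⁻¹) = w * ((w⁻¹ * q * w) * x) * w⁻¹ := by group
        _ = w * (d * (q * x)) * w⁻¹ := by rw [h9]; group
        _ = w * ((x * d) * q) * w⁻¹ := by rw [h8, h7]; group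
        _ = w * (x * (w⁻¹ * q * w)) * w⁻¹ := by rw [h9]; group
        _ = (w * x * w⁻¹) * q := by group
    have hQ : w * x * w⁻¹ ∈ Q := b.Q_cen (mem_centralizer_iff.2 fun q hq => hcomm q hq)
    refine mem_zc.2 ⟨hQ, hcomm, ?_⟩
    have h6 : (w * x * w⁻¹) ^ 2 = w * x ^ 2 * w⁻¹ := by rw [pow_two, pow_two]; group
    rw [h6, h5, mul_one, mul_inv_cancel]
  -- `w` normalises `R o`
  obtain ⟨i, hio⟩ : ∃ i, i ≠ o := by
    obtain ⟨k, hk, -⟩ := b.third o o
    exact ⟨k, hk⟩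
  obtain ⟨g, hg, j, hjo, hji, hgj⟩ := b.exists_mov hio
  obtain ⟨x, hx, hx1⟩ := b.exists_ne i
  have hxL := b.R_le i hx
  have hne : g * x * g⁻¹ * x⁻¹ ≠ 1 := by
    intro h3
    have h4 : g * x * g⁻¹ ∈ R j := by rw [← hgj]; exact conj_mem_cj hx
    have h5 : g * x * g⁻¹ = x := by
      have : g * x * g⁻¹ = g * x * g⁻¹ * x⁻¹ * x := by group
      rw [this, h3, one_mul]
    rw [h5] at h4
    exact hx1 (b.eq_one hji h4 hx)
  have hr : g * x * g⁻¹ * x⁻¹ ∈ R o := b.QV o g hg x hxL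
  have hwo : w * (g * x * g⁻¹ * x⁻¹) * w⁻¹ ∈ R o := by
    have hgT := b.QQ_le hg
    obtain ⟨d, hd⟩ : ∃ d, d = w * g * w⁻¹ * g⁻¹ := ⟨_, rfl⟩
    have hd1 := (hc g hgT).1
    have hd2 := (hc g hgT).2
    rw [← hd] at hd1 hd2
    have hxV := hCV x hxL
    obtain ⟨y, hy⟩ : ∃ y, y = w * x * w⁻¹ := ⟨_, rfl⟩
    have h3 := hCO x hxL d hd1 hd2
    rw [← hy] at h3 hxV
    have h4 : g * y * g⁻¹ * y⁻¹ ∈ R o := b.QV' g hg y hxV
    have h5 := mem_centralizer_iff.1 (h1 ⟨hd1, b.T_L hd2⟩) _ (b.R_le o h4)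
    have h6 : w * g * w⁻¹ = d * g := by rw [hd]; group
    have h7 : w * (g * x * g⁻¹ * x⁻¹) * w⁻¹ = g * y * g⁻¹ * y⁻¹ := by
      calc w * (g * x * g⁻¹ * x⁻¹) * w⁻¹ = (w * g * w⁻¹) * (w * x * w⁻¹) * (w * g * w⁻¹)⁻¹ * (w * x * w⁻¹)⁻¹ := by
            group
        _ = d * g * y * (d * g)⁻¹ * y⁻¹ := by rw [h6, ← hy]
        _ = d * (g * y * g⁻¹ * y⁻¹) * (y * d⁻¹ * y⁻¹) := by group
        _ = d * (g * y * g⁻¹ * y⁻¹) * d⁻¹ := by
            have h8 : y * d⁻¹ * y⁻¹ = d⁻¹ := by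
              have : d⁻¹ * y = y * d⁻¹ := by
                calc d⁻¹ * y = d⁻¹ * (y * d) * d⁻¹ := by group
                  _ = d⁻¹ * (d * y) * d⁻¹ := by rw [h3]
                  _ = y * d⁻¹ := by group
              rw [← this]; group
            rw [h8]
        _ = g * y * g⁻¹ * y⁻¹ := by rw [← h5]; group
    rw [h7]
    exact h4
  have hwR : w ∈ normalizer (R o : Set G) := by
    refine mem_normalizer_of_conj fun z hz => ?_
    by_cases hz1 : z = 1
    · rw [hz1, mul_one, mul_inv_cancel]; exact one_mem _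
    · rw [eq_of_card_two (b.card_R o) hr hne hz hz1]
      exact hwo
  -- LEMMA F
  refine hwT (h2 ⟨hw, b.F w hwR i hio ?_ ?_⟩)
  · rw [cj_le_iff]
    exact fun z hz => hCV z (b.R_le i hz)
  · intro s hs z hz
    rw [mem_cj] at hz
    obtain ⟨y, hy⟩ : ∃ y, y = w⁻¹ * z * w := ⟨_, rfl⟩
    rw [← hy] at hz
    have hyz : z = w * y * w⁻¹ := by rw [hy]; group
    have hsT := b.T_le hs
    have hs' : w⁻¹ * s * w ∈ T₁ := conj_inv_mem_of_normalizer hwN hsT
    have h3 := b.comm_T1 hs' (b.R_le i hz)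
    have h4 : s * z * s⁻¹ * z⁻¹ = w * (w⁻¹ * s * w * y * (w⁻¹ * s * w)⁻¹ * y⁻¹) * w⁻¹ := by
      rw [hyz]; group
    rw [h4]
    exact conj_mem_of_normalizer hwR h3

end LD

end Cfsg.Agent.Omega.F4Leaf.Syl.LocP

end

section


/-!
# MemH2 (#21183), (I): `T₁` is Sylow in `N(R o)`

`LI` : `LD` with (G) (the transvections of `N_G(V)` with centre `R o`), `Q` Sylow in `C_G(V)`, `QQ (R i) ≤ N(Q)`,
`C_V(T) = R o × C_{C_V(T)}(X)`.

`LI.odd` : `¬ 2 ∣ |N(R o) : T₁|` if `|Ω₁Z(S)| ≥ 4`.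
-/

set_option autoImplicit false
set_option linter.unusedSectionVars false

namespace Cfsg.Agent.Omega.F4Leaf.Syl.LocP

open Subgroup Cfsg
open Cfsg.Agent.ZN (o2 zc)
open Cfsg.Agent.Omega.BTwo
open Cfsg.Agent.Omega.HT
open Cfsg.Agent.Omega.HOneTwo (eq_of_card_two normalizer_le_cen_of_card)
open Cfsg.Agent.MinSimple.VModule (o2_isPGroup le_o2 o2_le le_normalizer_o2 o2_le_of_sylow mem_zc zc_le zc_comm zc_sq)

universe u

variable {G : Type u} [Group G] {ι : Type*}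

/-- The data of (I). -/
structure LI (V L Q T T₁ : Subgroup G) (R : ι → Subgroup G) (o : ι) : Prop extends LD V L Q T T₁ R o where
  char2 : IsCharacteristicTwoType G
  Q_p : IsPGroup 2 Q
  QN : ∀ i, QQ (R i) ≤ normalizer (Q : Set G)
  VQ : ∀ i, V ≤ QQ (R i)
  Q_syl : ¬ 2 ∣ Q.relIndex (centralizer (V : Set G))
  G' : ∀ x ∈ normalizer (V : Set G), (∀ v ∈ V, x * v * x⁻¹ * v⁻¹ ∈ R o) → ∀ i, i ≠ o → x ∈ normalizer (R i : Set G) →
    x ∈ centralizer (V : Set G)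
  spl : ∀ z ∈ V, (∀ s ∈ T, s * z = z * s) → ∃ r ∈ R o, ∃ c ∈ centralizer (XX L R : Set G), z = r * c

namespace LI

variable [Finite G] {V L Q T T₁ : Subgroup G} {R : ι → Subgroup G} {o : ι} (b : LI V L Q T T₁ R o)
include b

theorem V_le_Q : V ≤ Q := by rw [← b.zcQ]; exact zc_le _

theorem V_comm' {x y : G} (hx : x ∈ V) (hy : y ∈ V) : x * y = y * x := by
  have h1 := hx
  rw [← b.zcQ] at h1
  exact ((mem_zc.1 h1).2.1 y (b.V_le_Q hy)).symm

theorem V_sq' {x : G} (hx : x ∈ V) : x * x = 1 := by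
  rw [← b.zcQ] at hx
  rw [← pow_two]
  exact (mem_zc.1 hx).2.2

theorem Q_cenV : Q ≤ centralizer (V : Set G) := by
  intro q hq
  refine mem_centralizer_iff.2 fun v hv => ?_
  rw [← b.zcQ] at hv
  exact ((mem_zc.1 hv).2.1 q hq).symm

theorem Q_T1 : Q ≤ T₁ := b.Q_T.trans b.T_le

/-- a 2-subgroup of `C_G(V)` normalised by `Q` lies in `Q` -/
theorem le_Q {H : Subgroup G} (hH : IsPGroup 2 H) (hHV : H ≤ centralizer (V : Set G))
    (hn : Q ≤ normalizer (H : Set G)) : H ≤ Q :=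
  le_of_odd b.Q_p b.Q_cenV b.Q_syl hH hHV hn

/-- an element of `C_G(V) ∩ N(Q)` of order 2 lies in `Q` -/
theorem mem_Q {x : G} (hx : x * x = 1) (hxV : x ∈ centralizer (V : Set G)) (hn : x ∈ normalizer (Q : Set G)) :
    x ∈ Q := by
  have h1 : IsPGroup 2 (zpowers x) := MinSimple.Basic.isPGroup_zpowers (by rw [pow_two]; exact hx)
  have h2 : IsPGroup 2 (Q ⊔ zpowers x : Subgroup G) :=
    IsPGroup.to_sup_of_normal_left' b.Q_p h1 (zpowers_le.2 hn)
  have h3 := Nat.le_of_dvd Nat.card_pos (card_dvd_card b.Q_cenV b.Q_syl h2 (sup_le b.Q_cenV (zpowers_le.2 hxV)))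
  have h4 : Q = Q ⊔ zpowers x := eq_of_le_of_card_ge le_sup_left h3
  rw [h4]
  exact mem_sup_right (mem_zpowers x)

/-- an element commuting with `X` and centralised by `T₁` centralises all `QQ (R i)` -/
theorem comm_QQ {e : G} (hT : ∀ s ∈ T₁, s * e = e * s) (hX : ∀ x ∈ XX L R, x * e = e * x) (i : ι) {g : G}
    (hg : g ∈ QQ (R i)) : g * e = e * g := by
  obtain ⟨x, hx, h1⟩ := b.trans_X_one o i
  have h2 : g ∈ cj x (QQ (R o)) := by rw [b.cj_QQ h1]; exact hg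
  rw [mem_cj] at h2
  have h3 := hT _ (b.QQ_le h2)
  have h4 := hX x hx
  have h5 : x⁻¹ * e = e * x⁻¹ := by
    calc x⁻¹ * e = x⁻¹ * (e * x) * x⁻¹ := by group
      _ = x⁻¹ * (x * e) * x⁻¹ := by rw [h4]
      _ = e * x⁻¹ := by group
  calc g * e = x * (x⁻¹ * g * x) * (x⁻¹ * e) := by group
    _ = x * (x⁻¹ * g * x) * (e * x⁻¹) := by rw [h5]
    _ = x * ((x⁻¹ * g * x) * e) * x⁻¹ := by group
    _ = x * (e * (x⁻¹ * g * x)) * x⁻¹ := by rw [h3]
    _ = (x * e) * (x⁻¹ * g * x) * x⁻¹ := by group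
    _ = (e * x) * (x⁻¹ * g * x) * x⁻¹ := by rw [h4]
    _ = e * g := by group

/-- **(I), the main step** -/
theorem step {Th : Subgroup G} (hTh : IsPGroup 2 Th) (hle : T₁ ≤ Th) (hR : Th ≤ normalizer (R o : Set G)) {e : G}
    (he : e ∈ V) (he1 : e ≠ 1) (heT : ∀ s ∈ Th, s * e = e * s) (heX : ∀ x ∈ XX L R, x * e = e * x) : Th ≤ T₁ := by
  by_contra hlt
  obtain ⟨t, ht, htN, htT⟩ := exists_step b.T_p hTh (hle.trans le_normalizer) hlt
  have htR := hR ht
  -- `Y = Z(O₂(C_G(e)))`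
  have hee : e * e = 1 := b.V_sq' he
  obtain ⟨C, hC⟩ : ∃ C, C = centralizer ({e} : Set G) := ⟨_, rfl⟩
  have hTC : Th ≤ C := by rw [hC]; exact fun s hs => mem_centralizer_singleton_iff.2 (heT s hs)
  have hXC : XX L R ≤ C := by rw [hC]; exact fun s hs => mem_centralizer_singleton_iff.2 (heX s hs)
  obtain ⟨-, hloc⟩ := b.loc (hle.trans hTC) hXC
  have hch : C ⊓ centralizer (o2 C : Set G) ≤ o2 C := by
    rw [hC]
    exact MinSimple.Basic.char2_centralizer b.char2 (by rw [pow_two]; exact hee) he1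
  obtain ⟨Y, hY⟩ : ∃ Y, Y = o2 C ⊓ centralizer (o2 C : Set G) := ⟨_, rfl⟩
  have hLY : L ≤ Y := by
    intro v hv
    have h1 : v ∈ centralizer (o2 C : Set G) := by
      refine mem_centralizer_iff.2 fun y hy => ?_
      exact (mem_centralizer_iff.1 (hloc hy) v hv).symm
    rw [hY]
    refine ⟨hch ⟨?_, h1⟩, h1⟩
    rw [hC]
    exact mem_centralizer_singleton_iff.2 (b.V_comm' (b.L_le hv) he)
  have hYn : C ≤ normalizer (Y : Set G) := by
    intro c hc
    refine mem_normalizer_of_conj fun y hy => ?_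
    rw [hY] at hy ⊢
    exact ⟨conj_mem_of_normalizer (le_normalizer_o2 C hc) hy.1,
      conj_mem_of_normalizer (normalizer_le_normalizer_centralizer _ (le_normalizer_o2 C hc)) hy.2⟩
  have hYp : IsPGroup 2 Y := by rw [hY]; exact (o2_isPGroup C).to_le inf_le_left
  have hYc : ∀ x ∈ Y, ∀ y ∈ Y, x * y = y * x := by
    intro x hx y hy
    rw [hY] at hx hy
    exact mem_centralizer_iff.1 hy.2 x hx.1
  -- the point
  obtain ⟨i, hio, -⟩ := b.third o o
  -- every element `x` of `t (R i) t⁻¹` lies in `V`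
  have hxL' : ∀ z ∈ R i, t * z * t⁻¹ ∈ Y := fun z hz =>
    conj_mem_of_normalizer (hYn (hTC ht)) (hLY (b.R_le i hz))
  have htN' := inv_mem htN
  have hLT : L ≤ T₁ := (b.L_le.trans b.V_le_Q).trans b.Q_T1
  have hRoV : R o ≤ V := (b.R_le o).trans b.L_le
  have key : ∀ z ∈ R i, t * z * t⁻¹ ∈ V := by
    intro z hz
    obtain ⟨x, hx⟩ : ∃ x, x = t * z * t⁻¹ := ⟨_, rfl⟩
    rw [← hx]
    have hxY : x ∈ Y := by rw [hx]; exact hxL' z hz
    have hxx : x * x = 1 := by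
      have h1 := b.V_sq z (b.R_le i hz)
      calc x * x = t * (z * z) * t⁻¹ := by rw [hx]; group
        _ = 1 := by rw [h1]; group
    have hxT : x ∈ T₁ := by rw [hx]; exact conj_mem_of_normalizer htN (hLT (b.R_le i hz))
    -- `[x, T₁] ≤ R o`
    have hxT1 : ∀ s ∈ T₁, x * s * x⁻¹ * s⁻¹ ∈ R o := by
      intro s hs
      have hs' : t⁻¹ * s * t ∈ T₁ := conj_inv_mem_of_normalizer htN hs
      have h1 := b.comm_T1 hs' (b.R_le i hz)
      have h2 : x * s * x⁻¹ * s⁻¹ = t * (t⁻¹ * s * t * z * (t⁻¹ * s * t)⁻¹ * z⁻¹)⁻¹ * t⁻¹ := by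
        rw [hx]; group
      rw [h2]
      exact conj_mem_of_normalizer htR (inv_mem h1)
    -- (a) `x` centralises `V`
    have hxQ : x ∈ normalizer (Q : Set G) := by
      refine mem_normalizer_of_conj fun q hq => ?_
      have h1 : x * q * x⁻¹ = x * q * x⁻¹ * q⁻¹ * q := by group
      rw [h1]
      exact mul_mem (b.V_le_Q (hRoV (hxT1 q (b.Q_T1 hq)))) hq
    have hxV : x ∈ normalizer (V : Set G) := by
      refine mem_normalizer_of_conj fun v hv => ?_
      have h1 : x * v * x⁻¹ = x * v * x⁻¹ * v⁻¹ * v := by group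
      rw [h1]
      exact mul_mem (hRoV (hxT1 v (b.Q_T1 (b.V_le_Q hv)))) hv
    have hxL : ∀ y ∈ L, x * y = y * x := fun y hy => hYc x hxY y (hLY hy)
    have hxi : x ∈ normalizer (R i : Set G) := by
      refine mem_normalizer_of_conj fun y hy => ?_
      rw [hxL y (b.R_le i hy), mul_inv_cancel_right]
      exact hy
    have hxcV : x ∈ centralizer (V : Set G) :=
      b.G' x hxV (fun v hv => hxT1 v (b.Q_T1 (b.V_le_Q hv))) i hio hxi
    have hxQ' : x ∈ Q := b.mem_Q hxx hxcV hxQ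
    -- (b)
    obtain ⟨Zp, hZp⟩ : ∃ Zp, Zp = zc (QQ (R i)) := ⟨_, rfl⟩
    have heQ : ∀ g ∈ QQ (R i), g * e = e * g := fun g hg =>
      b.comm_QQ (fun s hs => heT s (hle hs)) heX i hg
    have heZ : e ∈ Zp := by
      rw [hZp]
      exact mem_zc.2 ⟨b.VQ i he, heQ, by rw [pow_two]; exact hee⟩
    have hZV : Zp ≤ centralizer (V : Set G) := by
      intro y hy
      rw [hZp] at hy
      exact mem_centralizer_iff.2 fun v hv => (mem_zc.1 hy).2.1 v (b.VQ i hv)
    have hZn : normalizer (R i : Set G) ≤ normalizer (Zp : Set G) := by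
      rw [hZp]
      exact (le_normalizer_O2 _).trans (MinSimple.VModule.normalizer_le_normalizer_zc _)
    have hcVN : centralizer (V : Set G) ≤ normalizer (R i : Set G) := by
      intro y hy
      refine mem_normalizer_of_conj fun v hv => ?_
      have h1 := mem_centralizer_iff.1 hy v (b.L_le (b.R_le i hv))
      rw [← h1, mul_inv_cancel_right]
      exact hv
    have hZpp : IsPGroup 2 Zp := by rw [hZp]; exact (O2_isPGroup _).to_le (zc_le _)
    have hZQ : Zp ≤ Q := b.le_Q hZpp hZV (b.Q_cenV.trans (hcVN.trans hZn))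
    -- a mover of `R o` in `WW L (R i)`
    obtain ⟨w, hw, hwo⟩ : ∃ w ∈ WW L (R i), w ∉ normalizer (R o : Set G) := by
      obtain ⟨k, hki, hko⟩ := b.third i o
      obtain ⟨h, hh, hm⟩ := b.mt i
      obtain ⟨⟨v, hv, h1⟩, -⟩ := hm o k (Ne.symm hio) hki
      refine ⟨h * v * h⁻¹, cj_le_WW hh (conj_mem_cj hv), fun h2 => hko ?_⟩
      rw [cj_eq_self_iff.2 h2] at h1
      exact (b.R_index h1).symm
    have hwQQ : w ∈ QQ (R i) := b.W_le_Q i hw
    have hRZ : ∀ r ∈ R o, r ∈ Zp → r = 1 := by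
      intro r hr hrZ
      by_contra hr1
      apply hwo
      refine mem_normalizer_of_conj fun y hy => ?_
      by_cases hy1 : y = 1
      · rw [hy1, mul_one, mul_inv_cancel]; exact one_mem _
      · rw [eq_of_card_two (b.card_R o) hr hr1 hy hy1]
        rw [hZp] at hrZ
        rw [(mem_zc.1 hrZ).2.1 w hwQQ, mul_inv_cancel_right]
        exact hr
    have hxZ : ∀ y ∈ Zp, x * y = y * x := by
      intro y hy
      have h1 := hxT1 y (b.Q_T1 (hZQ hy))
      have h2 : x * y * x⁻¹ * y⁻¹ ∈ Zp :=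
        mul_mem (conj_mem_of_normalizer (hZn (hcVN hxcV)) hy) (inv_mem hy)
      have h3 := hRZ _ h1 h2
      calc x * y = x * y * x⁻¹ * y⁻¹ * y * x := by group
        _ = y * x := by rw [h3, one_mul]
    -- `x ∈ O₂(C_G(Z_p)) ≤ Q_p`
    have hxp : x ∈ QQ (R i) := by
      obtain ⟨D, hD⟩ : ∃ D, D = centralizer (Zp : Set G) := ⟨_, rfl⟩
      have hRiZ : R i ≤ Zp := by
        intro y hy
        rw [hZp]
        exact mem_zc.2 ⟨b.V_Q i (b.R_le i hy), fun g hg => b.QR i g hg y hy,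
          by rw [pow_two]; exact b.V_sq y (b.R_le i hy)⟩
      have hDC : D ≤ C := by
        rw [hD, hC]
        exact fun y hy => mem_centralizer_singleton_iff.2 ((mem_centralizer_iff.1 hy e heZ).symm)
      have hDN : D ≤ normalizer (R i : Set G) := by
        rw [hD]
        intro y hy
        refine mem_normalizer_of_conj fun v hv => ?_
        have h1 := mem_centralizer_iff.1 hy v (hRiZ hv)
        rw [← h1, mul_inv_cancel_right]
        exact hv
      have hNRD : normalizer (R i : Set G) ≤ normalizer (D : Set G) := by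
        rw [hD]
        exact hZn.trans (normalizer_le_normalizer_centralizer _)
      have h1 : Y ⊓ D ≤ o2 D := by
        refine le_o2 inf_le_right (hYp.to_le inf_le_left) fun c hc => ?_
        refine mem_normalizer_of_conj fun y hy => ?_
        exact ⟨conj_mem_of_normalizer (hYn (hDC hc)) hy.1, D.mul_mem (D.mul_mem hc hy.2) (D.inv_mem hc)⟩
      have h2 : o2 D ≤ QQ (R i) := by
        refine le_O2_of_normal ((o2_le D).trans hDN) (o2_isPGroup D) ?_
        intro g hg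
        have h3 : BTwo.cj g (O2 D) = O2 D := by
          rw [BTwo.cj_O2, cj_eq_self_iff.2 (hNRD hg)]
        exact fun a ha => conj_mem_of_normalizer (cj_eq_self_iff.1 h3) ha
      refine h2 (h1 ⟨hxY, ?_⟩)
      rw [hD]
      exact mem_centralizer_iff.2 fun y hy => (hxZ y hy).symm
    -- `[x, Q] = 1`
    have hxcQ : ∀ q ∈ Q, q * x = x * q := by
      intro q hq
      have h1 := hxT1 q (b.Q_T1 hq)
      by_contra hne
      have hne' : x * q * x⁻¹ * q⁻¹ ≠ 1 := by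
        intro h2
        apply hne
        calc q * x = (x * q * x⁻¹ * q⁻¹)⁻¹ * (x * q) := by group
          _ = x * q := by rw [h2, inv_one, one_mul]
      apply hwo
      have hwQ := b.QN i hwQQ
      have h2 : w * q * w⁻¹ ∈ Q := conj_mem_of_normalizer hwQ hq
      obtain ⟨q', hq'⟩ : ∃ q', q' = w * q * w⁻¹ := ⟨_, rfl⟩
      rw [← hq'] at h2
      obtain ⟨s, hs⟩ : ∃ s, s = x * w * x⁻¹ * w⁻¹ := ⟨_, rfl⟩
      have h3 : s ∈ R i := by rw [hs]; exact b.WQ i hxp hw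
      have h4 : x * q' * x⁻¹ ∈ Q := conj_mem_of_normalizer hxQ h2
      have h5 : s * (x * q' * x⁻¹) = x * q' * x⁻¹ * s :=
        mem_centralizer_iff.1 (b.Q_cenV h4) s (b.L_le (b.R_le i h3))
      have h6 : w * x * w⁻¹ = s⁻¹ * x := by rw [hs]; group
      have h7 : w * (x * q * x⁻¹ * q⁻¹) * w⁻¹ = x * q' * x⁻¹ * q'⁻¹ := by
        calc w * (x * q * x⁻¹ * q⁻¹) * w⁻¹ = (w * x * w⁻¹) * (w * q * w⁻¹) * (w * x * w⁻¹)⁻¹ * (w * q * w⁻¹)⁻¹ := by
              group
          _ = s⁻¹ * ((x * q' * x⁻¹) * s) * q'⁻¹ := by rw [h6, ← hq']; group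
          _ = x * q' * x⁻¹ * q'⁻¹ := by rw [← h5]; group
      refine mem_normalizer_of_conj fun y hy => ?_
      by_cases hy1 : y = 1
      · rw [hy1, mul_one, mul_inv_cancel]; exact one_mem _
      · rw [eq_of_card_two (b.card_R o) h1 hne' hy hy1, h7]
        exact hxT1 q' (b.Q_T1 h2)
    rw [← b.zcQ]
    exact mem_zc.2 ⟨hxQ', hxcQ, by rw [pow_two]; exact hxx⟩
  have htL : t ∈ normalizer (L : Set G) := by
    refine b.F t htR i hio ?_ ?_
    · rw [cj_le_iff]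
      exact key
    · intro s hs z hz
      rw [mem_cj] at hz
      have hs' : t⁻¹ * s * t ∈ T₁ := conj_inv_mem_of_normalizer htN (b.T_le hs)
      have h1 := b.comm_T1 hs' (b.R_le i hz)
      have h2 : s * z * s⁻¹ * z⁻¹ =
          t * (t⁻¹ * s * t * (t⁻¹ * z * t) * (t⁻¹ * s * t)⁻¹ * (t⁻¹ * z * t)⁻¹) * t⁻¹ := by group
      rw [h2]
      exact conj_mem_of_normalizer htR h1
  refine htT ?_
  have h1 : IsPGroup 2 (zpowers t) := hTh.to_le (zpowers_le.2 ht)
  have h2 : IsPGroup 2 (T₁ ⊔ zpowers t : Subgroup G) :=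
    IsPGroup.to_sup_of_normal_left' b.T_p h1 (zpowers_le.2 htN)
  have hTK := le_inf b.T_R b.T_L
  have h3 := Nat.le_of_dvd Nat.card_pos (card_dvd_card hTK b.T_odd h2 (sup_le hTK (zpowers_le.2 ⟨htR, htL⟩)))
  have h4 : T₁ = T₁ ⊔ zpowers t := eq_of_le_of_card_ge le_sup_left h3
  rw [h4]
  exact mem_sup_right (mem_zpowers t)

/-- an element `e ≠ 1` of a subgroup `Z ≤ V` of order `≥ 4` centralised by `T`, commuting with `X` -/
theorem exists_e {Z : Subgroup G} (hZV : Z ≤ V) (hZT : ∀ z ∈ Z, ∀ s ∈ T, s * z = z * s) (h4 : 4 ≤ Nat.card Z) :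
    ∃ e ∈ Z, e ≠ 1 ∧ ∀ x ∈ XX L R, x * e = e * x := by
  have hcen : ∀ c ∈ centralizer (XX L R : Set G), ∀ x ∈ XX L R, x * c = c * x := fun c hc x hx =>
    mem_centralizer_iff.1 hc x hx
  obtain ⟨z₁, hz₁, h1⟩ : ∃ z ∈ Z, z ≠ 1 := by
    by_contra hc
    push Not at hc
    have : Z = ⊥ := (eq_bot_iff_forall _).2 hc
    rw [this, card_bot] at h4
    omega
  obtain ⟨z₂, hz₂, h2, h3⟩ : ∃ z ∈ Z, z ≠ 1 ∧ z ≠ z₁ := by
    by_contra hc
    push Not at hc
    have h5 : (Z : Set G) ⊆ {1, z₁} := fun z hz => by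
      by_cases h6 : z = 1
      · exact Or.inl h6
      · exact Or.inr (hc z hz h6)
    have h6 := Set.ncard_le_ncard h5 (Set.toFinite _)
    have h7 : ({1, z₁} : Set G).ncard ≤ 2 := (Set.ncard_insert_le _ _).trans (by rw [Set.ncard_singleton])
    have h8 : Nat.card Z = (Z : Set G).ncard := rfl
    omega
  obtain ⟨r₁, hr₁, c₁, hc₁, e₁⟩ := b.spl z₁ (hZV hz₁) (hZT z₁ hz₁)
  obtain ⟨r₂, hr₂, c₂, hc₂, e₂⟩ := b.spl z₂ (hZV hz₂) (hZT z₂ hz₂)
  by_cases h5 : r₁ = 1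
  · refine ⟨z₁, hz₁, h1, hcen _ ?_⟩
    rw [e₁, h5, one_mul]; exact hc₁
  by_cases h6 : r₂ = 1
  · refine ⟨z₂, hz₂, h2, hcen _ ?_⟩
    rw [e₂, h6, one_mul]; exact hc₂
  have h7 : r₂ = r₁ := eq_of_card_two (b.card_R o) hr₁ h5 hr₂ h6
  refine ⟨z₁ * z₂, mul_mem hz₁ hz₂, ?_, hcen _ ?_⟩
  · intro h8
    apply h3
    have h9 := b.V_sq' (hZV hz₁)
    calc z₂ = z₁ * (z₁ * z₂) := by rw [← mul_assoc, h9, one_mul]
      _ = z₁ := by rw [h8, mul_one]
  · have hr₁V : r₁ ∈ V := b.L_le (b.R_le o hr₁)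
    have h8 : z₁ * z₂ = c₁ * c₂ := by
      have h9 := b.V_comm' (hZV hz₁) hr₁V
      calc z₁ * z₂ = (z₁ * r₁) * c₂ := by rw [e₂, h7, mul_assoc]
        _ = (r₁ * z₁) * c₂ := by rw [h9]
        _ = (r₁ * r₁) * c₁ * c₂ := by rw [e₁]; group
        _ = c₁ * c₂ := by rw [b.V_sq' hr₁V, one_mul]
    rw [h8]
    exact mul_mem hc₁ hc₂

/-- **(I)** `T₁` is Sylow in `N(R o)` -/
theorem odd (S : Sylow 2 G) (h4 : 4 ≤ Nat.card (zc (S : Subgroup G))) : ¬ 2 ∣ T₁.relIndex (normalizer (R o : Set G)) := by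
  have hf : Fact (Nat.Prime 2) := ⟨Nat.prime_two⟩
  obtain ⟨Th, h1, h2, h3, h5⟩ := exists_syl b.T_p b.T_R
  obtain ⟨g, hg⟩ : ∃ g : G, Th ≤ cj g (S : Subgroup G) := by
    obtain ⟨P, hP⟩ := h3.exists_le_sylow
    obtain ⟨g, hg⟩ := MulAction.exists_smul_eq G S P
    refine ⟨g, hP.trans (le_of_eq ?_)⟩
    rw [← hg]
    rfl
  have hcom : ∀ z ∈ cj g (zc (S : Subgroup G)), ∀ s ∈ Th, s * z = z * s := by
    intro z hz s hs
    rw [mem_cj] at hz
    have h6 := mem_cj.1 (hg hs)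
    have h7 := (mem_zc.1 hz).2.1 _ h6
    calc s * z = g * ((g⁻¹ * s * g) * (g⁻¹ * z * g)) * g⁻¹ := by group
      _ = g * ((g⁻¹ * z * g) * (g⁻¹ * s * g)) * g⁻¹ := by rw [h7]
      _ = z * s := by group
  have hV : cj g (zc (S : Subgroup G)) ≤ V := by
    intro z hz
    have h6 : ∀ q ∈ Q, q * z = z * q := fun q hq => hcom z hz q (h1 (b.Q_T1 hq))
    rw [← b.zcQ]
    refine mem_zc.2 ⟨b.Q_cen (mem_centralizer_iff.2 h6), h6, ?_⟩
    rw [mem_cj] at hz
    have h7 := (mem_zc.1 hz).2.2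
    have h8 : z ^ 2 = g * (g⁻¹ * z * g) ^ 2 * g⁻¹ := by rw [pow_two, pow_two]; group
    rw [h8, h7, mul_one, mul_inv_cancel]
  obtain ⟨e, he, he1, heX⟩ := b.exists_e hV (fun z hz s hs => hcom z hz s (h1 (b.T_le hs)))
    (by rw [card_cj]; exact h4)
  have h6 : Th = T₁ := le_antisymm (b.step h3 h1 h2 (hV he) he1 (hcom e he) heX) h1
  rw [← h6]
  exact h5

end LI

end Cfsg.Agent.Omega.F4Leaf.Syl.LocP

end
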