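import Mathlib

section


/-!
# II.0h1, `q = 2`, after the transvection statement: one side ((1) and (4) of #15507)

`Side`: an elementary abelian normal subgroup `U = ⟨Δ⟩` of `A`, `Δ` invariant under `A`, `z ∈ U ∩ Z(A)`, and for
`p ∈ Δ` a subgroup `N p ≤ A` which induces on `U` the transvection `u ↦ u (p z) ^ φ p u`, `φ p` with kernel `K p`.

* `Side.symm`: `φ p q = φ q p` for `p, q ∈ Δ`;
* `Side.inj`: if `A / C(U)` has no normal 2-subgroup then `Δ → U / rad` is injective.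
-/

set_option autoImplicit false
set_option linter.unusedSectionVars false

namespace Cfsg.Agent.Omega.HOneTwo.Trans

open Subgroup

universe u

/-- `x ^ c`, `c ∈ F₂` -/
def pw {G : Type u} [Group G] (x : G) (c : ZMod 2) : G := if c = 0 then 1 else x

section pw

variable {G : Type u} [Group G]

@[simp] theorem pw_zero (x : G) : pw x 0 = 1 := if_pos rfl

@[simp] theorem pw_one (x : G) : pw x 1 = x := if_neg (by decide)

theorem zmod_cases (c : ZMod 2) : c = 0 ∨ c = 1 := by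
  revert c; decide

theorem zmod_one {c : ZMod 2} (h : c ≠ 0) : c = 1 := (zmod_cases c).resolve_left h

theorem pw_add {x : G} (hx : x * x = 1) (a b : ZMod 2) : pw x (a + b) = pw x a * pw x b := by
  rcases zmod_cases a with rfl | rfl <;> rcases zmod_cases b with rfl | rfl
  · simp
  · simp
  · simp
  · have : (1 : ZMod 2) + 1 = 0 := by decide
    rw [this]; simp [hx]

theorem pw_inj {x : G} (hx : x ≠ 1) {a b : ZMod 2} (h : pw x a = pw x b) : a = b := by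
  rcases zmod_cases a with rfl | rfl <;> rcases zmod_cases b with rfl | rfl
  · rfl
  · simp only [pw_zero, pw_one] at h; exact absurd h.symm hx
  · simp only [pw_zero, pw_one] at h; exact absurd h hx
  · rfl

theorem pw_conj (g x : G) (c : ZMod 2) : g * pw x c * g⁻¹ = pw (g * x * g⁻¹) c := by
  rcases zmod_cases c with rfl | rfl <;> simp

end pw

/-- one side -/
structure Side (G : Type u) [Group G] where
  A : Subgroup G
  U : Subgroup G
  Δ : Set G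
  z : G
  N : G → Subgroup G
  K : G → Subgroup G
  U_sq : ∀ u ∈ U, u * u = 1
  U_conj : ∀ m ∈ A, ∀ u ∈ U, m * u * m⁻¹ ∈ U
  Δ_gen : closure Δ = U
  Δ_conj : ∀ m ∈ A, ∀ p ∈ Δ, m * p * m⁻¹ ∈ Δ
  z_mem : z ∈ U
  z_comm : ∀ m ∈ A, m * z = z * m
  N_le : ∀ p ∈ Δ, N p ≤ A
  N_conj : ∀ m ∈ A, ∀ p ∈ Δ, ∀ n ∈ N p, m * n * m⁻¹ ∈ N (m * p * m⁻¹)
  act : ∀ p ∈ Δ, ∀ n ∈ N p, (∀ u ∈ U, n * u * n⁻¹ = u) ∨
    (∀ u ∈ U, (u ∈ K p → n * u * n⁻¹ = u) ∧ (u ∉ K p → n * u * n⁻¹ = u * (p * z)))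
  exN : ∀ p ∈ Δ, ∃ n ∈ N p, ∃ u ∈ U, n * u * n⁻¹ ≠ u
  zK : ∀ p ∈ Δ, z ∈ K p
  pK : ∀ p ∈ Δ, p ∈ K p

namespace Side

variable {G : Type u} [Group G] (D : Side G)

open Classical in
/-- the functional -/
noncomputable def φ (p u : G) : ZMod 2 := if u ∈ D.K p then 0 else 1

theorem Δ_le {p : G} (hp : p ∈ D.Δ) : p ∈ D.U := by
  rw [← D.Δ_gen]; exact subset_closure hp

theorem U_comm {u v : G} (hu : u ∈ D.U) (hv : v ∈ D.U) : u * v = v * u := by
  have h1 := D.U_sq _ (D.U.mul_mem hu hv)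
  have h2 := D.U_sq u hu
  have h3 := D.U_sq v hv
  calc u * v = u * (u * v * (u * v)) * v := by rw [h1, mul_one]
    _ = (u * u) * (v * u) * (v * v) := by group
    _ = v * u := by rw [h2, h3, one_mul, mul_one]

theorem U_inv {u : G} (hu : u ∈ D.U) : u⁻¹ = u := inv_eq_of_mul_eq_one_left (D.U_sq u hu)

theorem pz_mem {p : G} (hp : p ∈ D.Δ) : p * D.z ∈ D.U := D.U.mul_mem (D.Δ_le hp) D.z_mem

theorem pz_sq {p : G} (hp : p ∈ D.Δ) : p * D.z * (p * D.z) = 1 := D.U_sq _ (D.pz_mem hp)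

/-- elements of `N p` act as `1` or as the transvection -/
theorem act' {p : G} (hp : p ∈ D.Δ) {n : G} (hn : n ∈ D.N p) : (∀ u ∈ D.U, n * u * n⁻¹ = u) ∨
    ∀ u ∈ D.U, n * u * n⁻¹ = u * pw (p * D.z) (D.φ p u) := by
  rcases D.act p hp n hn with h | h
  · exact Or.inl h
  · refine Or.inr fun u hu => ?_
    unfold φ
    by_cases h1 : u ∈ D.K p
    · rw [if_pos h1, pw_zero, mul_one]; exact (h u hu).1 h1
    · rw [if_neg h1, pw_one]; exact (h u hu).2 h1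

theorem exists_t {p : G} (hp : p ∈ D.Δ) : ∃ t ∈ D.N p, ∀ u ∈ D.U, t * u * t⁻¹ = u * pw (p * D.z) (D.φ p u) := by
  obtain ⟨n, hn, u, hu, h⟩ := D.exN p hp
  exact ⟨n, hn, (D.act' hp hn).resolve_left fun h' => h (h' u hu)⟩

open Classical in
/-- an element of `N p` that acts as the transvection -/
noncomputable def t (p : G) : G := if hp : p ∈ D.Δ then (D.exists_t hp).choose else 1

theorem t_mem {p : G} (hp : p ∈ D.Δ) : D.t p ∈ D.N p := by
  unfold t; rw [dif_pos hp]; exact (D.exists_t hp).choose_spec.1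

theorem t_act {p : G} (hp : p ∈ D.Δ) {u : G} (hu : u ∈ D.U) :
    D.t p * u * (D.t p)⁻¹ = u * pw (p * D.z) (D.φ p u) := by
  unfold t; rw [dif_pos hp]; exact (D.exists_t hp).choose_spec.2 u hu

theorem t_A {p : G} (hp : p ∈ D.Δ) : D.t p ∈ D.A := D.N_le p hp (D.t_mem hp)

theorem pz_ne {p : G} (hp : p ∈ D.Δ) : p * D.z ≠ 1 := by
  intro h
  obtain ⟨n, hn, u, hu, h1⟩ := D.exN p hp
  apply h1
  rcases D.act p hp n hn with h2 | h2
  · exact h2 u hu
  · by_cases h3 : u ∈ D.K p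
    · exact (h2 u hu).1 h3
    · rw [(h2 u hu).2 h3, h, mul_one]

theorem φ_ne {p : G} (hp : p ∈ D.Δ) : ∃ u ∈ D.U, D.φ p u = 1 := by
  obtain ⟨n, hn, u, hu, h⟩ := D.exN p hp
  refine ⟨u, hu, zmod_one fun h0 => h ?_⟩
  rcases D.act' hp hn with h1 | h1
  · exact h1 u hu
  · rw [h1 u hu, h0, pw_zero, mul_one]

theorem φ_eq {p n : G} (hp : p ∈ D.Δ) (hn : n ∈ D.N p) {v : G} (hv : v ∈ D.U) (hnv : n * v * n⁻¹ ≠ v)
    {u : G} (hu : u ∈ D.U) : n * u * n⁻¹ = u * pw (p * D.z) (D.φ p u) :=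
  (D.act' hp hn).resolve_left (fun h => hnv (h v hv)) u hu

theorem φ_mul {p : G} (hp : p ∈ D.Δ) {u v : G} (hu : u ∈ D.U) (hv : v ∈ D.U) :
    D.φ p (u * v) = D.φ p u + D.φ p v := by
  apply pw_inj (D.pz_ne hp)
  rw [pw_add (D.pz_sq hp)]
  have h1 := D.t_act hp (D.U.mul_mem hu hv)
  have h2 : D.t p * (u * v) * (D.t p)⁻¹ = (D.t p * u * (D.t p)⁻¹) * (D.t p * v * (D.t p)⁻¹) := by group
  rw [h2, D.t_act hp hu, D.t_act hp hv] at h1
  have h3 : pw (p * D.z) (D.φ p u) ∈ D.U := by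
    rcases zmod_cases (D.φ p u) with h | h <;> rw [h]
    · rw [pw_zero]; exact D.U.one_mem
    · rw [pw_one]; exact D.pz_mem hp
  have h4 : u * pw (p * D.z) (D.φ p u) * (v * pw (p * D.z) (D.φ p v)) =
      u * v * (pw (p * D.z) (D.φ p u) * pw (p * D.z) (D.φ p v)) := by
    rw [mul_assoc u, ← mul_assoc (pw _ _) v, D.U_comm h3 hv]
    group
  rw [h4] at h1
  exact (mul_left_cancel h1).symm

theorem φ_z {p : G} (hp : p ∈ D.Δ) : D.φ p D.z = 0 := if_pos (D.zK p hp)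

theorem φ_self {p : G} (hp : p ∈ D.Δ) : D.φ p p = 0 := if_pos (D.pK p hp)

theorem φ_pz {p q : G} (hp : p ∈ D.Δ) (hq : q ∈ D.Δ) : D.φ q (p * D.z) = D.φ q p := by
  rw [D.φ_mul hq (D.Δ_le hp) D.z_mem, D.φ_z hq, add_zero]

theorem φ_one {p : G} (hp : p ∈ D.Δ) : D.φ p 1 = 0 := by
  have := D.φ_mul hp D.U.one_mem D.U.one_mem
  rw [mul_one] at this
  exact left_eq_add.mp this

theorem pw_mem {x : G} (hx : x ∈ D.U) (c : ZMod 2) : pw x c ∈ D.U := by
  rcases zmod_cases c with rfl | rfl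
  · rw [pw_zero]; exact D.U.one_mem
  · rw [pw_one]; exact hx

theorem φ_pw {p x : G} (hp : p ∈ D.Δ) (c : ZMod 2) : D.φ p (pw x c) = c * D.φ p x := by
  rcases zmod_cases c with rfl | rfl
  · rw [pw_zero, D.φ_one hp, zero_mul]
  · rw [pw_one, one_mul]

/-- `φ` is invariant -/
theorem φ_conj {m p u : G} (hm : m ∈ D.A) (hp : p ∈ D.Δ) (hu : u ∈ D.U) :
    D.φ (m * p * m⁻¹) (m * u * m⁻¹) = D.φ p u := by
  have hp' := D.Δ_conj m hm p hp
  have hn := D.N_conj m hm p hp _ (D.t_mem hp)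
  obtain ⟨v, hv, hv1⟩ := D.φ_ne hp
  have hpz : m * (p * D.z) * m⁻¹ = m * p * m⁻¹ * D.z := by
    calc m * (p * D.z) * m⁻¹ = m * p * m⁻¹ * (m * D.z) * m⁻¹ := by group
      _ = m * p * m⁻¹ * (D.z * m) * m⁻¹ := by rw [D.z_comm m hm]
      _ = m * p * m⁻¹ * D.z := by group
  have key : ∀ w ∈ D.U, m * D.t p * m⁻¹ * (m * w * m⁻¹) * (m * D.t p * m⁻¹)⁻¹ =
      m * w * m⁻¹ * pw (m * p * m⁻¹ * D.z) (D.φ p w) := by
    intro w hw
    have h1 := D.t_act hp hw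
    calc m * D.t p * m⁻¹ * (m * w * m⁻¹) * (m * D.t p * m⁻¹)⁻¹
        = m * (D.t p * w * (D.t p)⁻¹) * m⁻¹ := by group
      _ = m * w * m⁻¹ * (m * pw (p * D.z) (D.φ p w) * m⁻¹) := by rw [h1]; group
      _ = _ := by rw [pw_conj, hpz]
  have h2 := D.φ_eq hp' hn (D.U_conj m hm v hv) (by
    rw [key v hv, hv1, pw_one]
    intro h
    exact D.pz_ne hp' (mul_eq_left.mp h)) (D.U_conj m hm u hu)
  rw [key u hu] at h2
  exact (pw_inj (D.pz_ne hp') (mul_left_cancel h2)).symm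

/-- **(1)** -/
theorem symm {p q : G} (hp : p ∈ D.Δ) (hq : q ∈ D.Δ) : D.φ p q = D.φ q p := by
  -- it is enough to exclude `φ p q = 1`, `φ q p = 0`
  have key : ∀ p ∈ D.Δ, ∀ q ∈ D.Δ, D.φ p q = 1 → D.φ q p = 0 → False := by
    intro p hp q hq h1 h0
    have hp' := D.Δ_le hp
    have hq' := D.Δ_le hq
    set s := D.t p with hs
    set t := D.t q with ht
    -- `t` centralises `p`
    have e1 : t * p * t⁻¹ = p := by rw [ht, D.t_act hq hp', h0, pw_zero, mul_one]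
    -- `q' = q ^ s`
    have e2 : s * q * s⁻¹ = q * (p * D.z) := by rw [hs, D.t_act hp hq', h1, pw_one]
    -- `c = [t, s] ∈ N p`
    have hc : t * s * t⁻¹ * s⁻¹ ∈ D.N p := by
      have h2 := D.N_conj t (D.t_A hq) p hp s (D.t_mem hp)
      rw [e1] at h2
      exact (D.N p).mul_mem h2 ((D.N p).inv_mem (D.t_mem hp))
    -- the action of `s t s⁻¹`
    have hst : ∀ u ∈ D.U, s * t * s⁻¹ * u * (s * t * s⁻¹)⁻¹ = u * pw (q * p) (D.φ q u) := by
      intro u hu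
      have hu' : s⁻¹ * u * s ∈ D.U := by
        have := D.U_conj s⁻¹ (D.A.inv_mem (D.t_A hp)) u hu
        rwa [inv_inv] at this
      have h3 : D.φ q (s⁻¹ * u * s) = D.φ q u := by
        have h4 := D.t_act hp hu'
        have h5 : D.t p * (s⁻¹ * u * s) * (D.t p)⁻¹ = u := by rw [← hs]; group
        rw [h5] at h4
        have h6 := congrArg (D.φ q) h4
        rw [D.φ_mul hq hu' (D.pw_mem (D.pz_mem hp) _), D.φ_pw hq, D.φ_pz hp hq, h0, mul_zero, add_zero] at h6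
        exact h6.symm
      have h4 := D.t_act hq hu'
      rw [← ht, h3] at h4
      have h5 : s * (q * D.z) * s⁻¹ = q * p := by
        calc s * (q * D.z) * s⁻¹ = (s * q * s⁻¹) * (s * D.z * s⁻¹) := by group
          _ = q * (p * D.z) * D.z := by
            rw [e2, D.z_comm s (D.t_A hp), mul_inv_cancel_right]
          _ = q * p * (D.z * D.z) := by group
          _ = q * p := by rw [D.U_sq _ D.z_mem, mul_one]
      calc s * t * s⁻¹ * u * (s * t * s⁻¹)⁻¹ = s * (t * (s⁻¹ * u * s) * t⁻¹) * s⁻¹ := by group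
        _ = s * (s⁻¹ * u * s) * s⁻¹ * (s * pw (q * D.z) (D.φ q u) * s⁻¹) := by rw [h4]; group
        _ = u * pw (q * p) (D.φ q u) := by rw [pw_conj, h5]; group
    -- the action of `c = t (s t⁻¹ s⁻¹)`
    have hcu : ∀ u ∈ D.U, (t * s * t⁻¹ * s⁻¹) * u * (t * s * t⁻¹ * s⁻¹)⁻¹ = u * pw (p * D.z) (D.φ q u) := by
      intro u hu
      -- `s t⁻¹ s⁻¹ u s t s⁻¹ = u * pw (q p) (φ q u)` as well
      have hqp : q * p ∈ D.U := D.U.mul_mem hq' hp'
      have h6 : D.φ q (u * pw (q * p) (D.φ q u)) = D.φ q u := by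
        rw [D.φ_mul hq hu (D.pw_mem hqp _), D.φ_pw hq, D.φ_mul hq hq' hp', D.φ_self hq, h0, add_zero, mul_zero,
          add_zero]
      have h7 : (s * t * s⁻¹)⁻¹ * u * (s * t * s⁻¹) = u * pw (q * p) (D.φ q u) := by
        have hv := D.U.mul_mem hu (D.pw_mem hqp (D.φ q u))
        have h8 := hst _ hv
        rw [h6, mul_assoc u, ← pw_add (D.U_sq _ hqp)] at h8
        have h9 : D.φ q u + D.φ q u = 0 := by
          rcases zmod_cases (D.φ q u) with h | h <;> rw [h] <;> decide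
        rw [h9, pw_zero, mul_one] at h8
        calc (s * t * s⁻¹)⁻¹ * u * (s * t * s⁻¹) = (s * t * s⁻¹)⁻¹ * (s * t * s⁻¹ *
              (u * pw (q * p) (D.φ q u)) * (s * t * s⁻¹)⁻¹) * (s * t * s⁻¹) := by rw [h8]
          _ = u * pw (q * p) (D.φ q u) := by group
      have hv := D.U.mul_mem hu (D.pw_mem hqp (D.φ q u))
      calc (t * s * t⁻¹ * s⁻¹) * u * (t * s * t⁻¹ * s⁻¹)⁻¹
          = t * ((s * t * s⁻¹)⁻¹ * u * (s * t * s⁻¹)) * t⁻¹ := by group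
        _ = t * (u * pw (q * p) (D.φ q u)) * t⁻¹ := by rw [h7]
        _ = u * pw (q * p) (D.φ q u) * pw (q * D.z) (D.φ q u) := by
            rw [ht, D.t_act hq hv, h6]
        _ = u * pw (p * D.z) (D.φ q u) := by
            rw [mul_assoc]
            congr 1
            rcases zmod_cases (D.φ q u) with h | h
            · rw [h, pw_zero, pw_zero, pw_zero, mul_one]
            · rw [h, pw_one, pw_one, pw_one, D.U_comm hq' hp', mul_assoc, ← mul_assoc q, D.U_sq q hq', one_mul]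
    -- `c` acts nontrivially
    obtain ⟨v, hv, hv1⟩ := D.φ_ne hq
    have h3 := D.φ_eq hp hc hv (by
      rw [hcu v hv, hv1, pw_one]
      intro h
      exact D.pz_ne hp (mul_eq_left.mp h)) hq'
    rw [hcu q hq'] at h3
    have h4 := pw_inj (D.pz_ne hp) (mul_left_cancel h3)
    rw [D.φ_self hq, h1] at h4
    exact zero_ne_one h4
  rcases zmod_cases (D.φ p q) with h1 | h1 <;> rcases zmod_cases (D.φ q p) with h2 | h2
  · rw [h1, h2]
  · exact (key q hq p hp h2 h1).elim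
  · exact (key p hp q hq h1 h2).elim
  · rw [h1, h2]

/-! ### The radical -/

/-- the radical: `u ∈ U` with `φ p u = 0` for all `p ∈ Δ` -/
def U0 : Subgroup G where
  carrier := {u | u ∈ D.U ∧ ∀ p ∈ D.Δ, D.φ p u = 0}
  one_mem' := ⟨D.U.one_mem, fun _ hp => D.φ_one hp⟩
  mul_mem' := by
    rintro a b ⟨ha, ha'⟩ ⟨hb, hb'⟩
    exact ⟨D.U.mul_mem ha hb, fun p hp => by rw [D.φ_mul hp ha hb, ha' p hp, hb' p hp, add_zero]⟩
  inv_mem' := by
    rintro a ⟨ha, ha'⟩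
    rw [D.U_inv ha]
    exact ⟨ha, ha'⟩

theorem mem_U0 {u : G} : u ∈ D.U0 ↔ u ∈ D.U ∧ ∀ p ∈ D.Δ, D.φ p u = 0 := Iff.rfl

theorem z_U0 : D.z ∈ D.U0 := ⟨D.z_mem, fun _ hp => D.φ_z hp⟩

/-- a homomorphism `U → F₂` that vanishes on `Δ` vanishes on `U` -/
theorem eq_zero_of_Δ {f : G → ZMod 2} (h1 : f 1 = 0) (hf : ∀ u ∈ D.U, ∀ v ∈ D.U, f (u * v) = f u + f v)
    (h : ∀ p ∈ D.Δ, f p = 0) {u : G} (hu : u ∈ D.U) : f u = 0 := by
  rw [← D.Δ_gen] at hu
  induction hu using closure_induction with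
  | mem x hx => exact h x hx
  | one => exact h1
  | mul x y hx hy hx' hy' => rw [D.Δ_gen] at hx hy; rw [hf x hx y hy, hx', hy', add_zero]
  | inv x hx hx' => rw [D.Δ_gen] at hx; rw [D.U_inv hx]; exact hx'

theorem exists_nbr {p : G} (hp : p ∈ D.Δ) : ∃ q ∈ D.Δ, D.φ p q = 1 := by
  by_contra hcon
  push Not at hcon
  obtain ⟨u, hu, h1⟩ := D.φ_ne hp
  have := D.eq_zero_of_Δ (D.φ_one hp) (fun u hu v hv => D.φ_mul hp hu hv)
    (fun q hq => (zmod_cases _).resolve_right (hcon q hq)) hu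
  rw [this] at h1
  exact zero_ne_one h1

theorem not_mem_U0 {p : G} (hp : p ∈ D.Δ) : p ∉ D.U0 := by
  intro h
  obtain ⟨q, hq, h1⟩ := D.exists_nbr hp
  rw [D.symm hp hq, h.2 q hq] at h1
  exact zero_ne_one h1

theorem z_notin {p : G} (hp : p ∈ D.Δ) : p ≠ D.z := fun h => D.not_mem_U0 hp (h ▸ D.z_U0)

theorem one_notin {p : G} (hp : p ∈ D.Δ) : p ≠ 1 := fun h => D.not_mem_U0 hp (h ▸ D.U0.one_mem)

theorem U0_conj {m u : G} (hm : m ∈ D.A) (hu : u ∈ D.U0) : m * u * m⁻¹ ∈ D.U0 := by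
  refine ⟨D.U_conj m hm u hu.1, fun p hp => ?_⟩
  have hp' : m⁻¹ * p * m ∈ D.Δ := by
    have := D.Δ_conj m⁻¹ (D.A.inv_mem hm) p hp
    rwa [inv_inv] at this
  have h1 := D.φ_conj hm hp' hu.1
  have e : m * (m⁻¹ * p * m) * m⁻¹ = p := by group
  rw [e] at h1
  rw [h1]
  exact hu.2 _ hp'

/-- the functionals of `p` and `p c`, `c ∈ U₀` agree -/
theorem φ_mul_left {p c : G} (hp : p ∈ D.Δ) (hpc : p * c ∈ D.Δ) (hc : c ∈ D.U0) {u : G} (hu : u ∈ D.U) :
    D.φ (p * c) u = D.φ p u := by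
  have key : ∀ q ∈ D.Δ, D.φ (p * c) q = D.φ p q := by
    intro q hq
    rw [D.symm hpc hq, D.φ_mul hq (D.Δ_le hp) hc.1, hc.2 q hq, add_zero, D.symm hq hp]
  have h1 := D.eq_zero_of_Δ (f := fun u => D.φ (p * c) u + D.φ p u)
    (by show D.φ (p * c) 1 + D.φ p 1 = 0; rw [D.φ_one hp, D.φ_one hpc, add_zero])
    (fun u hu v hv => by
      show D.φ (p * c) (u * v) + D.φ p (u * v) = (D.φ (p * c) u + D.φ p u) + (D.φ (p * c) v + D.φ p v)
      rw [D.φ_mul hpc hu hv, D.φ_mul hp hu hv]; ring)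
    (fun q hq => by
      show D.φ (p * c) q + D.φ p q = 0
      rw [key q hq]
      rcases zmod_cases (D.φ p q) with h | h <;> rw [h] <;> decide) hu
  have h2 : D.φ (p * c) u + D.φ p u = 0 := h1
  rcases zmod_cases (D.φ (p * c) u) with h | h <;> rcases zmod_cases (D.φ p u) with h' | h' <;>
    rw [h, h'] at h2 ⊢ <;> revert h2 <;> decide

/-- elements of `A` that act as `1` on `U / U₀` and on `U₀` -/
def Ker : Subgroup G where
  carrier := {a | a ∈ D.A ∧ (∀ u ∈ D.U, a * u * a⁻¹ * u⁻¹ ∈ D.U0) ∧ ∀ u ∈ D.U0, a * u * a⁻¹ = u}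
  one_mem' := ⟨D.A.one_mem, fun u _ => by
    have : 1 * u * (1 : G)⁻¹ * u⁻¹ = 1 := by group
    rw [this]; exact D.U0.one_mem, fun u _ => by group⟩
  mul_mem' := by
    rintro a b ⟨ha, ha1, ha2⟩ ⟨hb, hb1, hb2⟩
    refine ⟨D.A.mul_mem ha hb, fun u hu => ?_, fun u hu => ?_⟩
    · have e : a * b * u * (a * b)⁻¹ * u⁻¹ =
          (a * (b * u * b⁻¹) * a⁻¹ * (b * u * b⁻¹)⁻¹) * (b * u * b⁻¹ * u⁻¹) := by group
      rw [e]
      exact D.U0.mul_mem (ha1 _ (D.U_conj b hb u hu)) (hb1 u hu)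
    · have e : a * b * u * (a * b)⁻¹ = a * (b * u * b⁻¹) * a⁻¹ := by group
      rw [e, hb2 u hu, ha2 u hu]
  inv_mem' := by
    rintro a ⟨ha, ha1, ha2⟩
    refine ⟨D.A.inv_mem ha, fun u hu => ?_, fun u hu => ?_⟩
    · have hv : a⁻¹ * u * a ∈ D.U := by
        have := D.U_conj a⁻¹ (D.A.inv_mem ha) u hu
        rwa [inv_inv] at this
      have h1 := D.U0.inv_mem (ha1 _ hv)
      have e : a⁻¹ * u * a⁻¹⁻¹ * u⁻¹ = (a * (a⁻¹ * u * a) * a⁻¹ * (a⁻¹ * u * a)⁻¹)⁻¹ := by group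
      rw [e]; exact h1
    · have h1 := ha2 u hu
      calc a⁻¹ * u * a⁻¹⁻¹ = a⁻¹ * (a * u * a⁻¹) * a⁻¹⁻¹ := by rw [h1]
        _ = u := by group

/-- what `O₂(A / C(U)) = 1` gives -/
def O2 : Prop := ∀ B : Subgroup G, B ≤ D.A → (∀ m ∈ D.A, ∀ b ∈ B, m * b * m⁻¹ ∈ B) →
  (∀ b ∈ B, ∀ u ∈ D.U, b * b * u = u * (b * b)) → ∀ b ∈ B, ∀ u ∈ D.U, b * u = u * b

theorem ker_comm (hO : D.O2) {a : G} (ha : a ∈ D.Ker) {u : G} (hu : u ∈ D.U) : a * u = u * a := by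
  refine hO D.Ker (fun a ha => ha.1) ?_ ?_ a ha u hu
  · rintro m hm b ⟨hb, hb1, hb2⟩
    have key : ∀ u ∈ D.U, m⁻¹ * u * m ∈ D.U := by
      intro u hu
      have := D.U_conj m⁻¹ (D.A.inv_mem hm) u hu
      rwa [inv_inv] at this
    have key0 : ∀ u ∈ D.U0, m⁻¹ * u * m ∈ D.U0 := by
      intro u hu
      have := D.U0_conj (D.A.inv_mem hm) hu
      rwa [inv_inv] at this
    refine ⟨D.A.mul_mem (D.A.mul_mem hm hb) (D.A.inv_mem hm), fun u hu => ?_, fun u hu => ?_⟩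
    · have e : m * b * m⁻¹ * u * (m * b * m⁻¹)⁻¹ * u⁻¹ =
          m * (b * (m⁻¹ * u * m) * b⁻¹ * (m⁻¹ * u * m)⁻¹) * m⁻¹ := by group
      rw [e]
      exact D.U0_conj hm (hb1 _ (key u hu))
    · have e : m * b * m⁻¹ * u * (m * b * m⁻¹)⁻¹ = m * (b * (m⁻¹ * u * m) * b⁻¹) * m⁻¹ := by group
      rw [e, hb2 _ (key0 u hu)]
      group
  · rintro b ⟨hb, hb1, hb2⟩ u hu
    set c := b * u * b⁻¹ * u⁻¹ with hc
    have h1 : c ∈ D.U0 := hb1 u hu
    have e1 : b * u * b⁻¹ = c * u := by rw [hc]; group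
    have e2 : b * (b * u * b⁻¹) * b⁻¹ = u := by
      rw [e1]
      calc b * (c * u) * b⁻¹ = (b * c * b⁻¹) * (b * u * b⁻¹) := by group
        _ = c * (c * u) := by rw [hb2 c h1, e1]
        _ = u := by rw [← mul_assoc, D.U_sq c h1.1, one_mul]
    calc b * b * u = b * (b * u * b⁻¹) * b⁻¹ * (b * b) := by group
      _ = u * (b * b) := by rw [e2]

/-- **`Δ → U / U₀` is injective** -/
theorem inj (hO : D.O2) {p c : G} (hp : p ∈ D.Δ) (hpc : p * c ∈ D.Δ) (hc : c ∈ D.U0) : c = 1 := by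
  have hp' := D.Δ_le hp
  have hz := D.z_mem
  have key : ∀ u ∈ D.U, D.t (p * c) * D.t p * u * (D.t (p * c) * D.t p)⁻¹ = u * pw c (D.φ p u) := by
    intro u hu
    have e : D.t (p * c) * D.t p * u * (D.t (p * c) * D.t p)⁻¹ =
        D.t (p * c) * (D.t p * u * (D.t p)⁻¹) * (D.t (p * c))⁻¹ := by group
    have h1 : u * pw (p * D.z) (D.φ p u) ∈ D.U := D.U.mul_mem hu (D.pw_mem (D.pz_mem hp) _)
    rw [e, D.t_act hp hu, D.t_act hpc h1, D.φ_mul_left hp hpc hc h1, D.φ_mul hp hu (D.pw_mem (D.pz_mem hp) _),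
      D.φ_pw hp, D.φ_pz hp hp, D.φ_self hp, mul_zero, add_zero, mul_assoc]
    congr 1
    rcases zmod_cases (D.φ p u) with h | h <;> rw [h]
    · rw [pw_zero, pw_zero, pw_zero, mul_one]
    · rw [pw_one, pw_one, pw_one]
      calc p * D.z * (p * c * D.z) = p * D.z * (p * (D.z * c)) := by
            rw [mul_assoc p c, D.U_comm hc.1 hz]
        _ = (p * D.z * (p * D.z)) * c := by group
        _ = c := by rw [D.pz_sq hp, one_mul]
  have hker : D.t (p * c) * D.t p ∈ D.Ker := by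
    refine ⟨D.A.mul_mem (D.t_A hpc) (D.t_A hp), fun u hu => ?_, fun u hu => ?_⟩
    · rw [key u hu]
      have h2 : pw c (D.φ p u) ∈ D.U0 := by
        rcases zmod_cases (D.φ p u) with h | h <;> rw [h]
        · rw [pw_zero]; exact D.U0.one_mem
        · rw [pw_one]; exact hc
      rw [D.U_comm hu h2.1, mul_inv_cancel_right]
      exact h2
    · rw [key u hu.1, hu.2 p hp, pw_zero, mul_one]
  obtain ⟨u, hu, h1⟩ := D.φ_ne hp
  have h2 := D.ker_comm hO hker hu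
  have h3 := key u hu
  rw [h2, mul_inv_cancel_right, h1, pw_one] at h3
  exact (mul_eq_left.mp h3.symm)

end Side

end Cfsg.Agent.Omega.HOneTwo.Trans

end

section


/-!
# II.0h1, `q = 2`, after the transvection statement: the data `TS` and the two sides

`TS G`: `z`, `C(r 0) ∩ C(z) ≤ M ≤ C(z)`, the four-group `{1, r 0, r 1, r 2}`, `Q p = O₂(C(p))`,
`C = C_G(⟨Q₁, Q₂⟩)` and the facts of #15507: (a), (b), `TS(z)`. `U = ⟨(r 0)^M⟩`, `Δ = (r 0)^M`,
`N p = gen p z = ⟨z^{C(p)}⟩`. `TS.Ms`: the side `(M, U)`, `TS.Hs`: the side `(C(r 0), N (r 0))`.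
-/

set_option autoImplicit false
set_option linter.unusedSectionVars false

namespace Cfsg.Agent.Omega.HOneTwo.Trans

open Subgroup

universe u

variable {G : Type u} [Group G]

/-- `r ^ C(z)` -/
def Delta (z r : G) : Set G := {p | ∃ m, m * z = z * m ∧ p = m * r * m⁻¹}

/-- `⟨r ^ C(z)⟩` -/
def gen (z r : G) : Subgroup G := closure (Delta z r)

/-- `r ^ M` -/
def Dl (M : Subgroup G) (r : G) : Set G := {p | ∃ m ∈ M, p = m * r * m⁻¹}

/-- `⟨r ^ M⟩` -/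
def gn (M : Subgroup G) (r : G) : Subgroup G := closure (Dl M r)

/-- the centre of `Q` -/
def zt (Q : Subgroup G) : Subgroup G := Q ⊓ centralizer (Q : Set G)

theorem mem_zt {Q : Subgroup G} {x : G} : x ∈ zt Q ↔ x ∈ Q ∧ ∀ y ∈ Q, x * y = y * x := by
  unfold zt
  rw [mem_inf, mem_centralizer_iff]
  exact ⟨fun h => ⟨h.1, fun y hy => (h.2 y hy).symm⟩, fun h => ⟨h.1, fun y hy => (h.2 y hy).symm⟩⟩

/-- the data after the transvection statement -/
structure TS (G : Type u) [Group G] where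
  z : G
  M : Subgroup G
  r : Fin 3 → G
  Q : G → Subgroup G
  C : Subgroup G
  z_sq : z * z = 1
  z_ne : z ≠ 1
  r_prod : r 0 * r 1 * r 2 = 1
  M_z : ∀ m ∈ M, m * z = z * m
  M_r : ∀ g, g * r 0 = r 0 * g → g * z = z * g → g ∈ M
  r_Δ : ∀ i, r i ∈ Dl M (r 0)
  U_sq : ∀ u ∈ gn M (r 0), u * u = 1
  Q_conj : ∀ g p x, x ∈ Q p → g * x * g⁻¹ ∈ Q (g * p * g⁻¹)
  Q_cent : ∀ x ∈ Q (r 0), x * r 0 = r 0 * x
  Q_der : ∀ x ∈ Q (r 0), ∀ y ∈ Q (r 0), x * y = y * x ∨ x * y = r 0 * (y * x)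
  r_Q : ∀ i j, r i ∈ Q (r j)
  C_le : ∀ i, C ≤ zt (Q (r i))
  le_C : ∀ i j, i ≠ j → zt (Q (r i)) ⊓ zt (Q (r j)) ≤ C
  z_C : z ∈ C
  r_C : ∀ i, r i ∉ C
  a : ∀ i j, i ≠ j → ∀ x ∈ zt (Q (r i)), x ∈ Q (r j) → x ∈ C ∨ r i * x ∈ C
  b : ∀ i j, i ≠ j → ∀ x ∈ zt (Q (r i)), ∀ y ∈ zt (Q (r j)), x * y * x⁻¹ * y⁻¹ ∈ C
  /-- `|U : U ∩ Q₁| = 2` -/
  ts_idx : ∀ u ∈ gn M (r 0), ∀ u' ∈ gn M (r 0), u ∉ Q (r 0) → u' ∉ Q (r 0) → u * u' ∈ Q (r 0)
  /-- `[U, N₁] = ⟨z r 0⟩` -/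
  ts_act : ∀ u ∈ gn M (r 0), ∀ n ∈ gen (r 0) z, n * u = u * n ∨ n * u = z * r 0 * (u * n)
  ts_ne : ∃ u ∈ gn M (r 0), ∃ n ∈ gen (r 0) z, n * u ≠ u * n
  /-- `O₂(M / C_M(U)) = 1` -/
  o2 : ∀ B : Subgroup G, B ≤ M → (∀ m ∈ M, ∀ b ∈ B, m * b * m⁻¹ ∈ B) →
    (∀ b ∈ B, ∀ u ∈ gn M (r 0), b * b * u = u * (b * b)) → ∀ b ∈ B, ∀ u ∈ gn M (r 0), b * u = u * b

/-! ### `Delta`, `gen` -/

theorem self_mem_Delta (z r : G) : r ∈ Delta z r := ⟨1, by group, by group⟩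

theorem self_mem_gen (z r : G) : r ∈ gen z r := subset_closure (self_mem_Delta z r)

theorem Delta_conj {z r x : G} (g : G) (hx : x ∈ Delta z r) : g * x * g⁻¹ ∈ Delta (g * z * g⁻¹) (g * r * g⁻¹) := by
  obtain ⟨m, hm, rfl⟩ := hx
  refine ⟨g * m * g⁻¹, ?_, by group⟩
  calc g * m * g⁻¹ * (g * z * g⁻¹) = g * (m * z) * g⁻¹ := by group
    _ = g * (z * m) * g⁻¹ := by rw [hm]
    _ = _ := by group

theorem gen_conj {z r x : G} (g : G) (hx : x ∈ gen z r) : g * x * g⁻¹ ∈ gen (g * z * g⁻¹) (g * r * g⁻¹) := by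
  unfold gen at hx
  induction hx using closure_induction with
  | mem x hx => exact subset_closure (Delta_conj g hx)
  | one => rw [mul_one, mul_inv_cancel]; exact one_mem _
  | mul x y _ _ hx hy =>
    have : g * (x * y) * g⁻¹ = (g * x * g⁻¹) * (g * y * g⁻¹) := by group
    rw [this]; exact mul_mem hx hy
  | inv x _ hx =>
    have : g * x⁻¹ * g⁻¹ = (g * x * g⁻¹)⁻¹ := by group
    rw [this]; exact inv_mem hx

/-- `Delta z r` is invariant under `C(z)` -/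
theorem Delta_inv {z r x g : G} (hg : g * z = z * g) (hx : x ∈ Delta z r) : g * x * g⁻¹ ∈ Delta z r := by
  obtain ⟨m, hm, rfl⟩ := hx
  refine ⟨g * m, ?_, by group⟩
  rw [mul_assoc, hm, ← mul_assoc, hg, mul_assoc]

theorem gen_inv {z r x g : G} (hg : g * z = z * g) (hx : x ∈ gen z r) : g * x * g⁻¹ ∈ gen z r := by
  unfold gen at hx
  induction hx using closure_induction with
  | mem x hx => exact subset_closure (Delta_inv hg hx)
  | one => rw [mul_one, mul_inv_cancel]; exact one_mem _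
  | mul x y _ _ hx hy =>
    have : g * (x * y) * g⁻¹ = (g * x * g⁻¹) * (g * y * g⁻¹) := by group
    rw [this]; exact mul_mem hx hy
  | inv x _ hx =>
    have : g * x⁻¹ * g⁻¹ = (g * x * g⁻¹)⁻¹ := by group
    rw [this]; exact inv_mem hx

theorem conj_of_comm {g x : G} (h : g * x = x * g) : g * x * g⁻¹ = x := by rw [h, mul_inv_cancel_right]

theorem comm_of_conj {g x : G} (h : g * x * g⁻¹ = x) : g * x = x * g := by
  rw [mul_inv_eq_iff_eq_mul] at h; exact h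

theorem inv_comm {g x : G} (h : g * x = x * g) : g⁻¹ * x = x * g⁻¹ := by
  rw [inv_mul_eq_iff_eq_mul, ← mul_assoc, h, mul_inv_cancel_right]

theorem inv_conj {g x : G} {X : Subgroup G} (h : ∀ y ∈ X, g⁻¹ * y * g⁻¹⁻¹ ∈ X) (hx : x ∈ X) : g⁻¹ * x * g ∈ X := by
  have := h x hx
  rwa [inv_inv] at this

theorem Delta_inv' {z r x g : G} (hg : g * z = z * g) (hx : x ∈ Delta z r) : g⁻¹ * x * g ∈ Delta z r := by
  have := Delta_inv (inv_comm hg) hx
  rwa [inv_inv] at this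

theorem gen_inv' {z r x g : G} (hg : g * z = z * g) (hx : x ∈ gen z r) : g⁻¹ * x * g ∈ gen z r := by
  have := gen_inv (inv_comm hg) hx
  rwa [inv_inv] at this

/-! ### `Dl`, `gn` -/

theorem self_mem_Dl (M : Subgroup G) (r : G) : r ∈ Dl M r := ⟨1, M.one_mem, by group⟩

theorem self_mem_gn (M : Subgroup G) (r : G) : r ∈ gn M r := subset_closure (self_mem_Dl M r)

theorem Dl_inv {M : Subgroup G} {r x g : G} (hg : g ∈ M) (hx : x ∈ Dl M r) : g * x * g⁻¹ ∈ Dl M r := by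
  obtain ⟨m, hm, rfl⟩ := hx
  exact ⟨g * m, mul_mem hg hm, by group⟩

theorem gn_inv {M : Subgroup G} {r x g : G} (hg : g ∈ M) (hx : x ∈ gn M r) : g * x * g⁻¹ ∈ gn M r := by
  unfold gn at hx
  induction hx using closure_induction with
  | mem x hx => exact subset_closure (Dl_inv hg hx)
  | one => rw [mul_one, mul_inv_cancel]; exact one_mem _
  | mul x y _ _ hx hy =>
    have : g * (x * y) * g⁻¹ = (g * x * g⁻¹) * (g * y * g⁻¹) := by group
    rw [this]; exact mul_mem hx hy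
  | inv x _ hx =>
    have : g * x⁻¹ * g⁻¹ = (g * x * g⁻¹)⁻¹ := by group
    rw [this]; exact inv_mem hx

theorem Dl_inv' {M : Subgroup G} {r x g : G} (hg : g ∈ M) (hx : x ∈ Dl M r) : g⁻¹ * x * g ∈ Dl M r := by
  have := Dl_inv (inv_mem hg) hx
  rwa [inv_inv] at this

theorem gn_inv' {M : Subgroup G} {r x g : G} (hg : g ∈ M) (hx : x ∈ gn M r) : g⁻¹ * x * g ∈ gn M r := by
  have := gn_inv (inv_mem hg) hx
  rwa [inv_inv] at this

namespace TS

variable (D : TS G)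

/-- `U` -/
abbrev U : Subgroup G := gn D.M (D.r 0)

/-- `Δ` -/
abbrev Δ : Set G := Dl D.M (D.r 0)

theorem U_comm {u v : G} (hu : u ∈ D.U) (hv : v ∈ D.U) : u * v = v * u := by
  have h1 := D.U_sq _ (D.U.mul_mem hu hv)
  have h2 := D.U_sq u hu
  have h3 := D.U_sq v hv
  calc u * v = u * (u * v * (u * v)) * v := by rw [h1, mul_one]
    _ = (u * u) * (v * u) * (v * v) := by group
    _ = v * u := by rw [h2, h3, one_mul, mul_one]

theorem r_mem (i : Fin 3) : D.r i ∈ D.U := subset_closure (D.r_Δ i)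

theorem Q_conj' {g p x : G} (hg : g * p = p * g) (hx : x ∈ D.Q p) : g * x * g⁻¹ ∈ D.Q p := by
  have := D.Q_conj g p x hx
  rwa [conj_of_comm hg] at this

theorem zt_conj {g p x : G} (hx : x ∈ zt (D.Q p)) : g * x * g⁻¹ ∈ zt (D.Q (g * p * g⁻¹)) := by
  rw [mem_zt] at hx ⊢
  refine ⟨D.Q_conj g p x hx.1, fun y hy => ?_⟩
  have h1 := D.Q_conj g⁻¹ _ y hy
  have e : g⁻¹ * (g * p * g⁻¹) * g⁻¹⁻¹ = p := by group
  rw [e] at h1
  have h2 := hx.2 _ h1
  calc g * x * g⁻¹ * y = g * (x * (g⁻¹ * y * g⁻¹⁻¹)) * g⁻¹ := by group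
    _ = g * (g⁻¹ * y * g⁻¹⁻¹ * x) * g⁻¹ := by rw [h2]
    _ = y * (g * x * g⁻¹) := by group

theorem zt_conj' {g p x : G} (hg : g * p = p * g) (hx : x ∈ zt (D.Q p)) : g * x * g⁻¹ ∈ zt (D.Q p) := by
  have := D.zt_conj (g := g) hx
  rwa [conj_of_comm hg] at this

theorem z_zt (i : Fin 3) : D.z ∈ zt (D.Q (D.r i)) := D.C_le i D.z_C

theorem N_le_zt (i : Fin 3) : gen (D.r i) D.z ≤ zt (D.Q (D.r i)) := by
  unfold gen
  rw [closure_le]
  rintro x ⟨m, hm, rfl⟩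
  exact D.zt_conj' hm (D.z_zt i)

/-- elements of `Q₁` centralise `z` -/
theorem Q_z {x : G} (hx : x ∈ D.Q (D.r 0)) : x * D.z = D.z * x := ((mem_zt.1 (D.z_zt 0)).2 x hx).symm

/-- `Q₁ ≤ M` -/
theorem Q_M {x : G} (hx : x ∈ D.Q (D.r 0)) : x ∈ D.M := D.M_r x (D.Q_cent x hx) (D.Q_z hx)

theorem N_z {n : G} (hn : n ∈ gen (D.r 0) D.z) : n * D.z = D.z * n := D.Q_z (mem_zt.1 (D.N_le_zt 0 hn)).1

theorem N_M {n : G} (hn : n ∈ gen (D.r 0) D.z) : n ∈ D.M := D.Q_M (mem_zt.1 (D.N_le_zt 0 hn)).1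

theorem zr_mem : D.z * D.r 0 ∈ D.U := by
  obtain ⟨u, hu, n, hn, hne⟩ := D.ts_ne
  have h1 := (D.ts_act u hu n hn).resolve_left hne
  have h2 : n * u * n⁻¹ ∈ D.U := gn_inv (D.N_M hn) hu
  have h3 : n * u * n⁻¹ * u⁻¹ = D.z * D.r 0 := by rw [h1]; group
  rw [← h3]
  exact mul_mem h2 (inv_mem hu)

theorem z_mem : D.z ∈ D.U := by
  have h1 := mul_mem D.zr_mem (inv_mem (D.r_mem 0))
  rwa [mul_inv_cancel_right] at h1

theorem z_r : D.z * D.r 0 = D.r 0 * D.z := D.U_comm D.z_mem (D.r_mem 0)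

/-- `U ≤ C(r 0)` -/
theorem U_r {u : G} (hu : u ∈ D.U) : u * D.r 0 = D.r 0 * u := D.U_comm hu (D.r_mem 0)

theorem U_z {u : G} (hu : u ∈ D.U) : u * D.z = D.z * u := D.U_comm hu D.z_mem

theorem zr_sq : D.z * D.r 0 * (D.z * D.r 0) = 1 := D.U_sq _ D.zr_mem

theorem r_sq (i : Fin 3) : D.r i * D.r i = 1 := D.U_sq _ (D.r_mem i)

/-- `r 0 ∈ N₁` -/
theorem r_mem_N : D.r 0 ∈ gen (D.r 0) D.z := by
  obtain ⟨u, hu, n, hn, hne⟩ := D.ts_ne
  have h1 := (D.ts_act u hu n hn).resolve_left hne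
  have h2 : u * n * u⁻¹ ∈ gen (D.r 0) D.z := gen_inv (D.U_r hu) hn
  have h3 : n * (u * n * u⁻¹)⁻¹ = D.z * D.r 0 := by
    calc n * (u * n * u⁻¹)⁻¹ = n * u * (u * n)⁻¹ := by group
      _ = D.z * D.r 0 := by rw [h1]; group
  have h4 := mul_mem hn (inv_mem h2)
  rw [h3] at h4
  have h5 := mul_mem (inv_mem (self_mem_gen (D.r 0) D.z)) h4
  rwa [inv_mul_cancel_left] at h5

/-- noncommuting `u ∈ U`, `n ∈ N₁` -/
theorem key_act {n : G} (hn : n ∈ gen (D.r 0) D.z) {v : G} (hv : v ∈ D.U) (hnv : n * v ≠ v * n) {u : G}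
    (hu : u ∈ D.U) : (u ∈ D.Q (D.r 0) → n * u = u * n) ∧ (u ∉ D.Q (D.r 0) → n * u = D.z * D.r 0 * (u * n)) := by
  have hz := mem_zt.1 (D.N_le_zt 0 hn)
  refine ⟨fun h => hz.2 u h, fun h => ?_⟩
  have hvQ : v ∉ D.Q (D.r 0) := fun h' => hnv (hz.2 v h')
  have h1 := hz.2 _ (D.ts_idx u hu v hv h hvQ)
  rcases D.ts_act u hu n hn with h2 | h2
  · exfalso
    apply hnv
    apply mul_left_cancel (a := u)
    calc u * (n * v) = n * (u * v) := by rw [← mul_assoc, ← h2, mul_assoc]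
      _ = u * (v * n) := by rw [h1, mul_assoc]
  · exact h2

theorem N_sq {n : G} (hn : n ∈ gen (D.r 0) D.z) : n * n = 1 := by
  have hab : ∀ x ∈ gen (D.r 0) D.z, ∀ y ∈ gen (D.r 0) D.z, x * y = y * x := by
    intro x hx y hy
    exact (mem_zt.1 (D.N_le_zt 0 hx)).2 y (mem_zt.1 (D.N_le_zt 0 hy)).1
  unfold gen at hn
  induction hn using closure_induction with
  | mem x hx =>
    obtain ⟨m, -, rfl⟩ := hx
    calc m * D.z * m⁻¹ * (m * D.z * m⁻¹) = m * (D.z * D.z) * m⁻¹ := by group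
      _ = 1 := by rw [D.z_sq]; group
  | one => exact mul_one 1
  | mul x y hx hy hx' hy' =>
    calc x * y * (x * y) = x * (y * x) * y := by group
      _ = (x * x) * (y * y) := by rw [hab y hy x hx]; group
      _ = 1 := by rw [hx', hy', mul_one]
  | inv x _ hx =>
    calc x⁻¹ * x⁻¹ = (x * x)⁻¹ := by group
      _ = 1 := by rw [hx, inv_one]

/-! ### The side of `M` -/

theorem m_z {m : G} (hm : m ∈ D.M) : m * D.z * m⁻¹ = D.z := conj_of_comm (D.M_z m hm)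

theorem m_z' {m : G} (hm : m ∈ D.M) : m⁻¹ * D.z * m⁻¹⁻¹ = D.z := conj_of_comm (inv_comm (D.M_z m hm))

/-- the side `(M, U)` -/
def Ms : Side G where
  A := D.M
  U := D.U
  Δ := D.Δ
  z := D.z
  N p := gen p D.z
  K p := D.Q p
  U_sq := D.U_sq
  U_conj := fun _ hm _ hu => gn_inv hm hu
  Δ_gen := rfl
  Δ_conj := fun _ hm _ hu => Dl_inv hm hu
  z_mem := D.z_mem
  z_comm := D.M_z
  N_le := by
    rintro p ⟨m, hm, rfl⟩ n hn
    have h1 := gen_conj m⁻¹ hn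
    have e : m⁻¹ * (m * D.r 0 * m⁻¹) * m⁻¹⁻¹ = D.r 0 := by group
    rw [e, D.m_z' hm, inv_inv] at h1
    have h2 := D.N_M h1
    have e2 : n = m * (m⁻¹ * n * m) * m⁻¹ := by group
    rw [e2]
    exact mul_mem (mul_mem hm h2) (inv_mem hm)
  N_conj := by
    intro m hm p _ n hn
    have h1 := gen_conj m hn
    rwa [D.m_z hm] at h1
  act := by
    rintro p ⟨m, hm, rfl⟩ n hn
    have h1 := gen_conj m⁻¹ hn
    have e : m⁻¹ * (m * D.r 0 * m⁻¹) * m⁻¹⁻¹ = D.r 0 := by group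
    rw [e, D.m_z' hm, inv_inv] at h1
    by_cases hall : ∀ v ∈ D.U, (m⁻¹ * n * m) * v = v * (m⁻¹ * n * m)
    · left
      intro u hu
      have h2 := hall _ (gn_inv' hm hu)
      have h3 : n * u = u * n := by
        calc n * u = m * ((m⁻¹ * n * m) * (m⁻¹ * u * m)) * m⁻¹ := by group
          _ = u * n := by rw [h2]; group
      exact conj_of_comm h3
    · right
      push Not at hall
      obtain ⟨v, hv, hnv⟩ := hall
      intro u hu
      have hu' := gn_inv' hm hu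
      obtain ⟨k1, k2⟩ := D.key_act h1 hv hnv hu'
      have hQ : u ∈ D.Q (m * D.r 0 * m⁻¹) ↔ m⁻¹ * u * m ∈ D.Q (D.r 0) := by
        constructor
        · intro h
          have := D.Q_conj m⁻¹ _ _ h
          rwa [e, inv_inv] at this
        · intro h
          have := D.Q_conj m _ _ h
          have e3 : m * (m⁻¹ * u * m) * m⁻¹ = u := by group
          rwa [e3] at this
      refine ⟨fun h => ?_, fun h => ?_⟩
      · have h2 := k1 (hQ.1 h)
        have h3 : n * u = u * n := by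
          calc n * u = m * ((m⁻¹ * n * m) * (m⁻¹ * u * m)) * m⁻¹ := by group
            _ = u * n := by rw [h2]; group
        exact conj_of_comm h3
      · have h2 := k2 fun h' => h (hQ.2 h')
        have hp : m * D.r 0 * m⁻¹ ∈ D.U := subset_closure ⟨m, hm, rfl⟩
        have h3 : n * u = (m * D.r 0 * m⁻¹) * D.z * (u * n) := by
          calc n * u = m * ((m⁻¹ * n * m) * (m⁻¹ * u * m)) * m⁻¹ := by group
            _ = (m * D.z * m⁻¹) * (m * D.r 0 * m⁻¹) * (u * n) := by rw [h2]; group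
            _ = _ := by rw [D.m_z hm, D.U_comm D.z_mem hp]
        rw [h3, D.U_comm hu (mul_mem hp D.z_mem)]
        group
  exN := by
    rintro p ⟨m, hm, rfl⟩
    obtain ⟨u, hu, n, hn, hne⟩ := D.ts_ne
    have h1 := gen_conj m hn
    rw [D.m_z hm] at h1
    refine ⟨_, h1, m * u * m⁻¹, gn_inv hm hu, fun h => hne ?_⟩
    have h2 := comm_of_conj h
    calc n * u = m⁻¹ * (m * n * m⁻¹ * (m * u * m⁻¹)) * m := by group
      _ = u * n := by rw [h2]; group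
  zK := by
    rintro p ⟨m, hm, rfl⟩
    have := D.Q_conj m _ _ (mem_zt.1 (D.z_zt 0)).1
    rwa [D.m_z hm] at this
  pK := by
    rintro p ⟨m, hm, rfl⟩
    exact D.Q_conj m _ _ (D.r_Q 0 0)

theorem Ms_O2 : D.Ms.O2 := D.o2

/-! ### The side of `H = C(r 0)` -/

/-- `U_y = U^h` for `y = z^h`, `h ∈ C(r 0)` -/
def Uy (y : G) : Subgroup G where
  carrier := {x | ∀ h, h * D.r 0 = D.r 0 * h → h * D.z * h⁻¹ = y → h⁻¹ * x * h ∈ D.U}
  one_mem' := by
    intro h _ _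
    rw [mul_one, inv_mul_cancel]
    exact one_mem _
  mul_mem' := by
    intro a b ha hb h h1 h2
    have e : h⁻¹ * (a * b) * h = (h⁻¹ * a * h) * (h⁻¹ * b * h) := by group
    rw [e]
    exact mul_mem (ha h h1 h2) (hb h h1 h2)
  inv_mem' := by
    intro a ha h h1 h2
    have e : h⁻¹ * a⁻¹ * h = (h⁻¹ * a * h)⁻¹ := by group
    rw [e]
    exact inv_mem (ha h h1 h2)

theorem mem_Uy {h : G} (hh : h * D.r 0 = D.r 0 * h) {x : G} : x ∈ D.Uy (h * D.z * h⁻¹) ↔ h⁻¹ * x * h ∈ D.U := by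
  constructor
  · intro hx
    exact hx h hh rfl
  · intro hx k hk e
    have h1 : k⁻¹ * h ∈ D.M := by
      apply D.M_r
      · rw [mul_assoc, hh, ← mul_assoc, inv_comm hk, mul_assoc]
      · have h2 : k⁻¹ * h * D.z * (k⁻¹ * h)⁻¹ = D.z := by
          calc k⁻¹ * h * D.z * (k⁻¹ * h)⁻¹ = k⁻¹ * (h * D.z * h⁻¹) * k := by group
            _ = D.z := by rw [← e]; group
        exact comm_of_conj h2
    have h2 := gn_inv h1 hx
    have e2 : k⁻¹ * h * (h⁻¹ * x * h) * (k⁻¹ * h)⁻¹ = k⁻¹ * x * k := by group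
    rwa [e2] at h2

theorem Uy_z : D.Uy D.z = D.U := by
  ext x
  have h1 := D.mem_Uy (h := 1) (x := x) (by rw [one_mul, mul_one])
  rw [one_mul, inv_one, mul_one, one_mul, mul_one] at h1
  exact h1

theorem Uy_conj {k y x : G} (hk : k * D.r 0 = D.r 0 * k) (hx : x ∈ D.Uy y) :
    k * x * k⁻¹ ∈ D.Uy (k * y * k⁻¹) := by
  intro h hh e
  have h1 := hx (k⁻¹ * h) (by rw [mul_assoc, hh, ← mul_assoc, inv_comm hk, mul_assoc]) (by
    calc k⁻¹ * h * D.z * (k⁻¹ * h)⁻¹ = k⁻¹ * (h * D.z * h⁻¹) * k := by group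
      _ = y := by rw [e]; group)
  have e2 : (k⁻¹ * h)⁻¹ * x * (k⁻¹ * h) = h⁻¹ * (k * x * k⁻¹) * h := by group
  rwa [e2] at h1

theorem Uy_conj' {k y x : G} (hk : k * D.r 0 = D.r 0 * k) (hy : k * y = y * k) (hx : x ∈ D.Uy y) :
    k * x * k⁻¹ ∈ D.Uy y := by
  have := D.Uy_conj hk hx
  rwa [conj_of_comm hy] at this

theorem Uy_le {h : G} (hh : h * D.r 0 = D.r 0 * h) {x : G} (hx : x ∈ D.Uy (h * D.z * h⁻¹)) :
    h⁻¹ * x * h ∈ D.U := (D.mem_Uy hh).1 hx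

theorem Uy_r {h : G} (hh : h * D.r 0 = D.r 0 * h) {x : G} (hx : x ∈ D.Uy (h * D.z * h⁻¹)) :
    x * D.r 0 = D.r 0 * x := by
  have h1 := D.U_r (D.Uy_le hh hx)
  calc x * D.r 0 = h * ((h⁻¹ * x * h) * (h⁻¹ * D.r 0 * h⁻¹⁻¹)) * h⁻¹ := by group
    _ = h * (D.r 0 * (h⁻¹ * x * h)) * h⁻¹ := by rw [conj_of_comm (inv_comm hh), h1]
    _ = (h * D.r 0 * h⁻¹) * x := by group
    _ = D.r 0 * x := by rw [conj_of_comm hh]

theorem y_r {h : G} (hh : h * D.r 0 = D.r 0 * h) : h * D.z * h⁻¹ * D.r 0 = D.r 0 * (h * D.z * h⁻¹) := by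
  calc h * D.z * h⁻¹ * D.r 0 = h * (D.z * (h⁻¹ * D.r 0 * h⁻¹⁻¹)) * h⁻¹ := by group
    _ = h * (D.r 0 * D.z) * h⁻¹ := by rw [conj_of_comm (inv_comm hh), D.z_r]
    _ = (h * D.r 0 * h⁻¹) * (h * D.z * h⁻¹) := by group
    _ = _ := by rw [conj_of_comm hh]

/-- the side `(C(r 0), N₁)` -/
def Hs : Side G where
  A := centralizer {D.r 0}
  U := gen (D.r 0) D.z
  Δ := Delta (D.r 0) D.z
  z := D.r 0
  N y := D.Uy y
  K y := centralizer (D.Uy y : Set G)
  U_sq := fun _ h => D.N_sq h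
  U_conj := by
    intro m hm u hu
    exact gen_inv (mem_centralizer_singleton_iff.1 hm) hu
  Δ_gen := rfl
  Δ_conj := by
    intro m hm u hu
    exact Delta_inv (mem_centralizer_singleton_iff.1 hm) hu
  z_mem := D.r_mem_N
  z_comm := fun m hm => mem_centralizer_singleton_iff.1 hm
  N_le := by
    rintro y ⟨h, hh, rfl⟩ n hn
    rw [mem_centralizer_singleton_iff]
    exact D.Uy_r hh hn
  N_conj := by
    intro m hm p _ n hn
    exact D.Uy_conj (mem_centralizer_singleton_iff.1 hm) hn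
  act := by
    rintro y ⟨h, hh, rfl⟩ x hx
    -- `x' = x ^ h ∈ U`
    have hx' := D.Uy_le hh hx
    have conj_iff : ∀ n : G, (h⁻¹ * x * h) * (h⁻¹ * n * h) = (h⁻¹ * n * h) * (h⁻¹ * x * h) → x * n = n * x := by
      intro n hn
      calc x * n = h * ((h⁻¹ * x * h) * (h⁻¹ * n * h)) * h⁻¹ := by group
        _ = n * x := by rw [hn]; group
    by_cases hxQ : h⁻¹ * x * h ∈ D.Q (D.r 0)
    · left
      intro n hn
      have hn' := gen_inv' hh hn
      apply conj_of_comm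
      apply conj_iff
      exact ((mem_zt.1 (D.N_le_zt 0 hn')).2 _ hxQ).symm
    · right
      intro n hn
      have hn' := gen_inv' hh hn
      refine ⟨fun hK => ?_, fun hK => ?_⟩
      · exact conj_of_comm (mem_centralizer_iff.1 hK x hx)
      · -- `n` does not commute with all of `U_y`
        obtain ⟨v, hv, hnv⟩ : ∃ v ∈ D.U, (h⁻¹ * n * h) * v ≠ v * (h⁻¹ * n * h) := by
          by_contra hcon
          push Not at hcon
          apply hK
          rw [mem_centralizer_iff]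
          intro w hw
          have h1 := hcon _ (D.Uy_le hh hw)
          calc w * n = h * ((h⁻¹ * w * h) * (h⁻¹ * n * h)) * h⁻¹ := by group
            _ = n * w := by rw [← h1]; group
        have h2 := (D.key_act hn' hv hnv hx').2 hxQ
        -- `n' x' = z r₀ x' n'`
        have h3 : (h⁻¹ * x * h) * (h⁻¹ * n * h) = D.z * D.r 0 * ((h⁻¹ * n * h) * (h⁻¹ * x * h)) := by
          rw [h2, ← mul_assoc (D.z * D.r 0), D.zr_sq, one_mul]
        have h4 : D.z * D.r 0 * (h⁻¹ * n * h) = (h⁻¹ * n * h) * (D.z * D.r 0) := by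
          have h5 := mul_mem (self_mem_gen (D.r 0) D.z) D.r_mem_N
          exact (mem_zt.1 (D.N_le_zt 0 h5)).2 _ (mem_zt.1 (D.N_le_zt 0 hn')).1
        calc x * n * x⁻¹ = h * ((h⁻¹ * x * h) * (h⁻¹ * n * h)) * h⁻¹ * x⁻¹ := by group
          _ = h * ((h⁻¹ * n * h) * (D.z * D.r 0) * (h⁻¹ * x * h)) * h⁻¹ * x⁻¹ := by
              rw [h3, ← h4]; group
          _ = n * ((h * D.z * h⁻¹) * (h * D.r 0 * h⁻¹)) := by group
          _ = n * ((h * D.z * h⁻¹) * D.r 0) := by rw [conj_of_comm hh]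
  exN := by
    rintro y ⟨h, hh, rfl⟩
    obtain ⟨u, hu, n, hn, hne⟩ := D.ts_ne
    have h1 : h * u * h⁻¹ ∈ D.Uy (h * D.z * h⁻¹) := by
      rw [D.mem_Uy hh]
      have e : h⁻¹ * (h * u * h⁻¹) * h = u := by group
      rwa [e]
    refine ⟨_, h1, h * n * h⁻¹, gen_inv hh hn, fun h' => hne ?_⟩
    have h2 := comm_of_conj h'
    calc n * u = h⁻¹ * (h * n * h⁻¹ * (h * u * h⁻¹)) * h := by group
      _ = u * n := by rw [← h2]; group
  zK := by
    rintro y ⟨h, hh, rfl⟩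
    rw [mem_centralizer_iff]
    intro x hx
    exact D.Uy_r hh hx
  pK := by
    rintro y ⟨h, hh, rfl⟩
    rw [mem_centralizer_iff]
    intro x hx
    have h1 := D.U_z (D.Uy_le hh hx)
    calc x * (h * D.z * h⁻¹) = h * ((h⁻¹ * x * h) * D.z) * h⁻¹ := by group
      _ = h * D.z * h⁻¹ * x := by rw [h1]; group

end TS

end Cfsg.Agent.Omega.HOneTwo.Trans

end
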