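import Cfsg.Agent.Mrg.Omega.HOneTwo.TransMain
import Cfsg.Agent.Mrg.Omega.HOne.QuadAbs


/-!
# II.0h1, `q = 2`: from the transvection statement (#15959, `TvDef`) to `TS` (#15507)
-/

set_option autoImplicit false
set_option linter.unusedSectionVars false

namespace Cfsg.Agent.Omega.HOneTwo.Trans

open Subgroup Cfsg.Agent.Omega.HOne.TvDef

universe u

variable {G : Type u} [Group G]

theorem Dl_eq_Om (M : Subgroup G) (r : G) : Dl M r = Om M r := by
  ext x
  constructor
  · rintro ⟨m, hm, e⟩; exact ⟨m, hm, e.symm⟩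
  · rintro ⟨m, hm, e⟩; exact ⟨m, hm, e.symm⟩

theorem gn_eq_UU (M : Subgroup G) (r : G) : gn M r = UU M r := by
  unfold gn UU
  rw [Dl_eq_Om]

section

variable {M : Subgroup G} {r t z : G} {Q N : G → Subgroup G} (h : TvH M r t Q N)
include h

theorem zt_eq {s : G} (hs : s ∈ Om M r) : zt (Q s) = ZC Q s := by
  ext x
  rw [mem_zt, ZC, mem_centralizer_iff]
  constructor
  · rintro ⟨-, hx⟩ y hy
    exact (hx y hy).symm
  · intro hx
    exact ⟨h.ZC_le_Q hs (mem_centralizer_iff.2 hx), fun y hy => (hx y hy).symm⟩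

/-- the three points of `V` -/
def rr (r t : G) : Fin 3 → G := ![r, t, r * t]

theorem rr_Adj {i j : Fin 3} (hij : i ≠ j) : Adj M r t (rr r t i) (rr r t j) ∧
    ∀ k, k ≠ i → k ≠ j → rr r t k = rr r t i * rr r t j := by
  have a01 : Adj M r t r t := Adj_base
  have a02 : Adj M r t r (r * t) := h.Adj_mul_base
  have a12 : Adj M r t t (r * t) := h.Adj_mul' a01
  have hrt : r * t = t * r := h.Adj_comm a01
  have hrr : r * r = 1 := h.r_sq
  have htt : t * t = 1 := h.Om_sq h.t_Om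
  fin_cases i <;> fin_cases j
  · exact absurd rfl hij
  · refine ⟨a01, ?_⟩
    intro k h1 h2
    have hk : k = 2 := by revert h1 h2; revert k; decide
    subst hk; rfl
  · refine ⟨a02, ?_⟩
    intro k h1 h2
    have hk : k = 1 := by revert h1 h2; revert k; decide
    subst hk
    show t = r * (r * t)
    rw [← mul_assoc, hrr, one_mul]
  · refine ⟨h.Adj_symm a01, ?_⟩
    intro k h1 h2
    have hk : k = 2 := by revert h1 h2; revert k; decide
    subst hk
    exact hrt
  · exact absurd rfl hij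
  · refine ⟨a12, ?_⟩
    intro k h1 h2
    have hk : k = 0 := by revert h1 h2; revert k; decide
    subst hk
    show r = t * (r * t)
    rw [hrt, ← mul_assoc, htt, one_mul]
  · refine ⟨h.Adj_symm a02, ?_⟩
    intro k h1 h2
    have hk : k = 1 := by revert h1 h2; revert k; decide
    subst hk
    show t = r * t * r
    rw [hrt, mul_assoc, hrr, mul_one]
  · refine ⟨h.Adj_symm a12, ?_⟩
    intro k h1 h2
    have hk : k = 0 := by revert h1 h2; revert k; decide
    subst hk
    show r = r * t * t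
    rw [mul_assoc, htt, mul_one]
  · exact absurd rfl hij

theorem rr_Om (i : Fin 3) : rr r t i ∈ Om M r := by
  fin_cases i
  · exact Om_base
  · exact h.t_Om
  · exact h.Adj_right h.Adj_mul_base

/-- `C_V` is in all three centres -/
theorem rr_C {x : G} {i j : Fin 3} (hij : i ≠ j) (hi : x ∈ ZC Q (rr r t i)) (hj : x ∈ ZC Q (rr r t j)) (k : Fin 3) :
    x ∈ ZC Q (rr r t k) := by
  by_cases hki : k = i
  · rw [hki]; exact hi
  by_cases hkj : k = j
  · rw [hkj]; exact hj
  obtain ⟨ha, hk⟩ := rr_Adj h hij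
  rw [hk k hki hkj]
  exact h.Adj_CV ha hi hj

/-- **`TvH` and `JEnd` for `c = z` give `TS`** -/
def TS.ofTv (hE : JEnd M r Q N z) (hN : N r = gen r z) (z_sq : z * z = 1) (z_ne : z ≠ 1)
    (hz : z ∈ ZC Q r ⊓ ZC Q t) (M_z : ∀ m ∈ M, m * z = z * m)
    (M_r : ∀ g, g * r = r * g → g * z = z * g → g ∈ M)
    (o2 : ∀ B : Subgroup G, B ≤ M → (∀ m ∈ M, ∀ b ∈ B, m * b * m⁻¹ ∈ B) →
      (∀ b ∈ B, ∀ u ∈ UU M r, b * b * u = u * (b * b)) → ∀ b ∈ B, ∀ u ∈ UU M r, b * u = u * b) : TS G where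
  z := z
  M := M
  r := rr r t
  Q := Q
  C := ZC Q r ⊓ ZC Q t
  z_sq := z_sq
  z_ne := z_ne
  r_prod := by
    show r * t * (r * t) = 1
    exact h.Om_sq (h.Adj_right h.Adj_mul_base)
  M_z := M_z
  M_r := M_r
  r_Δ := fun i => by
    show rr r t i ∈ Dl M r
    rw [Dl_eq_Om]
    exact rr_Om h i
  U_sq := by
    intro u hu
    have hu' : u ∈ gn M r := hu
    rw [gn_eq_UU] at hu'
    exact h.UU_sq hu'
  Q_conj := fun g p x hx => h.Qc g p x hx
  Q_cent := fun x hx => (h.ZC_comm (h.mem_ZC Om_base) hx).symm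
  Q_der := by
    intro x hx y hy
    have hx' : x ∈ Q r := hx
    have hy' : y ∈ Q r := hy
    rcases h.Q_comm x hx' y hy' with h1 | h1
    · left
      calc x * y = x * y * x⁻¹ * y⁻¹ * (y * x) := by group
        _ = y * x := by rw [h1, one_mul]
    · right
      calc x * y = x * y * x⁻¹ * y⁻¹ * (y * x) := by group
        _ = r * (y * x) := by rw [h1]
  r_Q := by
    intro i j
    by_cases hij : i = j
    · rw [hij]; exact h.mem_Q (rr_Om h j)
    · exact h.Adj_mem (rr_Adj h (Ne.symm hij)).1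
  C_le := by
    rintro i x ⟨h0, h1⟩
    rw [zt_eq h (rr_Om h i)]
    exact rr_C h (i := 0) (j := 1) (by decide) h0 h1 i
  le_C := by
    rintro i j hij x ⟨hi, hj⟩
    rw [zt_eq h (rr_Om h i)] at hi
    rw [zt_eq h (rr_Om h j)] at hj
    exact ⟨rr_C h hij hi hj 0, rr_C h hij hi hj 1⟩
  z_C := hz
  r_C := by
    rintro i ⟨h0, h1⟩
    have h2 := fun k => rr_C h (i := 0) (j := 1) (by decide) h0 h1 k
    obtain ⟨j, hij⟩ := TS.exists_ne i
    exact h.not_both (rr_Adj h hij).1 (h2 j)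
  a := by
    intro i j hij x hx hxj
    rw [zt_eq h (rr_Om h i)] at hx
    have hsi : rr r t i ∈ ZC Q (rr r t i) := h.mem_ZC (rr_Om h i)
    rcases h.Adj_ZQ (rr_Adj h hij).1 hx hxj with h1 | h1
    · left
      exact ⟨rr_C h hij hx h1 0, rr_C h hij hx h1 1⟩
    · right
      have h2 := Subgroup.mul_mem _ hsi hx
      exact ⟨rr_C h hij h2 h1 0, rr_C h hij h2 h1 1⟩
  b := by
    intro i j hij x hx y hy
    rw [zt_eq h (rr_Om h i)] at hx
    rw [zt_eq h (rr_Om h j)] at hy
    have ha := (rr_Adj h hij).1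
    have h1 : x * rr r t j = rr r t j * x := h.ZC_comm hx (h.Adj_mem ha)
    have h2 : y * rr r t i = rr r t i * y := h.ZC_comm hy (h.Adj_mem (h.Adj_symm ha))
    have h3 : x * y * x⁻¹ * y⁻¹ ∈ ZC Q (rr r t i) := by
      have e : x * y * x⁻¹ * y⁻¹ = x * (y * x⁻¹ * y⁻¹) := by group
      rw [e]
      exact Subgroup.mul_mem _ hx ((h.ZC_fix h2).2 (inv_mem hx))
    have h4 : x * y * x⁻¹ * y⁻¹ ∈ ZC Q (rr r t j) := Subgroup.mul_mem _ ((h.ZC_fix h1).2 hy) (inv_mem hy)
    exact ⟨rr_C h hij h3 h4 0, rr_C h hij h3 h4 1⟩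
  ts_idx := by
    intro u hu u' hu' h1 h2
    have hu2 : u ∈ gn M r := hu
    have hu2' : u' ∈ gn M r := hu'
    rw [gn_eq_UU] at hu2 hu2'
    exact hE.2.1 u hu2 u' hu2' h1 h2
  ts_act := by
    intro u hu n hn
    have hu2 : u ∈ gn M r := hu
    rw [gn_eq_UU] at hu2
    have hn2 : n ∈ N r := by rw [hN]; exact hn
    rcases hE.1 u hu2 n hn2 with h1 | h1
    · left
      calc n * u = (u * n * u⁻¹ * n⁻¹)⁻¹ * (u * n) := by group
        _ = u * n := by rw [h1]; group
    · right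
      have hzr : z * r = r * z := h.ZC_comm hz.1 h.r_mem
      show n * u = z * r * (u * n)
      calc n * u = (u * n * u⁻¹ * n⁻¹)⁻¹ * (u * n) := by group
        _ = (r * z)⁻¹ * (u * n) := by rw [h1]
        _ = z * r * (u * n) := by
            rw [mul_inv_rev, inv_eq_of_mul_eq_one_left z_sq, inv_eq_of_mul_eq_one_left h.r_sq]
  ts_ne := by
    obtain ⟨u, hu, hu'⟩ := h.beta
    obtain ⟨n, hn, hne⟩ : ∃ n ∈ N r, u * n ≠ n * u := by
      by_contra hcon
      push Not at hcon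
      exact hu' (h.UN u hu hcon)
    refine ⟨u, ?_, n, ?_, fun h1 => hne h1.symm⟩
    · show u ∈ gn M r
      rw [gn_eq_UU]; exact hu
    · show n ∈ gen r z
      rw [← hN]; exact hn
  o2 := by
    intro B h1 h2 h3 b hb u hu
    have e : gn M (rr r t 0) = UU M r := gn_eq_UU M r
    rw [e] at hu
    exact o2 B h1 h2 (fun b hb u hu => h3 b hb u (by rw [e]; exact hu)) b hb u hu

end

end Cfsg.Agent.Omega.HOneTwo.Trans
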