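import Cfsg.Agent.Mrg.Omega.HOneTwo.MoreOf
import Cfsg.Agent.Mrg.Omega.HOneTwo.FFOf


/-!
# II.0h1, `q = 2`: the statement `More0` of `HOne/Cut`

`more0 : Cut.More0` : after the transvection statement, `|N_r| ≠ 8` (#16429).
-/

set_option autoImplicit false

namespace Cfsg.Agent.Omega.HOneTwo.Trans

universe u v

/-- **`More0`** : after the transvection statement, `|N_r| ≠ 8` -/
theorem more0 : HOne.Cut.More0.{u, v} := fun _ _ _ _ _ _ _ _ _ _ _ p h hc =>
  ends_of_ff p h (HTwo.TSPos.ff_of p h hc)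

end Cfsg.Agent.Omega.HOneTwo.Trans
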