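import Cfsg.Agent.Mrg.Omega.HOne.PairP
import Cfsg.Agent.Mrg.Omega.HTwo.Entry
import Cfsg.Agent.Mrg.Omega.HOneTwo.Basic
import Cfsg.Agent.Mrg.Omega.HTwo.AlphaOne
import Cfsg.Agent.Mrg.Omega.BTwo.RadQ
import Cfsg.Agent.Mrg.Omega.HTwo.TComp
import Cfsg.Agent.Lib.SylowNormalInf
import Cfsg.Agent.ZN.Facts

section


/-!
# II.0h1, `q = 2`: the BS-trick ((E) of helper202's #17185, helper766's #17168, helper699's #17406)

* `exists_conj` : Baer-Suzuki for an involution `u` of `H` acting on `NN` with `O₂(H/C_H(NN)) = 1`: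
  some conjugate `h u h⁻¹` (`h ∈ H`) is with `u` in no common 2-group;
* `eq_of` : abstract form of `c₀ = z`;
* `eq_z` : `TvH M r t Q N`, `JConst M r t Q N c`, `JEnd M r Q N c`, `S ≤ M ≤ C(z)`, `z ∈ Z₀`,
  `N r = ⟨Z₀^{C(r)}⟩`, `G` of characteristic 2 type: `c = z`.
-/

set_option autoImplicit false

namespace Cfsg.Agent.Omega.HOneTwo.BSTrick

open Subgroup Cfsg Cfsg.Agent.ZN Cfsg.Agent.Omega.MinPar
open Cfsg.Agent.MinSimple.VModule (zc_le_zl o2_isPGroup)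
open Cfsg.Agent.Omega.HOne.TvDef
open Cfsg.Agent.Omega.HOne.TvHSide (le_normalizer_of le_normalizer_inf_centralizer red_of)

universe u

variable {G : Type u} [Group G] [Finite G]

/-- **Baer-Suzuki for an involution of `H` acting on `NN`** -/
theorem exists_conj {H NN : Subgroup G} (hNH : H ≤ normalizer (NN : Set G))
    (hred : ∀ K : Subgroup G, K ≤ H → H ≤ normalizer (K : Set G) →
      (∀ x ∈ K, ∃ k : ℕ, x ^ 2 ^ k ∈ centralizer (NN : Set G)) → K ≤ centralizer (NN : Set G))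
    {u : G} (hu : u ∈ H) (huu : u * u = 1) (hun : u ∉ centralizer (NN : Set G)) :
    ∃ h ∈ H, ∀ T : Subgroup G, IsPGroup 2 T → u ∈ T → h * u * h⁻¹ ∈ T → False := by
  have hCH := le_normalizer_inf_centralizer hNH
  set C : Subgroup G := H ⊓ centralizer (NN : Set G) with hC
  have hn : (C.subgroupOf H).Normal := normal_subgroupOf_of_le_normalizer hCH
  set f := QuotientGroup.mk' (C.subgroupOf H) with hf
  have hf1 : ∀ y : H, f y = 1 → (y : G) ∈ C := by
    intro y hy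
    exact (QuotientGroup.eq_one_iff (N := C.subgroupOf H) y).1 hy
  set a := f ⟨u, hu⟩ with ha
  have haa : a * a = 1 := by
    rw [ha, ← map_mul]
    have : (⟨u, hu⟩ : H) * ⟨u, hu⟩ = 1 := Subtype.ext huu
    rw [this, map_one]
  obtain ⟨g, hg1, hgo, hgi⟩ := Involutions.BaerSuzuki.exists_odd_inverted a haa (by
    intro h1
    have h2 := hred (((normalClosure {a}).comap f).map H.subtype) (map_subtype_le _) ?_ ?_
    · have h3 : u ∈ ((normalClosure {a}).comap f).map H.subtype :=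
        ⟨⟨u, hu⟩, subset_normalClosure rfl, rfl⟩
      exact hun (h2 h3)
    · refine le_normalizer_of ?_
      rintro x hx _ ⟨y, hy, rfl⟩
      refine ⟨⟨x, hx⟩ * y * ⟨x, hx⟩⁻¹, ?_, rfl⟩
      change f _ ∈ normalClosure {a}
      rw [map_mul, map_mul, map_inv]
      exact normalClosure_normal.conj_mem _ hy _
    · rintro _ ⟨y, hy, rfl⟩
      obtain ⟨k, hk⟩ := h1 ⟨f y, hy⟩
      refine ⟨k, ?_⟩
      have h2 : f (y ^ 2 ^ k) = 1 := by
        rw [map_pow]
        exact congrArg Subtype.val hk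
      exact (hf1 _ h2).2)
  obtain ⟨⟨h, hh⟩, rfl⟩ := QuotientGroup.mk'_surjective (C.subgroupOf H) g
  refine ⟨h, hh, fun T hT hT1 hT2 => hg1 ?_⟩
  have hainv : a⁻¹ = a := inv_eq_of_mul_eq_one_left haa
  obtain ⟨k, hk⟩ := hT ⟨u * (h * u * h⁻¹), T.mul_mem hT1 hT2⟩
  have hk' : (u * (h * u * h⁻¹)) ^ 2 ^ k = 1 := congrArg Subtype.val hk
  have h3 : f ((⟨u, hu⟩ : H) * (⟨h, hh⟩ * ⟨u, hu⟩ * ⟨h, hh⟩⁻¹)) = (f ⟨h, hh⟩)⁻¹ ^ 2 := by
    rw [map_mul, map_mul, map_mul, map_inv, ← ha]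
    change a * (f ⟨h, hh⟩ * a * (f ⟨h, hh⟩)⁻¹) = _
    calc a * (f ⟨h, hh⟩ * a * (f ⟨h, hh⟩)⁻¹) = a * f ⟨h, hh⟩ * a * (f ⟨h, hh⟩)⁻¹ := by group
      _ = a * f ⟨h, hh⟩ * a⁻¹ * (f ⟨h, hh⟩)⁻¹ := by rw [hainv]
      _ = (f ⟨h, hh⟩)⁻¹ * (f ⟨h, hh⟩)⁻¹ := by rw [hgi]
      _ = _ := by rw [sq]
  have h4 : ((⟨u, hu⟩ : H) * (⟨h, hh⟩ * ⟨u, hu⟩ * ⟨h, hh⟩⁻¹)) ^ 2 ^ k = 1 := Subtype.ext hk'
  have h5 : (f ⟨h, hh⟩) ^ 2 ^ (k + 1) = 1 := by
    have := congrArg f h4
    rw [map_pow, h3, map_one, ← pow_mul, inv_pow, inv_eq_one] at this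
    rw [pow_succ, mul_comm]
    exact this
  have h6 : orderOf (f ⟨h, hh⟩) ∣ 2 ^ (k + 1) := orderOf_dvd_of_pow_eq_one h5
  have h7 : Nat.Coprime (orderOf (f ⟨h, hh⟩)) (2 ^ (k + 1)) :=
    Nat.Coprime.pow_right _ (Nat.coprime_two_right.2 hgo)
  exact orderOf_eq_one_iff.1 (h7.eq_one_of_dvd h6)

variable {M : Subgroup G} {r t z c : G} {Q N : G → Subgroup G}

omit [Finite G] in
theorem le_normalizer_N (h : TvH M r t Q N) :
    centralizer ({r} : Set G) ≤ normalizer (N r : Set G) := by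
  refine le_normalizer_of fun x hx n hn => ?_
  have h1 := h.Nc x r n hn
  rw [mem_centralizer_singleton_iff] at hx
  have e : x * r * x⁻¹ = r := by
    rw [mul_inv_eq_iff_eq_mul]
    exact hx
  rwa [e] at h1

omit [Finite G] in
/-- two elements in a 2-group, the second normalising -/
theorem common {A : Subgroup G} {u w f : G} (hA : IsPGroup 2 A) (hu : u ∈ A) (hww : w * w = 1)
    (hAn : ∀ x, x * f = f * x → ∀ a ∈ A, x * a * x⁻¹ ∈ A) (hw : w * f = f * w) :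
    ∃ T : Subgroup G, IsPGroup 2 T ∧ u ∈ T ∧ w ∈ T := by
  have h1 : zpowers w ≤ normalizer (A : Set G) := by
    rw [zpowers_le, mem_normalizer_iff]
    intro x
    refine ⟨fun hx => hAn w hw x hx, fun hx => ?_⟩
    have hwi : w⁻¹ = w := inv_eq_of_mul_eq_one_left hww
    have h2 := hAn w hw _ hx
    have e : w * (w * x * w⁻¹) * w⁻¹ = (w * w) * x * (w⁻¹ * w⁻¹) := by group
    rw [e, hwi, hww, one_mul, mul_one] at h2
    exact h2
  have h2 : IsPGroup 2 (zpowers w) := MinSimple.Basic.isPGroup_zpowers (by rw [sq]; exact hww)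
  refine ⟨zpowers w ⊔ A, IsPGroup.to_sup_of_normal_right' h2 hA h1, mem_sup_right hu,
    mem_sup_left (mem_zpowers w)⟩

/-- **the BS-trick, abstract form** -/
theorem eq_of (h : TvH M r t Q N) (hc : JConst M r t Q N c) (hE : JEnd M r Q N c)
    (hred : ∀ K : Subgroup G, K ≤ centralizer ({r} : Set G) →
      centralizer ({r} : Set G) ≤ normalizer (K : Set G) →
      (∀ x ∈ K, ∃ k : ℕ, x ^ 2 ^ k ∈ centralizer (N r : Set G)) → K ≤ centralizer (N r : Set G))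
    (hzN : z ∈ N r) (hz1 : z ≠ 1) (hzz : z * z = 1) (hMz : ∀ m ∈ M, m * z = z * m)
    (hA : ∀ f, f * f = 1 → f ≠ 1 → (∀ m ∈ M, m * f = f * m) →
      ∃ A : Subgroup G, IsPGroup 2 A ∧ UU M r ≤ A ∧ ∀ x, x * f = f * x → ∀ a ∈ A, x * a * x⁻¹ ∈ A) :
    c = z := by
  by_contra hcz
  obtain ⟨hc1, hcU, hcZ, hMc, -⟩ := hc
  have hM : ∀ s ∈ UU M r, s ∈ M := by
    have : UU M r ≤ M := by
      unfold UU
      rw [closure_le]
      rintro _ ⟨m, hm, rfl⟩
      exact M.mul_mem (M.mul_mem hm (h.Q_le h.r_mem)) (M.inv_mem hm)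
    exact this
  obtain ⟨u, hu, huQ⟩ := h.beta
  have huu : u * u = 1 := h.UU_sq hu
  have hrU : r ∈ UU M r := Om_le_UU Om_base
  have hur : u ∈ centralizer ({r} : Set G) := by
    rw [mem_centralizer_singleton_iff]
    exact h.UU_comm hu hrU
  have hun : u ∉ centralizer (N r : Set G) := by
    intro h1
    exact huQ (h.UN u hu fun n hn => (mem_centralizer_iff.1 h1 n hn).symm)
  obtain ⟨g, hg, hgT⟩ := exists_conj (le_normalizer_N h) hred hur huu hun
  set w := g * u * g⁻¹ with hw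
  have hww : w * w = 1 := by
    calc w * w = g * (u * u) * g⁻¹ := by rw [hw]; group
      _ = 1 := by rw [huu]; group
  rw [mem_centralizer_singleton_iff] at hg
  have hgr' : g⁻¹ * r = r * g⁻¹ := by
    calc g⁻¹ * r = g⁻¹ * (r * g) * g⁻¹ := by group
      _ = g⁻¹ * (g * r) * g⁻¹ := by rw [hg]
      _ = _ := by group
  rw [mem_centralizer_singleton_iff] at hur
  have hwr : w * r = r * w := by
    calc w * r = g * u * (g⁻¹ * r) := by rw [hw]; group
      _ = g * (u * r) * g⁻¹ := by rw [hgr']; group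
      _ = (g * r) * u * g⁻¹ := by rw [hur]; group
      _ = _ := by rw [hg, hw]; group
  -- no admissible `f` commutes with `w`
  have key : ∀ f, f * f = 1 → f ≠ 1 → (∀ m ∈ M, m * f = f * m) → w * f ≠ f * w := by
    intro f hf hf1 hfM hwf
    obtain ⟨A, hA1, hA2, hA3⟩ := hA f hf hf1 hfM
    obtain ⟨T, hT, hT1, hT2⟩ := common hA1 (hA2 hu) hww hA3 hwf
    exact hgT T hT hT1 hT2
  have hNg : ∀ n ∈ N r, g⁻¹ * n * g ∈ N r := by
    intro n hn
    have h1 := h.Nc g⁻¹ r n hn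
    have e : g⁻¹ * r * g⁻¹⁻¹ = r := by rw [hgr']; group
    rw [e, inv_inv] at h1
    exact h1
  -- the index of the centraliser of `w`
  have hidx : ∀ m ∈ N r, ∀ n ∈ N r, w * m ≠ m * w → w * n ≠ n * w → w * (m * n) = m * n * w := by
    intro m hm n hn h1 h2
    have mv : ∀ x ∈ N r, w * x ≠ x * w → ∃ v ∈ UU M r, v * (g⁻¹ * x * g) ≠ (g⁻¹ * x * g) * v := by
      intro x _ hx
      refine ⟨u, hu, fun h3 => hx ?_⟩
      calc w * x = g * (u * (g⁻¹ * x * g)) * g⁻¹ := by rw [hw]; group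
        _ = g * ((g⁻¹ * x * g) * u) * g⁻¹ := by rw [h3]
        _ = _ := by rw [hw]; group
    have h3 := hE.2.2 _ (hNg m hm) _ (hNg n hn) (mv m hm h1) (mv n hn h2) u hu
    calc w * (m * n) = g * (u * ((g⁻¹ * m * g) * (g⁻¹ * n * g))) * g⁻¹ := by rw [hw]; group
      _ = g * ((g⁻¹ * m * g) * (g⁻¹ * n * g) * u) * g⁻¹ := by rw [h3]
      _ = _ := by rw [hw]; group
  -- `r c ∈ N r`
  have hrc : r * c ∈ N r := by
    rw [mem_centralizer_iff] at hun
    push Not at hun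
    obtain ⟨n, hn, h1⟩ := hun
    have h2 : u * n * u⁻¹ * n⁻¹ = r * c := by
      rcases hE.1 u hu n hn with h2 | h2
      · exfalso
        apply h1
        have : u * n = n * u := by
          have h3 : u * n * u⁻¹ * n⁻¹ * (n * u) = 1 * (n * u) := by rw [h2]
          simpa [mul_assoc] using h3
        exact this.symm
      · exact h2
    rw [← h2]
    refine mul_mem ?_ (inv_mem hn)
    have h3 := h.Nc u r n hn
    have e : u * r * u⁻¹ = r := by rw [hur]; group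
    rwa [e] at h3
  have hcc : c * c = 1 := h.UU_sq hcU
  have hcr : c * r = r * c := h.UU_comm hcU hrU
  have hcm : c ∈ M := hM c hcU
  have hzc : z * c = c * z := (hMz c hcm).symm
  have h1 : w * z ≠ z * w := key z hzz hz1 hMz
  have h2 : w * c ≠ c * w := key c hcc hc1 hMc
  have h3 : w * (r * c) ≠ r * c * w := by
    intro h4
    apply h2
    have h5 : r * (w * c) = r * (c * w) := by
      rw [← mul_assoc, ← hwr, mul_assoc, h4, mul_assoc]
    exact mul_left_cancel h5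
  have h4 := hidx z hzN (r * c) hrc h1 h3
  -- `w` commutes with `z c`
  have hrz : r * z = z * r := hMz r (h.Q_le h.r_mem)
  have h5 : w * (z * c) = z * c * w := by
    have e1 : z * (r * c) = r * (z * c) := by rw [← mul_assoc, ← hrz, mul_assoc]
    rw [e1] at h4
    have h6 : r * (w * (z * c)) = r * (z * c * w) := by
      rw [← mul_assoc, ← hwr, mul_assoc, h4, mul_assoc]
    exact mul_left_cancel h6
  refine key (z * c) ?_ ?_ ?_ h5
  · calc z * c * (z * c) = z * (c * z) * c := by group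
      _ = z * (z * c) * c := by rw [hzc]
      _ = (z * z) * (c * c) := by group
      _ = 1 := by rw [hzz, hcc, one_mul]
  · intro h6
    apply hcz
    have h7 : z * (z * c) = z * 1 := by rw [h6]
    rw [← mul_assoc, hzz, one_mul, mul_one] at h7
    exact h7
  · intro m hm
    rw [← mul_assoc, hMz m hm, mul_assoc, hMc m hm, mul_assoc]

/-- the groups `A_f = ⟨Ω₁Z(S)^{C(f)}⟩` -/
theorem exists_A (S : Sylow 2 G) (hG : IsCharacteristicTwoType G) (hSM : (S : Subgroup G) ≤ M)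
    (hr : r ∈ zc (S : Subgroup G)) {f : G} (hff : f * f = 1) (hf1 : f ≠ 1)
    (hMf : ∀ m ∈ M, m * f = f * m) :
    ∃ A : Subgroup G, IsPGroup 2 A ∧ UU M r ≤ A ∧ ∀ x, x * f = f * x → ∀ a ∈ A, x * a * x⁻¹ ∈ A := by
  have hM : M ≤ centralizer ({f} : Set G) := by
    intro m hm
    rw [mem_centralizer_singleton_iff]
    exact hMf m hm
  have hloc : IsLoc (S : Subgroup G) (centralizer ({f} : Set G)) :=
    isLoc_centralizer S (by rw [sq]; exact hff) hf1 (hSM.trans hM)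
  refine ⟨zl (S : Subgroup G) (centralizer ({f} : Set G)), ?_, ?_, ?_⟩
  · exact (o2_isPGroup _).to_le ((hloc.zl_le S hG).trans (zc_le _))
  · unfold UU
    rw [closure_le]
    rintro _ ⟨m, hm, rfl⟩
    exact (mem_normalizer_iff.1 (le_normalizer_zl _ _ (hM hm)) r).1 (zc_le_zl _ _ hr)
  · intro x hx a ha
    exact (mem_normalizer_iff.1 (le_normalizer_zl _ _ ((mem_centralizer_singleton_iff).2 hx)) a).1 ha

/-- **(E): `c₀ = z`.** -/
theorem eq_z (S : Sylow 2 G) (hG : IsCharacteristicTwoType G) (h : TvH M r t Q N)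
    (hc : JConst M r t Q N c) (hE : JEnd M r Q N c) {Z₀ : Set G} (hSM : (S : Subgroup G) ≤ M)
    (hr : r ∈ zc (S : Subgroup G)) (hZS : ∀ x ∈ (S : Subgroup G), ∀ y ∈ Z₀, x * y = y * x)
    (hZN : Z₀ ⊆ N r)
    (hNN : N r ≤ closure {x | ∃ g ∈ centralizer ({r} : Set G), ∃ y ∈ Z₀, g * y * g⁻¹ = x})
    (hz : z ∈ Z₀) (hz1 : z ≠ 1) (hzz : z * z = 1) (hMz : ∀ m ∈ M, m * z = z * m) : c = z := by
  have hSr : (S : Subgroup G) ≤ centralizer ({r} : Set G) := by
    intro x hx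
    rw [mem_centralizer_singleton_iff]
    exact ((mem_zc.1 hr).2.1 x hx)
  exact eq_of h hc hE (red_of hSr S.isPGroup' (MinSimple.Basic.not_dvd_relIndex S hSr) hZS
    (le_normalizer_N h) hZN hNN) (hZN hz) hz1 hzz hMz
    fun f hff hf1 hMf => exists_A S hG hSM hr hff hf1 hMf

/-- **(E) in the position `Pos`, `N r = ⟨z^{C(r)}⟩`.** -/
theorem Pos.eq_z {S : Sylow 2 G} {P V : Subgroup G} {ι : Type*} {R : ι → Subgroup G} {o : ι}
    (p : HTwo.Entry.Pos S P V R o r z) (h : TvH M r t Q N)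
    (hc : JConst M r t Q N c) (hE : JEnd M r Q N c) (hSM : (S : Subgroup G) ≤ M)
    (hMz : M ≤ centralizer ({z} : Set G)) (hzN : z ∈ N r)
    (hNN : N r ≤ closure {x | ∃ g ∈ centralizer ({r} : Set G), g * z * g⁻¹ = x}) : c = z := by
  have hSr : (S : Subgroup G) ≤ centralizer ({r} : Set G) := by
    rw [← p.normalizer_eq]
    exact p.S_R
  have hrS : r ∈ zc (S : Subgroup G) := by
    rw [mem_zc]
    have hrS' : r ∈ (S : Subgroup G) := p.toHT.V_le_S (p.toHT.R_le o p.r_mem)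
    exact ⟨hrS', fun s hs => mem_centralizer_singleton_iff.1 (hSr hs), by rw [sq]; exact p.r_sq⟩
  refine BSTrick.eq_z S p.char2 h hc hE (Z₀ := {z}) hSM hrS ?_ ?_ ?_ rfl p.z_ne p.z_sq ?_
  · rintro x hx _ rfl
    exact (mem_zc.1 p.z_mem.1).2.1 x hx
  · rintro _ rfl
    exact hzN
  · refine hNN.trans (closure_mono ?_)
    rintro x ⟨g, hg, e⟩
    exact ⟨g, hg, z, rfl, e⟩
  · intro m hm
    exact mem_centralizer_singleton_iff.1 (hMz hm)

/-- `JEnd` for the constant `z` -/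
theorem Pos.jend {S : Sylow 2 G} {P V : Subgroup G} {ι : Type*} {R : ι → Subgroup G} {o : ι}
    (p : HTwo.Entry.Pos S P V R o r z) (h : TvH M r t Q N)
    (hm : ∃ c, JConst M r t Q N c ∧ JEnd M r Q N c) (hSM : (S : Subgroup G) ≤ M)
    (hMz : M ≤ centralizer ({z} : Set G)) (hzN : z ∈ N r)
    (hNN : N r ≤ closure {x | ∃ g ∈ centralizer ({r} : Set G), g * z * g⁻¹ = x}) :
    JEnd M r Q N z := by
  obtain ⟨c, hc, hE⟩ := hm
  rw [← Pos.eq_z p h hc hE hSM hMz hzN hNN]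
  exact hE

end Cfsg.Agent.Omega.HOneTwo.BSTrick

end

section


/-!
# The BS-trick over a 2-group `S` which is Sylow in `N(R o)` (not in `G`)

Port of `HOneTwo/BSTrick` to `HTT S P V R o`:
* `exists_A` : the 2-group `O₂(C(f)) ≥ U` for `1 ≠ f` centralised by `M ≥ S, X`;
* `eq_z` : `TvH M r t Q N`, `JConst M r t Q N c`, `JEnd M r Q N c`, `S, X ≤ M ≤ C(z)`, `z ∈ Z₀`,
  `N r = ⟨Z₀^{C(r)}⟩` : `c = z`;
* `jend` : `JEnd M r Q N z`.
-/

set_option autoImplicit false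

namespace Cfsg.Agent.Omega.HT.BSTrick

open Subgroup Cfsg Cfsg.Agent.ZN Cfsg.Agent.Omega.MinPar
open Cfsg.Agent.Omega.BTwo hiding UU
open Cfsg.Agent.MinSimple.VModule (o2_isPGroup)
open Cfsg.Agent.Omega.HOne.TvDef
open Cfsg.Agent.Omega.HOne.TvHSide (red_of)
open Cfsg.Agent.Omega.HOneTwo.BSTrick (le_normalizer_N eq_of)

universe u

variable {G : Type u} [Group G] [Finite G] {ι : Type*} {S P V : Subgroup G} {R : ι → Subgroup G} {o : ι}
  {M : Subgroup G} {r t z c : G} {Q N : G → Subgroup G}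

/-- `O₂(C(f)) ≥ U` -/
theorem exists_A (b : HTT S P V R o) (hSM : S ≤ M) (hXM : XX V R ≤ M) (hr : r ∈ R o) {f : G}
    (hff : f * f = 1) (hf1 : f ≠ 1) (hMf : ∀ m ∈ M, m * f = f * m) :
    ∃ A : Subgroup G, IsPGroup 2 A ∧ UU M r ≤ A ∧ ∀ x, x * f = f * x → ∀ a ∈ A, x * a * x⁻¹ ∈ A := by
  have hM : M ≤ centralizer ({f} : Set G) := by
    intro m hm
    rw [mem_centralizer_singleton_iff]
    exact hMf m hm
  have hloc : TLoc S (centralizer ({f} : Set G)) :=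
    TLoc.centralizer (by rw [sq]; exact hff) hf1 (hSM.trans hM)
  have h2 := hloc.char2 b.char2
  have h3 := b.loc _ (hSM.trans hM) (hXM.trans hM) hloc.o2_ne h2
  have hrV : r ∈ V := b.R_le o hr
  have hrf : r ∈ centralizer ({f} : Set G) :=
    hM (hSM (b.V_le_S hrV))
  have hrc : r ∈ centralizer (o2 (centralizer ({f} : Set G)) : Set G) := by
    rw [mem_centralizer_iff]
    intro y hy
    exact (mem_centralizer_iff.1 (h3 hy) r hrV).symm
  have hro : r ∈ o2 (centralizer ({f} : Set G)) := h2 ⟨hrf, hrc⟩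
  refine ⟨o2 (centralizer ({f} : Set G)), o2_isPGroup _, ?_, ?_⟩
  · unfold UU
    rw [closure_le]
    rintro _ ⟨m, hm, rfl⟩
    exact (mem_normalizer_iff.1 (MinSimple.VModule.le_normalizer_o2 _ (hM hm)) r).1 hro
  · intro x hx a ha
    exact (mem_normalizer_iff.1 (MinSimple.VModule.le_normalizer_o2 _
      ((mem_centralizer_singleton_iff).2 hx)) a).1 ha

omit [Finite G] in
/-- `N(R o) = C(r)` -/
theorem normalizer_eq (b : HTT S P V R o) (hr : ∀ x, x ∈ R o ↔ x = 1 ∨ x = r) :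
    normalizer (R o : Set G) = centralizer ({r} : Set G) := by
  have hrR : r ∈ R o := (hr r).2 (Or.inr rfl)
  apply le_antisymm
  · intro x hx
    rw [mem_centralizer_singleton_iff]
    exact (mem_centralizer_iff.1 (HOneTwo.normalizer_le_cen_of_card (b.card_R o) hx) r hrR).symm
  · intro x hx
    rw [mem_centralizer_singleton_iff] at hx
    refine centralizer_le_normalizer _ ?_
    rw [mem_centralizer_iff]
    intro y hy
    rcases (hr y).1 hy with rfl | rfl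
    · rw [one_mul, mul_one]
    · exact hx.symm

/-- **`c₀ = z` over `T`** -/
theorem eq_z (b : HTT S P V R o) (hr : ∀ x, x ∈ R o ↔ x = 1 ∨ x = r) (h : TvH M r t Q N)
    (hc : JConst M r t Q N c) (hE : JEnd M r Q N c) {Z₀ : Set G} (hSM : S ≤ M) (hXM : XX V R ≤ M)
    (hZS : ∀ x ∈ S, ∀ y ∈ Z₀, x * y = y * x) (hZN : Z₀ ⊆ N r)
    (hNN : N r ≤ closure {x | ∃ g ∈ centralizer ({r} : Set G), ∃ y ∈ Z₀, g * y * g⁻¹ = x})
    (hz : z ∈ Z₀) (hz1 : z ≠ 1) (hzz : z * z = 1) (hMz : ∀ m ∈ M, m * z = z * m) : c = z := by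
  have hrR : r ∈ R o := (hr r).2 (Or.inr rfl)
  have hN := normalizer_eq b hr
  have hSr : S ≤ centralizer ({r} : Set G) := by rw [← hN]; exact b.S_R
  have hodd : ¬ 2 ∣ S.relIndex (centralizer ({r} : Set G)) := by rw [← hN]; exact b.S_odd
  exact eq_of h hc hE (red_of hSr b.S_p hodd hZS (le_normalizer_N h) hZN hNN) (hZN hz) hz1 hzz hMz
    fun f hff hf1 hMf => exists_A b hSM hXM hrR hff hf1 hMf

/-- `JEnd` for the constant `z` -/
theorem jend (b : HTT S P V R o) (hr : ∀ x, x ∈ R o ↔ x = 1 ∨ x = r) (h : TvH M r t Q N)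
    (hm : ∃ c, JConst M r t Q N c ∧ JEnd M r Q N c) {Z₀ : Set G} (hSM : S ≤ M) (hXM : XX V R ≤ M)
    (hZS : ∀ x ∈ S, ∀ y ∈ Z₀, x * y = y * x) (hZN : Z₀ ⊆ N r)
    (hNN : N r ≤ closure {x | ∃ g ∈ centralizer ({r} : Set G), ∃ y ∈ Z₀, g * y * g⁻¹ = x})
    (hz : z ∈ Z₀) (hz1 : z ≠ 1) (hzz : z * z = 1) (hMz : ∀ m ∈ M, m * z = z * m) :
    JEnd M r Q N z := by
  obtain ⟨c, hc, hE⟩ := hm
  rw [← eq_z b hr h hc hE hSM hXM hZS hZN hNN hz hz1 hzz hMz]
  exact hE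

end Cfsg.Agent.Omega.HT.BSTrick

end

section


/-!
# II.0h1, `q = 2`, case (α) OVER `T` : (1), (2)

* `core_of_sylow` : `O₂(M / C_M(U)) = 1` for `U = ⟨p^M⟩`, `p` centralised by a 2-group `T ≤ M` of odd index in `M`;
* `exists_cj_S` : 2-subgroups of `L` are conjugate into a 2-group `T ≤ L` of odd index;
* `alpha_two` = (2) : `Q o` induces more than one transvection on `U = ⟨V^{C(z)}⟩`.
-/

set_option autoImplicit false
set_option linter.unusedSectionVars false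

namespace Cfsg.Agent.Omega.HT.AlphaOne

open Subgroup Cfsg Cfsg.Agent.ZN Cfsg.Agent.Omega.BTwo
open Cfsg.Agent.Omega.MinPar Cfsg.Agent.Omega.HOneTwo Cfsg.Agent.Omega.HTwo.Hat Cfsg.Agent.Omega.HTwo.ThmA
open Cfsg.Agent.Omega.HTwo.Par Cfsg.Agent.Omega.HT
open Cfsg.Agent.Omega.HTwo.AlphaOne (ZQ_swap ZQ_not_RC)

universe u

section core

variable {G : Type u} [Group G]

/-- `O₂(M / C_M(U)) = 1` -/
theorem core_of_sylow [Finite G] {T M U O : Subgroup G} (hT : IsPGroup 2 T) (hTM : T ≤ M)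
    (hTs : ¬ 2 ∣ T.relIndex M)
    (hMU : M ≤ normalizer (U : Set G)) {p : G} (hpU : p ∈ U) (hpT : ∀ t ∈ T, p * t = t * p)
    (hU : U ≤ Subgroup.closure {x | ∃ m ∈ M, m * p * m⁻¹ = x}) (hOM : O ≤ M)
    (hMO : M ≤ normalizer (O : Set G)) (hO : ∀ x ∈ O, ∃ k : ℕ, x ^ 2 ^ k ∈ centralizer (U : Set G)) :
    O ≤ centralizer (U : Set G) := by
  have hf : Fact (Nat.Prime 2) := ⟨Nat.prime_two⟩
  -- `O ≤ C(U) (T ∩ O)`
  have hCM : M ≤ normalizer (centralizer (U : Set G) : Set G) :=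
    hMU.trans (normalizer_le_normalizer_centralizer U)
  have h1 : IsPGroup 2 (T.subgroupOf M) := hT.comap_of_injective _ M.subtype_injective
  have hn : (O.subgroupOf M).Normal := normal_subgroupOf_of_le_normalizer hMO
  have hn2 : ((M ⊓ centralizer (U : Set G)).subgroupOf M).Normal :=
    normal_subgroupOf_of_le_normalizer (le_trans (le_inf le_normalizer hCM) inf_normalizer_le_normalizer_inf)
  have h2 := Lib.SylowNormalInf.le_sup_inf (h1.toSylow hTs : Sylow 2 M)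
    (O.subgroupOf M) ((M ⊓ centralizer (U : Set G)).subgroupOf M) (fun x hx => by
      obtain ⟨k, hk⟩ := hO x hx
      exact ⟨k, (x ^ 2 ^ k).2, hk⟩)
  have h3 := Subgroup.map_mono (f := M.subtype) h2
  rw [subgroupOf_map_subtype, inf_eq_left.mpr hOM, Subgroup.map_sup, subgroupOf_map_subtype] at h3
  have h4 : O ≤ centralizer (U : Set G) ⊔ (T ⊓ O) := by
    refine h3.trans (sup_le_sup (inf_le_left.trans inf_le_right) ?_)
    rintro _ ⟨x, hx, rfl⟩
    exact hx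
  -- `U ≤ C(T ∩ O)`
  have h5 : U ≤ centralizer ((T ⊓ O : Subgroup G) : Set G) := by
    refine hU.trans ((closure_le _).2 ?_)
    rintro _ ⟨m, hm, rfl⟩
    obtain ⟨l, hl, n, hn, rfl⟩ := MinSimple.LemXPerm.exists_frattini hTM hT hTs hMO hm
    -- `l = c t`
    have h6 := h4 hl
    have h8 : l ∈ ((centralizer (U : Set G) ⊔ (T ⊓ O) : Subgroup G) : Set G) := h6
    rw [coe_mul_of_right_le_normalizer_left _ _ ((inf_le_left.trans hTM).trans hCM)] at h8
    obtain ⟨c, hc, t, ht, rfl⟩ := h8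
    -- `t n = n' ∈ N(T ∩ O)`
    have hnU : (t * n) * p * (t * n)⁻¹ ∈ U :=
      conj_mem_of_normalizer (hMU (mul_mem (hTM ht.1) hn.1)) hpU
    have e1 : c * t * n * p * (c * t * n)⁻¹ = (t * n) * p * (t * n)⁻¹ := by
      have := mem_centralizer_iff.1 hc _ hnU
      calc c * t * n * p * (c * t * n)⁻¹ = c * ((t * n) * p * (t * n)⁻¹) * c⁻¹ := by group
        _ = _ := by rw [← this, mul_inv_cancel_right]
    change c * t * n * p * (c * t * n)⁻¹ ∈ _
    rw [e1, SetLike.mem_coe, mem_centralizer_iff]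
    intro s hs
    have htn : t * n ∈ normalizer ((T ⊓ O : Subgroup G) : Set G) :=
      mul_mem (le_normalizer ht) hn.2
    have h9 := conj_inv_mem_of_normalizer htn hs
    have h10 := hpT _ h9.1
    calc s * (t * n * p * (t * n)⁻¹) = t * n * ((t * n)⁻¹ * s * (t * n) * p) * (t * n)⁻¹ := by group
      _ = t * n * (p * ((t * n)⁻¹ * s * (t * n))) * (t * n)⁻¹ := by rw [h10]
      _ = _ := by group
  exact h4.trans (sup_le le_rfl (le_centralizer_iff.1 h5))

/-- a 2-subgroup of `L` is conjugate in `L` into a 2-group `T ≤ L` of odd index -/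
theorem exists_cj_S [Finite G] {T L B : Subgroup G} (hT : IsPGroup 2 T) (hTL : T ≤ L)
    (hTs : ¬ 2 ∣ T.relIndex L) (hBL : B ≤ L) (hB : IsPGroup 2 B) :
    ∃ g ∈ L, B ≤ cj g T := by
  have hf : Fact (Nat.Prime 2) := ⟨Nat.prime_two⟩
  have h1 : IsPGroup 2 (T.subgroupOf L) := hT.comap_of_injective _ L.subtype_injective
  have h2 : IsPGroup 2 (B.subgroupOf L) := hB.comap_of_injective _ L.subtype_injective
  obtain ⟨Q, hQ⟩ := h2.exists_le_sylow
  obtain ⟨g, hg⟩ := MulAction.exists_smul_eq L (h1.toSylow hTs : Sylow 2 L) Q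
  refine ⟨g, g.2, ?_⟩
  intro x hx
  have h3 : (⟨x, hBL hx⟩ : L) ∈ (Q : Subgroup L) := hQ (mem_subgroupOf.2 hx)
  rw [← hg] at h3
  rw [mem_cj]
  have h4 : g⁻¹ * ⟨x, hBL hx⟩ * g ∈ ((h1.toSylow hTs : Sylow 2 L) : Subgroup L) := by
    rw [Sylow.coe_subgroup_smul, ← SetLike.mem_coe, Subgroup.coe_pointwise_smul,
      Set.mem_smul_set_iff_inv_smul_mem] at h3
    have h5 : g⁻¹ * ⟨x, hBL hx⟩ * g ∈ (h1.toSylow hTs : Sylow 2 L) := by
      simpa [MulAut.smul_def] using h3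
    exact h5
  exact mem_subgroupOf.1 h4

end core

section two

variable {G : Type u} [Group G] [Finite G] {ι : Type*} {S P V : Subgroup G} {R : ι → Subgroup G} {o : ι}
  (b : HTT S P V R o)
include b

/-- the product of elements of different points lies in the third -/
theorem mul_mem_third {i j k : ι} (hij : i ≠ j) (hik : i ≠ k) (hjk : j ≠ k) {x y : G} (hx : x ∈ R j) (hx1 : x ≠ 1)
    (hy : y ∈ R k) (hy1 : y ≠ 1) : x * y⁻¹ ∈ R i := by
  obtain ⟨l, hl⟩ := b.R_cov (x * y⁻¹) (mul_mem (b.R_le j hx) (inv_mem (b.R_le k hy)))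
  have hne : x * y⁻¹ ≠ 1 := by
    intro h
    rw [mul_inv_eq_one] at h
    subst h
    exact hx1 (b.eq_one hjk hx hy)
  rcases b.eq_of_ne hij hik hjk (l := l) with rfl | rfl | rfl
  · exact hl
  · exfalso
    have h1 : y⁻¹ ∈ R l := by
      have := mul_mem (inv_mem hx) hl
      rwa [inv_mul_cancel_left] at this
    exact hy1 (b.eq_one hjk (by simpa using inv_mem h1) hy)
  · exfalso
    have h1 : x ∈ R l := by
      have := mul_mem hl hy
      rwa [inv_mul_cancel_right] at this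
    exact hx1 (b.eq_one hjk hx h1)

/-- an element of `N(V) ∩ N(R o)` acts trivially on `V / R o` -/
theorem comm_mem_R {s v : G} (hsV : s ∈ normalizer (V : Set G)) (hsR : s ∈ normalizer (R o : Set G)) (hv : v ∈ V) :
    s * v * s⁻¹ * v⁻¹ ∈ R o := by
  obtain ⟨l, hl⟩ := b.R_cov v hv
  by_cases hlo : l = o
  · subst hlo
    exact mul_mem (conj_mem_of_normalizer hsR hl) (inv_mem hl)
  by_cases hv1 : v = 1
  · subst hv1
    have : s * 1 * s⁻¹ * 1⁻¹ = (1 : G) := by group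
    rw [this]; exact one_mem _
  obtain ⟨m, hm⟩ := b.perm s hsV l
  have h1 : s * v * s⁻¹ ∈ R m := by rw [← hm]; exact conj_mem_cj hl
  have hmo : m ≠ o := by
    rintro rfl
    exact hlo (b.R_index (cj_injective (hm.trans (cj_eq_self_iff.2 hsR).symm)))
  have hne : s * v * s⁻¹ ≠ 1 := fun h => hv1 (conj_eq_one_iff.1 h)
  by_cases hml : m = l
  · subst hml
    have h2 : s * v * s⁻¹ = v := eq_of_card_two (b.card_R m) hl hv1 h1 hne
    rw [h2, mul_inv_cancel]; exact one_mem _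
  · exact mul_mem_third b (Ne.symm hmo) (Ne.symm hlo) hml h1 hne hl hv1

/-- **(2)** of #14489 -/
theorem alpha_two (h : ∀ i, LE V R i) {z : G}
    (hz : z ∈ zc S ⊓ centralizer (P : Set G)) (hz1 : z ≠ 1)
    (hα : UM V (centralizer ({z} : Set G)) ≤ QQ (R o)) :
    ∃ a ∈ QQ (R o), ∃ c ∈ QQ (R o), a ∉ centralizer (UM V (centralizer ({z} : Set G)) : Set G) ∧
      c ∉ centralizer (UM V (centralizer ({z} : Set G)) : Set G) ∧
      a * c ∉ centralizer (UM V (centralizer ({z} : Set G)) : Set G) := by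
  by_contra hcon
  push Not at hcon
  set M := centralizer ({z} : Set G) with hM
  set U := UM V M with hU
  obtain ⟨k, hk, H⟩ := b.mt o
  obtain ⟨j, m, hj, hm, hjm⟩ := b.one_lt
  obtain ⟨-, v, hv, ev⟩ := H j m hj hm
  have hzz : z * z = 1 := by rw [← pow_two]; exact (mem_zc.1 hz.1).2.2
  have hzX : z ∈ CenX V R := b.cz_le hz
  have d := b.dt hz hz1
  have hzQ : z ∈ ZQ R o := cenX_le_ZQ b.toBTS h o hzX
  -- conjugate by `k⁻¹`
  have hk' : k⁻¹ ∈ normalizer (R o : Set G) := inv_mem hk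
  set z₁ := k⁻¹ * z * k with hz₁
  have hz₁Q : z₁ ∈ ZQ R o := conj_inv_mem_of_normalizer (N_le_NZQ o hk) hzQ
  have hz₁1 : z₁ ≠ 1 := by
    intro h
    apply hz1
    have : z = k * z₁ * k⁻¹ := by rw [hz₁]; group
    rw [this, h, mul_one, mul_inv_cancel]
  have hz₁z₁ : z₁ * z₁ = 1 := by
    have : z₁ * z₁ = k⁻¹ * (z * z) * k := by rw [hz₁]; group
    rw [this, hzz, mul_one, inv_mul_cancel]
  set U₁ := cj k⁻¹ U with hU₁
  have hQk : cj k⁻¹ (QQ (R o)) = QQ (R o) := cj_eq_self_iff.2 (le_normalizer_O2 _ hk')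
  have hU₁Q : U₁ ≤ QQ (R o) := by
    rw [← hQk]; exact cj_mono hα
  have hone : ∀ a ∈ QQ (R o), ∀ c ∈ QQ (R o), a ∉ centralizer (U₁ : Set G) → c ∉ centralizer (U₁ : Set G) →
      a * c ∈ centralizer (U₁ : Set G) := by
    intro a ha c hc h1 h2
    rw [hU₁, centralizer_cj, mem_cj, inv_inv] at h1 h2 ⊢
    have h3 := hcon (k * a * k⁻¹) (conj_mem_of_normalizer (le_normalizer_O2 _ hk) ha) (k * c * k⁻¹)
      (conj_mem_of_normalizer (le_normalizer_O2 _ hk) hc) h1 h2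
    have e : k * a * k⁻¹ * (k * c * k⁻¹) = k * (a * c) * k⁻¹ := by group
    rwa [e] at h3
  -- `C(z₁)` normalises `U₁`
  have hMU : ∀ g, g * z₁ = z₁ * g → g ∈ normalizer (U₁ : Set G) := by
    intro g hg
    rw [hU₁, normalizer_cj, mem_cj, inv_inv]
    apply le_normalizer_cl V M
    rw [hM, mem_centralizer_singleton_iff]
    calc k * g * k⁻¹ * z = k * (g * z₁) * k⁻¹ := by rw [hz₁]; group
      _ = k * (z₁ * g) * k⁻¹ := by rw [hg]
      _ = z * (k * g * k⁻¹) := by rw [hz₁]; group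
  have hV₁ : cj k⁻¹ V ≤ U₁ := cj_mono (le_cl V M)
  -- `R j` does not centralise `U₁`
  obtain ⟨r₂, hr₂1, hr₂₂, hr₂⟩ := b.exists_gen j
  have hr₂j : r₂ ∈ R j := (hr₂ _).2 (Or.inr rfl)
  have hv₁ : k⁻¹ * v * k ∈ U₁ := by
    have := hV₁ (conj_mem_cj (g := k⁻¹) hv)
    rwa [inv_inv] at this
  have hr₂U : r₂ ∉ centralizer (U₁ : Set G) := by
    intro hc
    have h1 := mem_centralizer_iff.1 hc _ hv₁
    have h2 : k⁻¹ * v * k * r₂ * (k⁻¹ * v * k)⁻¹ ∈ R m := by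
      rw [← ev]; exact conj_mem_cj hr₂j
    rw [h1, mul_inv_cancel_right] at h2
    exact hr₂1 (b.eq_one hjm hr₂j h2)
  -- the group `B`
  have hBN : ZQ R j ≤ normalizer (R o : Set G) := (ZQ_le_cen b.toBT j).trans (b.cen_le_N o)
  set B := ZQ R j ⊓ centralizer ({z₁} : Set G) with hB
  have hBp : IsPGroup 2 B := (O2_isPGroup _).to_le (inf_le_left.trans (ZQ_le j))
  have key : ∀ x ∈ B, ∃ a ∈ R j, a * x ∈ CenX V R := by
    -- a Sylow group
    set L := normalizer (R o : Set G) ⊓ centralizer ({z₁} : Set G) with hL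
    have hSL : cj k⁻¹ S ≤ L := by
      rintro _ ⟨s, hs, rfl⟩
      change k⁻¹ * s * k⁻¹⁻¹ ∈ L
      rw [inv_inv]
      refine ⟨mul_mem (mul_mem hk' (b.S_R hs)) hk, mem_centralizer_singleton_iff.2 ?_⟩
      have h1 : s * z = z * s := (mem_zc.1 hz.1).2.1 s hs
      calc k⁻¹ * s * k * z₁ = k⁻¹ * (s * z) * k := by rw [hz₁]; group
        _ = k⁻¹ * (z * s) * k := by rw [h1]
        _ = _ := by rw [hz₁]; group
    have hSp : IsPGroup 2 (cj k⁻¹ S : Subgroup G) := b.S_p.map _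
    have hSo : ¬ 2 ∣ (cj k⁻¹ S).relIndex L := by
      have h1 : ¬ 2 ∣ (cj k⁻¹ S).relIndex (cj k⁻¹ (normalizer (R o : Set G))) := by
        rw [HTwo.ThmD.relIndex_cj]; exact b.S_odd
      rw [cj_eq_self_iff.2 (le_normalizer hk')] at h1
      exact fun hd => h1 (hd.trans ⟨_, (relIndex_mul_relIndex _ _ _ hSL inf_le_left).symm⟩)
    obtain ⟨g, hg, hBg⟩ := exists_cj_S hSp hSL hSo (inf_le_inf_right _ hBN) hBp
    set k' := g * k⁻¹ with hk'd
    have hk'N : k' ∈ normalizer (R o : Set G) := mul_mem hg.1 hk'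
    have hBS : ∀ x ∈ B, ∃ s ∈ S, x = k' * s * k'⁻¹ := by
      intro x hx
      obtain ⟨y, hy, rfl⟩ := hBg hx
      obtain ⟨s, hs, rfl⟩ : ∃ s ∈ S, k⁻¹ * s * k⁻¹⁻¹ = y := hy
      refine ⟨s, hs, ?_⟩
      change g * (k⁻¹ * s * k⁻¹⁻¹) * g⁻¹ = _
      rw [hk'd]; group
    -- `V* = V^{k'} ≤ U₁`
    set a := k' * r₂ * k'⁻¹ with ha
    have haU : a ∈ U₁ := by
      have h1 := conj_mem_of_normalizer (hMU g (mem_centralizer_singleton_iff.1 hg.2))
        (hV₁ (conj_mem_cj (g := k⁻¹) (b.R_le j hr₂j)))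
      have e : a = g * (k⁻¹ * r₂ * k⁻¹⁻¹) * g⁻¹ := by rw [ha, hk'd]; group
      rw [e]; exact h1
    -- an element of `Q o` moving `a`
    obtain ⟨w, hw, ew⟩ := b.trans o hj hm
    have hwQ := b.W_le_Q o hw
    set q := k' * w * k'⁻¹ with hq
    have hqQ : q ∈ QQ (R o) := conj_mem_of_normalizer (le_normalizer_O2 _ hk'N) hwQ
    have hqa : q * a * q⁻¹ ≠ a := by
      intro h1
      have e : q * a * q⁻¹ = k' * (w * r₂ * w⁻¹) * k'⁻¹ := by rw [hq, ha]; group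
      rw [e, ha] at h1
      have h2 : w * r₂ * w⁻¹ = r₂ := mul_left_cancel (mul_right_cancel h1)
      have h3 : w * r₂ * w⁻¹ ∈ R m := by rw [← ew]; exact conj_mem_cj hr₂j
      rw [h2] at h3
      exact hr₂1 (b.eq_one hjm hr₂j h3)
    have hqU : q ∉ centralizer (U₁ : Set G) := by
      intro hc
      apply hqa
      rw [← mem_centralizer_iff.1 hc a haU, mul_inv_cancel_right]
    have hr₂Q : r₂ ∈ QQ (R o) := b.V_Q o (b.R_le j hr₂j)
    have h1 := hone r₂ hr₂Q q hqQ hr₂U hqU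
    have hra : ¬ r₂ * a = a * r₂ := by
      intro h2
      apply hqa
      have h3 := mem_centralizer_iff.1 h1 a haU
      -- `a (r₂ q) = r₂ q a`
      have h4 : r₂ * (a * q) = r₂ * (q * a) := by
        rw [← mul_assoc, h2, mul_assoc, h3, mul_assoc]
      have h5 := mul_left_cancel h4
      rw [← h5, mul_inv_cancel_right]
    -- `a` maps `R j` to `R m`
    have haQ : a ∈ QQ (R o) := hU₁Q haU
    have haV : a ∈ normalizer (V : Set G) := b.Q_le_NV o haQ
    obtain ⟨l, hl⟩ := b.perm a haV j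
    have hlj : l ≠ j := by
      rintro rfl
      apply hra
      have h2 : a * r₂ * a⁻¹ ∈ R l := by rw [← hl]; exact conj_mem_cj hr₂j
      have h3 : a * r₂ * a⁻¹ ≠ 1 := fun h => hr₂1 (conj_eq_one_iff.1 h)
      have h4 := eq_of_card_two (b.card_R l) hr₂j hr₂1 h2 h3
      rw [mul_inv_eq_iff_eq_mul] at h4
      exact h4.symm
    have hlo : l ≠ o := by
      rintro rfl
      exact hj (b.R_index (cj_injective (hl.trans (cj_eq_self_iff.2 (b.Q_le l haQ)).symm)))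
    intro x hx
    obtain ⟨s, hs, ex⟩ := hBS x hx
    -- `[x, a] ∈ R o`
    have h2 : x * a * x⁻¹ * a⁻¹ ∈ R o := by
      have h3 := conj_mem_of_normalizer hk'N (comm_mem_R b (b.S_V hs) (b.S_R hs) (b.R_le j hr₂j))
      have e : x * a * x⁻¹ * a⁻¹ = k' * (s * r₂ * s⁻¹ * r₂⁻¹) * k'⁻¹ := by rw [ex, ha]; group
      rw [e]; exact h3
    have h3 : x ∈ QQ (R l) := by
      have h4 : a * x * a⁻¹ ∈ QQ (R l) := by
        have h5 : a * x * a⁻¹ ∈ ZQ R l := by
          rw [← cj_ZQ b.toBT hl]; exact conj_mem_cj hx.1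
        exact ZQ_le l h5
      have e : x = (x * a * x⁻¹ * a⁻¹) * (a * x * a⁻¹) := by group
      rw [e]
      exact mul_mem (b.V_Q l (b.R_le o h2)) h4
    exact ZQ_Q b.toBTS (Ne.symm hlj) hx.1 h3
  -- `z₁^σ ∈ B`
  obtain ⟨σ, hσ, eσ⟩ := b.trans m (Ne.symm hm) hjm
  have hσQ := b.W_le_Q m hσ
  have hσV : σ ∈ normalizer (V : Set G) := b.Q_le_NV m hσQ
  have h1 := ZQ_swap b.toBTS h (Ne.symm hj) hσQ eσ hz₁Q hz₁z₁
  have h2 : σ * z₁ * σ⁻¹ ∈ B := by
    refine ⟨?_, ?_⟩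
    · rw [← cj_ZQ b.toBT eσ]; exact conj_mem_cj hz₁Q
    · exact mem_centralizer_singleton_iff.2 h1.symm
  obtain ⟨a, ha, h3⟩ := key _ h2
  -- `z₁ ∈ R o C_X`
  have h4 : σ⁻¹ * a * σ ∈ R o := by
    rw [← eσ] at ha
    exact mem_cj.1 ha
  have h5 : σ⁻¹ * a * σ * z₁ ∈ CenX V R := by
    have h6 := conj_inv_mem_of_normalizer (b.NV_le_NCenX hσV) h3
    have e : σ⁻¹ * (a * (σ * z₁ * σ⁻¹)) * σ = σ⁻¹ * a * σ * z₁ := by group
    rwa [e] at h6
  -- `Z(Q j)` centralises `z₁`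
  have h6 : ZQ R j ≤ B := by
    intro x hx
    refine ⟨hx, mem_centralizer_singleton_iff.2 ?_⟩
    have h7 : σ⁻¹ * a * σ * x = x * (σ⁻¹ * a * σ) := mem_centralizer_iff.1 (ZQ_le_cen b.toBT j hx) _ (b.R_le o h4)
    have h8 : σ⁻¹ * a * σ * z₁ * x = x * (σ⁻¹ * a * σ * z₁) := cenX_Q b.toBTS (h j) h5 (ZQ_le j hx)
    have h9 : σ⁻¹ * a * σ * (z₁ * x) = σ⁻¹ * a * σ * (x * z₁) := by
      rw [← mul_assoc, h8, ← mul_assoc, ← h7, mul_assoc]
    exact (mul_left_cancel h9).symm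
  exact ZQ_not_RC b.toBTS h hzX hz1 j fun l hl => key l (h6 hl)

end two

end Cfsg.Agent.Omega.HT.AlphaOne

end

section


/-!
# II.0h1, `q = 2`, over `T`: the module `Y` of ALPHA in the product case (fill-in `(Z12)` of #18272)

`C = C_G(y)`, `T ≤ C` a 2-group of index at most 2 in every 2-group containing it (not necessarily Sylow in `C`),
`r, v ∈ Z(T)`, `O₂(C) ≤ T`; `T` is Sylow in `C_G(v)`; `E ≤ C` normalises an elementary abelian group `A ∋ v` and is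
transitive on `A#`; the involutions of `Z(T)` are `g` or `v g`, `g` centralised by `E`. Then
`Y = ⟨r^C⟩ ⟨v^C⟩ ≤ Z(O₂(C))` and `O₂(C / C_C(Y)) = 1`: `exists_Y`.
-/

set_option autoImplicit false

namespace Cfsg.Agent.Omega.HT.FillY

open Subgroup Cfsg Cfsg.Agent Cfsg.Agent.ZN Cfsg.Agent.MinSimple.VModule
open Cfsg.Agent.MinSimple.Basic Cfsg.Agent.Omega.BTwo Cfsg.Agent.Omega.HT.TComp
open Cfsg.Agent.Omega.HOneTwo (cl cj_le_cl le_cl le_normalizer_cl cl_le)

variable {G : Type*} [Group G]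

theorem le_sup_of_pow [Finite G] {X S D K : Subgroup G} (hS : IsPGroup 2 S)
    (hSs : ¬ 2 ∣ S.relIndex X) (hDX : D ≤ X) (hD : X ≤ normalizer (D : Set G))
    (hK : X ≤ normalizer (K : Set G)) (h : ∀ x ∈ D, ∃ k : ℕ, x ^ 2 ^ k ∈ K) : D ≤ K ⊔ (S ⊓ D) := by
  have hf : Fact (Nat.Prime 2) := ⟨Nat.prime_two⟩
  have h1 : IsPGroup 2 (S.subgroupOf X) := hS.comap_of_injective _ X.subtype_injective
  have hn : (D.subgroupOf X).Normal := normal_subgroupOf_of_le_normalizer hD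
  have hn2 : ((X ⊓ K).subgroupOf X).Normal := by
    refine normal_subgroupOf_of_le_normalizer ?_
    intro x hx
    rw [← cj_eq_self_iff, cj_inf, cj_eq_self_iff.2 (hK hx), cj_eq_self_iff.2 (le_normalizer hx)]
  have h2 := Lib.SylowNormalInf.le_sup_inf (h1.toSylow hSs : Sylow 2 X)
    (D.subgroupOf X) ((X ⊓ K).subgroupOf X) (fun x hx => by
      obtain ⟨k, hk⟩ := h x hx
      exact ⟨k, (x ^ 2 ^ k).2, hk⟩)
  have h3 := Subgroup.map_mono (f := X.subtype) h2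
  rw [subgroupOf_map_subtype, inf_eq_left.mpr hDX, Subgroup.map_sup, subgroupOf_map_subtype] at h3
  refine h3.trans (sup_le_sup (inf_le_left.trans inf_le_right) ?_)
  rintro _ ⟨x, hx, rfl⟩
  exact hx

/-- elements of `K ⊔ H`, `H` normalising `K` -/
theorem exists_mul {K H : Subgroup G} (h : H ≤ normalizer (K : Set G)) {x : G} (hx : x ∈ K ⊔ H) :
    ∃ k ∈ K, ∃ s ∈ H, x = k * s := by
  let W : Subgroup G :=
    { carrier := {x | ∃ k ∈ K, ∃ s ∈ H, x = k * s}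
      one_mem' := ⟨1, K.one_mem, 1, H.one_mem, (one_mul 1).symm⟩
      mul_mem' := by
        rintro _ _ ⟨k, hk, s, hs, rfl⟩ ⟨k', hk', s', hs', rfl⟩
        refine ⟨k * (s * k' * s⁻¹), K.mul_mem hk (conj_mem_of_normalizer (h hs) hk'), s * s',
          H.mul_mem hs hs', ?_⟩
        group
      inv_mem' := by
        rintro _ ⟨k, hk, s, hs, rfl⟩
        refine ⟨s⁻¹ * k⁻¹ * s⁻¹⁻¹, conj_mem_of_normalizer (h (H.inv_mem hs)) (K.inv_mem hk), s⁻¹,
          H.inv_mem hs, ?_⟩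
        group }
  have h1 : K ⊔ H ≤ W := sup_le (fun k hk => ⟨k, hk, 1, H.one_mem, (mul_one k).symm⟩)
    (fun s hs => ⟨1, K.one_mem, s, hs, (one_mul s).symm⟩)
  exact h1 hx

theorem inv_mul_mem [Finite G] {T L : Subgroup G} (h : T.relIndex L ≤ 2) {a b : G} (ha : a ∈ L) (hb : b ∈ L)
    (ha' : a ∉ T) (hb' : b ∉ T) : a⁻¹ * b ∈ T := by
  have h0 : T.relIndex L ≠ 0 := Nat.card_pos.ne'
  have h1 : T.relIndex L = 1 ∨ T.relIndex L = 2 := by omega
  rcases h1 with h1 | h1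
  · exact absurd (relIndex_eq_one.1 h1 ha) ha'
  · have h2 : (T.subgroupOf L).index = 2 := h1
    have h3 := (Subgroup.mul_mem_iff_of_index_two h2 (a := (⟨a, ha⟩ : L)⁻¹) (b := ⟨b, hb⟩)).2 ?_
    · exact h3
    · rw [inv_mem_iff]
      exact ⟨fun h => absurd h ha', fun h => absurd h hb'⟩

/-- the core: every normal `B ≤ C` whose squares centralise `Y` centralises `r` and `v` -/
theorem core [Finite G] {C T A E Y B : Subgroup G} {r v : G} (hT : IsPGroup 2 T) (hTC : T ≤ C)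
    (h2 : ∀ L : Subgroup G, IsPGroup 2 L → T ≤ L → T.relIndex L ≤ 2)
    (hTr : ∀ t ∈ T, t * r = r * t) (hTv : ∀ t ∈ T, t * v = v * t)
    (hodd : ¬ 2 ∣ T.relIndex (centralizer ({v} : Set G)))
    (hvA : v ∈ A) (hA2 : ∃ a ∈ A, a ≠ 1 ∧ a ≠ v) (hTA : ∀ t ∈ T, ∀ a ∈ A, t * a * t⁻¹ ∈ A)
    (hEC : E ≤ C) (hEA : ∀ e ∈ E, ∀ a ∈ A, e * a * e⁻¹ ∈ A)
    (hE : ∀ a ∈ A, a ≠ 1 → ∃ e ∈ E, e * v * e⁻¹ = a)
    (hz : ∀ f ∈ T, (∀ t ∈ T, t * f = f * t) → f * f = 1 → ∃ g, (∀ e ∈ E, e * g = g * e) ∧ (f = g ∨ f = v * g))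
    (hYT : Y ≤ T) (hY2 : ∀ x ∈ Y, x * x = 1) (hCY : C ≤ normalizer (Y : Set G))
    (hrY : r ∈ Y) (hvY : v ∈ Y)
    (hBC : B ≤ C) (hCB : C ≤ normalizer (B : Set G)) (hB : ∀ b ∈ B, ∀ n ∈ Y, b * b * n = n * (b * b)) :
    ∀ b ∈ B, b * r = r * b ∧ b * v = v * b := by
  have hnor : ∀ c ∈ C, ∀ n ∈ Y, c * n * c⁻¹ ∈ Y := fun c hc n hn => conj_mem_of_normalizer (hCY hc) hn
  have hnB : ∀ c ∈ C, ∀ n ∈ B, c * n * c⁻¹ ∈ B := fun c hc n hn => conj_mem_of_normalizer (hCB hc) hn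
  have comm : ∀ x ∈ Y, ∀ y ∈ Y, x * y = y * x := by
    intro x hx y hy
    have h1 := hY2 _ (Y.mul_mem hx hy)
    rw [eq_inv_of_mul_eq_one_left h1, mul_inv_rev, inv_eq_of_mul_eq_one_left (hY2 x hx),
      inv_eq_of_mul_eq_one_left (hY2 y hy)]
  have hAY : A ≤ Y := by
    intro a ha
    by_cases h1 : a = 1
    · rw [h1]; exact Y.one_mem
    · obtain ⟨e, he, rfl⟩ := hE a ha h1
      exact hnor e (hEC he) v hvY
  have hK : C ≤ normalizer (centralizer (Y : Set G) : Set G) :=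
    hCY.trans (normalizer_le_normalizer_centralizer _)
  have hBK : ∀ x ∈ B, ∃ k : ℕ, x ^ 2 ^ k ∈ centralizer (Y : Set G) := by
    intro x hx
    refine ⟨1, ?_⟩
    rw [pow_one, pow_two, mem_centralizer_iff]
    exact fun n hn => (hB x hx n hn).symm
  -- (I)
  obtain ⟨L, hTL, hLC, hLp, hLo⟩ := exists_syl hT hTC
  have hTL2 := h2 L hLp hTL
  let F : G → Prop := fun b => ∃ k ∈ centralizer (Y : Set G), ∃ t ∈ T, b = k * t
  have hF1 : ∀ x ∈ B, ∀ y ∈ B, ¬ F x → ¬ F y → F (x⁻¹ * y) := by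
    have h3 := le_sup_of_pow hLp hLo hBC hCB hK hBK
    have h4 : ∀ x ∈ B, ∃ k ∈ centralizer (Y : Set G), ∃ s ∈ L ⊓ B, x = k * s := fun x hx =>
      exists_mul ((inf_le_left.trans hLC).trans hK) (h3 hx)
    intro x hx y hy hFx hFy
    obtain ⟨k, hk, s, hs, rfl⟩ := h4 x hx
    obtain ⟨k', hk', s', hs', rfl⟩ := h4 y hy
    have h5 : s⁻¹ * s' ∈ T := inv_mul_mem hTL2 hs.1 hs'.1 (fun h => hFx ⟨k, hk, s, h, rfl⟩)
      (fun h => hFy ⟨k', hk', s', h, rfl⟩)
    refine ⟨s⁻¹ * (k⁻¹ * k') * s⁻¹⁻¹, conj_mem_of_normalizer (hK (hLC (L.inv_mem hs.1)))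
      (mul_mem (inv_mem hk) hk'), s⁻¹ * s', h5, by group⟩
  have hF2 : ∀ x, F x → x * v = v * x := by
    rintro _ ⟨k, hk, t, ht, rfl⟩
    have h3 := mem_centralizer_iff.1 hk v hvY
    rw [mul_assoc, hTv t ht, ← mul_assoc, ← h3, mul_assoc]
  -- (II)
  have hBv : ∀ b ∈ B, b * v = v * b := by
    by_contra hcon
    push Not at hcon
    obtain ⟨b, hb, hbv⟩ := hcon
    have hFb : ¬ F b := fun h => hbv (hF2 b h)
    obtain ⟨w, hw⟩ : ∃ w, w = b * v * b⁻¹ := ⟨_, rfl⟩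
    have hwv : w ≠ v := by
      intro h
      apply hbv
      rw [hw] at h
      exact mul_inv_eq_iff_eq_mul.1 h
    have hwY : w ∈ Y := by rw [hw]; exact hnor b (hBC hb) v hvY
    -- elements of `B` move `v` to `w` or fix `v`
    have hmove : ∀ x ∈ B, ¬ F x → x * v * x⁻¹ = w := by
      intro x hx hFx
      have h3 := hF2 _ (hF1 b hb x hx hFb hFx)
      have h4 : x = b * (b⁻¹ * x) := by group
      rw [h4, hw]
      calc b * (b⁻¹ * x) * v * (b * (b⁻¹ * x))⁻¹ = b * ((b⁻¹ * x) * v) * (b⁻¹ * x)⁻¹ * b⁻¹ := by group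
        _ = b * v * b⁻¹ := by rw [h3]; group
    have hfix : ∀ x ∈ B, x * v * x⁻¹ = v ∨ x * v * x⁻¹ = w := by
      intro x hx
      by_cases h : F x
      · left; rw [hF2 x h]; group
      · right; exact hmove x hx h
    obtain ⟨c, hc⟩ : ∃ c, c = v * w := ⟨_, rfl⟩
    have hcY : c ∈ Y := by rw [hc]; exact Y.mul_mem hvY hwY
    have hc1 : c ≠ 1 := by
      intro h
      apply hwv
      rw [hc] at h
      have h3 := eq_inv_of_mul_eq_one_right h
      rw [h3, inv_eq_of_mul_eq_one_left (hY2 v hvY)]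
    have hcT : ∀ t ∈ T, t * c = c * t := by
      intro t ht
      have h3 : t * w * t⁻¹ = w := by
        have h4 : t * w * t⁻¹ = (t * b * t⁻¹) * v * (t * b * t⁻¹)⁻¹ := by
          have h5 : t⁻¹ * v * t = v := by
            rw [mul_assoc, ← hTv t ht]; group
          rw [hw]
          calc t * (b * v * b⁻¹) * t⁻¹ = t * b * v * b⁻¹ * t⁻¹ := by group
            _ = t * b * (t⁻¹ * v * t) * b⁻¹ * t⁻¹ := by rw [h5]
            _ = _ := by group
        rcases hfix _ (hnB t (hTC ht) b hb) with h5 | h5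
        · exfalso
          rw [h5] at h4
          apply hwv
          have h6 : w = t⁻¹ * (t * w * t⁻¹) * t := by group
          rw [h6, h4, mul_assoc, ← hTv t ht]; group
        · rw [h4, h5]
      rw [hc, ← mul_assoc, hTv t ht, mul_assoc, mul_inv_eq_iff_eq_mul.1 h3]; group
    obtain ⟨g, hgE, hg⟩ := hz c (hYT hcY) hcT (hY2 c hcY)
    -- the pattern on `A`
    have hpat : ∀ x ∈ B, ∀ e ∈ E, x * (e * v * e⁻¹) * x⁻¹ = e * v * e⁻¹ ∨
        x * (e * v * e⁻¹) * x⁻¹ = e * w * e⁻¹ := by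
      intro x hx e he
      have h3 : x * (e * v * e⁻¹) * x⁻¹ = e * ((e⁻¹ * x * e⁻¹⁻¹) * v * (e⁻¹ * x * e⁻¹⁻¹)⁻¹) * e⁻¹ := by group
      rcases hfix _ (hnB e⁻¹ (C.inv_mem (hEC he)) x hx) with h4 | h4
      · left; rw [h3, h4]
      · right; rw [h3, h4]
    obtain ⟨a, ha, ha1, hav⟩ := hA2
    have hvv := hY2 v hvY
    rcases hg with hg | hg
    · -- `c = g` is centralised by `E`
      have hcE : ∀ e ∈ E, e * c * e⁻¹ = c := fun e he => by rw [hg, hgE e he]; group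
      have hwc : w = v * c := by rw [hc, ← mul_assoc, hvv, one_mul]
      have hpat' : ∀ x ∈ B, ∀ y ∈ A, x * y * x⁻¹ = y ∨ x * y * x⁻¹ = y * c := by
        intro x hx y hy
        by_cases hy1 : y = 1
        · left; rw [hy1]; group
        · obtain ⟨e, he, rfl⟩ := hE y hy hy1
          rcases hpat x hx e he with h3 | h3
          · exact Or.inl h3
          · right
            rw [h3, hwc]
            calc e * (v * c) * e⁻¹ = (e * v * e⁻¹) * (e * c * e⁻¹) := by group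
              _ = _ := by rw [hcE e he]
      -- `x ∈ A#`, `x ≠ v`, fixed by `b`
      obtain ⟨x, hxA, hx1, hxb⟩ : ∃ x ∈ A, x ≠ 1 ∧ b * x * b⁻¹ = x := by
        rcases hpat' b hb a ha with h3 | h3
        · exact ⟨a, ha, ha1, h3⟩
        · refine ⟨v * a, A.mul_mem hvA ha, ?_, ?_⟩
          · intro h
            apply hav
            have h4 := eq_inv_of_mul_eq_one_right h
            rw [h4, inv_eq_of_mul_eq_one_left hvv]
          · have h4 : b * (v * a) * b⁻¹ = (b * v * b⁻¹) * (b * a * b⁻¹) := by group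
            rw [h4, h3, ← hw, hwc, comm a (hAY ha) c hcY]
            calc v * c * (c * a) = v * (c * c) * a := by group
              _ = v * a := by rw [hY2 c hcY]; group
      obtain ⟨e, he, hxe⟩ := hE x hxA hx1
      have hb1 : e⁻¹ * b * e⁻¹⁻¹ ∈ B := hnB _ (C.inv_mem (hEC he)) b hb
      obtain ⟨b₁, hb₁⟩ : ∃ b₁, b₁ = e⁻¹ * b * e⁻¹⁻¹ := ⟨_, rfl⟩
      rw [← hb₁] at hb1
      have h5 : b₁ * v * b₁⁻¹ = v := by
        have h6 : b₁ * v * b₁⁻¹ = e⁻¹ * (b * (e * v * e⁻¹) * b⁻¹) * e := by rw [hb₁]; group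
        rw [h6, hxe, hxb, ← hxe]; group
      have hFb₁ : F b₁ := by
        by_contra h
        exact hwv ((hmove b₁ hb1 h).symm.trans h5)
      obtain ⟨k, hk, t, ht, hkt⟩ := hFb₁
      have huA : e⁻¹ * v * e⁻¹⁻¹ ∈ A := hEA _ (E.inv_mem he) v hvA
      obtain ⟨u, hu⟩ : ∃ u, u = e⁻¹ * v * e⁻¹⁻¹ := ⟨_, rfl⟩
      rw [← hu] at huA
      have h6 : b₁ * u * b₁⁻¹ = u * c := by
        have h7 : b₁ * u * b₁⁻¹ = e⁻¹ * (b * v * b⁻¹) * e := by rw [hb₁, hu]; group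
        rw [h7, ← hw, hwc, hu]
        have h8 := hcE _ (E.inv_mem he)
        calc e⁻¹ * (v * c) * e = e⁻¹ * v * e⁻¹⁻¹ * (e⁻¹ * c * e⁻¹⁻¹) := by group
          _ = _ := by rw [h8]
      have h7 : t * u * t⁻¹ = u * c := by
        have h8 := mem_centralizer_iff.1 hk _ (hAY (hTA t ht u huA))
        have h9 : b₁ * u * b₁⁻¹ = k * (t * u * t⁻¹) * k⁻¹ := by rw [hkt]; group
        rw [h9, ← h8] at h6
        rw [← h6]; group
      have hcA : c ∈ A := by
        have h8 := hTA t ht u huA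
        rw [h7] at h8
        exact (A.mul_mem_cancel_left huA).1 h8
      obtain ⟨e', he', h8⟩ := hE c hcA hc1
      have h9 : v = c := by
        have h10 := hcE _ (E.inv_mem he')
        rw [← h8] at h10
        rw [← h8]
        calc v = e'⁻¹ * (e' * v * e'⁻¹) * e'⁻¹⁻¹ := by group
          _ = _ := h10
      obtain ⟨e'', he'', h10⟩ := hE a ha ha1
      rw [h9, hcE _ he''] at h10
      exact hav (h10.symm.trans h9.symm)
    · -- `w = g` is centralised by `E`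
      have hwg : w = g := by
        rw [hc] at hg
        exact mul_left_cancel hg
      have hwE : ∀ e ∈ E, e * w * e⁻¹ = w := fun e he => by rw [hwg, hgE e he]; group
      obtain ⟨x, hxA, hx1, hxv, hxb⟩ : ∃ x ∈ A, x ≠ 1 ∧ x ≠ v ∧ b * x * b⁻¹ ≠ x := by
        by_cases h3 : b * a * b⁻¹ = a
        · refine ⟨v * a, A.mul_mem hvA ha, ?_, ?_, ?_⟩
          · intro h
            apply hav
            have h4 := eq_inv_of_mul_eq_one_right h
            rw [h4, inv_eq_of_mul_eq_one_left hvv]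
          · intro h
            exact ha1 (mul_eq_left.1 h)
          · intro h
            have h4 : b * (v * a) * b⁻¹ = (b * v * b⁻¹) * (b * a * b⁻¹) := by group
            rw [h4, h3, ← hw] at h
            exact hwv (mul_right_cancel h)
        · exact ⟨a, ha, ha1, hav, h3⟩
      obtain ⟨e, he, hxe⟩ := hE x hxA hx1
      rcases hpat b hb e he with h3 | h3
      · rw [hxe] at h3
        exact hxb h3
      · rw [hxe, hwE e he, hw] at h3
        have h4 : x = v := by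
          have h5 := mul_right_cancel h3
          exact mul_left_cancel h5
        exact hxv h4
  -- (III)
  have hBcv : B ≤ centralizer ({v} : Set G) := fun b hb => mem_centralizer_singleton_iff.2 (hBv b hb)
  have hTcv : T ≤ centralizer ({v} : Set G) := fun t ht => mem_centralizer_singleton_iff.2 (hTv t ht)
  have hX : B ⊔ T ≤ centralizer ({v} : Set G) := sup_le hBcv hTcv
  have hXC : B ⊔ T ≤ C := sup_le hBC hTC
  have hXo : ¬ 2 ∣ T.relIndex (B ⊔ T) := by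
    intro h
    apply hodd
    rw [← relIndex_mul_relIndex T (B ⊔ T) _ le_sup_right hX]
    exact Dvd.dvd.mul_right h _
  have h3 := le_sup_of_pow hT hXo le_sup_left (hXC.trans hCB) (hXC.trans hK) hBK
  intro b hb
  refine ⟨?_, hBv b hb⟩
  obtain ⟨k, hk, t, ht, rfl⟩ := exists_mul ((inf_le_left.trans hTC).trans hK) (h3 hb)
  rw [mul_assoc, hTr t ht.1, ← mul_assoc, ← mem_centralizer_iff.1 hk r hrY, mul_assoc]

/-- **the module `Y` of ALPHA in the product case** -/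
theorem exists_Y [Finite G] (hG : IsCharacteristicTwoType G) {T A E : Subgroup G} {r v y : G}
    (hT : IsPGroup 2 T) (h2 : ∀ L : Subgroup G, IsPGroup 2 L → T ≤ L → T.relIndex L ≤ 2)
    (hyy : y * y = 1) (hy1 : y ≠ 1) (hTy : ∀ t ∈ T, t * y = y * t)
    (hrT : r ∈ T) (hrr : r * r = 1) (hr1 : r ≠ 1) (hTr : ∀ t ∈ T, t * r = r * t)
    (hvT : v ∈ T) (hvv : v * v = 1) (hTv : ∀ t ∈ T, t * v = v * t)
    (hodd : ¬ 2 ∣ T.relIndex (centralizer ({v} : Set G)))
    (hvA : v ∈ A) (hA2 : ∃ a ∈ A, a ≠ 1 ∧ a ≠ v) (hTA : ∀ t ∈ T, ∀ a ∈ A, t * a * t⁻¹ ∈ A)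
    (hEy : ∀ e ∈ E, e * y = y * e) (hEA : ∀ e ∈ E, ∀ a ∈ A, e * a * e⁻¹ ∈ A)
    (hE : ∀ a ∈ A, a ≠ 1 → ∃ e ∈ E, e * v * e⁻¹ = a)
    (hz : ∀ f ∈ T, (∀ t ∈ T, t * f = f * t) → f * f = 1 → ∃ g, (∀ e ∈ E, e * g = g * e) ∧ (f = g ∨ f = v * g))
    (ho : o2 (centralizer ({y} : Set G)) ≤ T) :
    ∃ Y ≤ centralizer ({y} : Set G), GSysW (centralizer ({y} : Set G)) Y r := by
  obtain ⟨C, hC⟩ : ∃ C, C = centralizer ({y} : Set G) := ⟨_, rfl⟩
  have hTC : T ≤ C := by rw [hC]; exact fun t ht => mem_centralizer_singleton_iff.2 (hTy t ht)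
  have hEC : E ≤ C := by rw [hC]; exact fun t ht => mem_centralizer_singleton_iff.2 (hEy t ht)
  have hloc : TLoc T C := by rw [hC]; exact TLoc.centralizer (by rw [pow_two]; exact hyy) hy1 (hC ▸ hTC)
  rw [← hC] at ho ⊢
  have key : ∀ x ∈ T, x * x = 1 → (∀ t ∈ T, t * x = x * t) → x ∈ zc (o2 C) := by
    intro x hx hxx hxT
    have h2 : x ∈ centralizer (o2 C : Set G) := mem_centralizer_iff.2 fun s hs => hxT s (ho hs)
    have h3 : x ∈ o2 C := hloc.char2 hG ⟨hTC hx, h2⟩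
    exact ZN.mem_zc.2 ⟨h3, fun c hc => mem_centralizer_iff.1 h2 c hc, by rw [pow_two]; exact hxx⟩
  have hCz : C ≤ normalizer (zc (o2 C) : Set G) :=
    (Cfsg.Agent.ZN.le_normalizer_o2 _).trans (ZN.normalizer_le_normalizer_zc _)
  have hcl : ∀ x : G, x ∈ zc (o2 C) → cl (zpowers x) C ≤ zc (o2 C) := fun x hx =>
    cl_le (by rw [zpowers_le]; exact hx) hCz
  obtain ⟨Y, hY⟩ : ∃ Y, Y = cl (zpowers r) C ⊔ cl (zpowers v) C := ⟨_, rfl⟩
  have hYz : Y ≤ zc (o2 C) := by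
    rw [hY]
    exact sup_le (hcl r (key r hrT hrr hTr)) (hcl v (key v hvT hvv hTv))
  have hrY : r ∈ Y := by
    rw [hY]; exact mem_sup_left (le_cl _ _ (mem_zpowers r))
  have hvY : v ∈ Y := by
    rw [hY]; exact mem_sup_right (le_cl _ _ (mem_zpowers v))
  have hCY : C ≤ normalizer (Y : Set G) := by
    rw [hY]
    intro c hc
    rw [← cj_eq_self_iff, cj_sup, cj_eq_self_iff.2 (le_normalizer_cl _ _ hc),
      cj_eq_self_iff.2 (le_normalizer_cl _ _ hc)]
  have hYo : Y ≤ o2 C := hYz.trans (ZN.zc_le _)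
  have hsq : ∀ x ∈ Y, x * x = 1 := fun x hx => by rw [← pow_two]; exact (ZN.mem_zc.1 (hYz hx)).2.2
  have hnor : ∀ c ∈ C, ∀ n ∈ Y, c * n * c⁻¹ ∈ Y := fun c hc n hn => conj_mem_of_normalizer (hCY hc) hn
  refine ⟨Y, hYo.trans (ZN.o2_le _), hsq, hnor, hrY, hr1, ?_⟩
  intro U hU hCU c hc h1 h2'
  refine chain_of_core hsq hnor ?_ hU hCU hc h1 h2'
  intro B hBC hn hB
  have hCB : C ≤ normalizer (B : Set G) := fun c hc => by
    rw [mem_normalizer_iff]
    intro x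
    refine ⟨fun hx => hn c hc x hx, fun hx => ?_⟩
    have h3 := hn _ (C.inv_mem hc) _ hx
    have e : c⁻¹ * (c * x * c⁻¹) * c⁻¹⁻¹ = x := by group
    rwa [e] at h3
  have h3 := core hT hTC h2 hTr hTv hodd hvA hA2 hTA hEC hEA hE hz (hYo.trans ho) hsq hCY hrY hvY
    hBC hCB hB
  have h4 : Y ≤ centralizer (B : Set G) := by
    have h5 : C ≤ normalizer (centralizer (B : Set G) : Set G) :=
      hCB.trans (normalizer_le_normalizer_centralizer _)
    rw [hY]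
    refine sup_le (cl_le ?_ h5) (cl_le ?_ h5)
    · rw [zpowers_le, mem_centralizer_iff]
      exact fun b hb => (h3 b hb).1
    · rw [zpowers_le, mem_centralizer_iff]
      exact fun b hb => (h3 b hb).2
  exact fun b hb n hn => mem_centralizer_iff.1 (h4 hn) b hb

end Cfsg.Agent.Omega.HT.FillY

end
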