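import Cfsg.Agent.Mrg.Omega.HOneTwo.TransSide
import Cfsg.Agent.Mrg.Omega.BTwo.Split

section


/-!
# II.0h1, `q = 2`, after the transvection statement: RESULT A of #15507

* `TS.zt_act`: elements of `Z(Q p)` act on `U` as `1` or as `t p`;
* `TS.lemmaL`; `TS.conn` (5): the graph on `Δ` is connected;
* `TS.mul_mem`, `TS.mul_z_mem`, `TS.mem_U_iff`, `TS.mem_U0_iff`, `TS.C_U`.
-/

set_option autoImplicit false
set_option linter.unusedSectionVars false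

namespace Cfsg.Agent.Omega.HOneTwo.Trans

open Subgroup

universe u

variable {G : Type u} [Group G]

namespace TS

variable (D : TS G)

/-- `φ p u` -/
noncomputable abbrev φ (p u : G) : ZMod 2 := D.Ms.φ p u

theorem φ_eq_zero_iff {p u : G} : D.φ p u = 0 ↔ u ∈ D.Q p := by
  show D.Ms.φ p u = 0 ↔ u ∈ D.Q p
  unfold Side.φ
  by_cases h : u ∈ D.Q p
  · rw [if_pos (show u ∈ D.Ms.K p from h)]; exact ⟨fun _ => h, fun _ => rfl⟩
  · rw [if_neg (show u ∉ D.Ms.K p from h)]; exact ⟨fun h' => absurd h' one_ne_zero, fun h' => absurd h' h⟩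

theorem mem_A {g : G} : g ∈ D.Ms.A ↔ g ∈ D.M := Iff.rfl

theorem r0_Δ : D.r 0 ∈ D.Δ := self_mem_Dl _ _

theorem pw_zz (x : G) (hx : x * x = 1) (c : ZMod 2) : pw x c * pw x c = 1 := by
  rw [← pw_add hx]
  have : c + c = 0 := by rcases zmod_cases c with rfl | rfl <;> decide
  rw [this, pw_zero]

/-- `Z(Q₁)` acts on `U` as `⟨t (r 0)⟩` -/
theorem zt_act0 {g : G} (hg : g ∈ zt (D.Q (D.r 0))) : (∀ u ∈ D.U, g * u * g⁻¹ = u) ∨
    ∀ u ∈ D.U, g * u * g⁻¹ = u * pw (D.r 0 * D.z) (D.φ (D.r 0) u) := by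
  have hg' := mem_zt.1 hg
  have hgA : g ∈ D.Ms.A := D.Q_M hg'.1
  have hr : D.r 0 ∈ D.Ms.Δ := D.r0_Δ
  obtain ⟨v, hv, hv1⟩ := D.Ms.exists_nbr hr
  have hvU : v ∈ D.U := D.Ms.Δ_le hv
  have hgv : g * v * g⁻¹ ∈ D.U := D.Ms.U_conj g hgA v hvU
  set a := g * v * g⁻¹ * v⁻¹ with ha
  have haU : a ∈ D.U := mul_mem hgv (inv_mem hvU)
  have act0 : ∀ u ∈ D.U, D.φ (D.r 0) u = 0 → g * u * g⁻¹ = u := by
    intro u _ h0
    exact conj_of_comm (hg'.2 u (D.φ_eq_zero_iff.1 h0))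
  have act : ∀ u ∈ D.U, g * u * g⁻¹ = u * pw a (D.φ (D.r 0) u) := by
    intro u hu
    rcases zmod_cases (D.φ (D.r 0) u) with h | h
    · rw [act0 u hu h, h, pw_zero, mul_one]
    · have hvu : v⁻¹ * u ∈ D.U := mul_mem (inv_mem hvU) hu
      have h0 : D.φ (D.r 0) (v⁻¹ * u) = 0 := by
        rw [D.Ms.U_inv hvU]
        show D.Ms.φ (D.r 0) (v * u) = 0
        rw [D.Ms.φ_mul hr hvU hu, hv1, show D.Ms.φ (D.r 0) u = 1 from h]
        decide
      rw [h, pw_one]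
      calc g * u * g⁻¹ = (g * v * g⁻¹) * (g * (v⁻¹ * u) * g⁻¹) := by group
        _ = a * v * (v⁻¹ * u) := by rw [act0 _ hvu h0, ha]; group
        _ = a * u := by group
        _ = u * a := D.U_comm haU hu
  -- the functional `φ q a`
  have e0 : ∀ q ∈ D.Δ, D.φ (D.r 0) q = 0 → D.φ q a = 0 := by
    intro q hq h0
    have hqU : q ∈ D.U := D.Ms.Δ_le hq
    have h1 := D.Ms.φ_conj hgA hq hvU
    rw [act0 q hqU h0, act v hvU, show D.φ (D.r 0) v = 1 from hv1, pw_one] at h1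
    rw [D.Ms.φ_mul hq hvU haU] at h1
    exact left_eq_add.1 h1.symm
  have e1 : ∀ q ∈ D.Δ, D.φ (D.r 0) q = 1 → D.φ q a = D.φ v a := by
    intro q hq h1
    have hqU : q ∈ D.U := D.Ms.Δ_le hq
    have hq' : g * q * g⁻¹ ∈ D.Ms.Δ := D.Ms.Δ_conj g hgA q hq
    have h2 := D.Ms.φ_conj hgA hq hvU
    rw [act q hqU, h1, pw_one] at hq'
    rw [act q hqU, h1, pw_one, act v hvU, show D.φ (D.r 0) v = 1 from hv1, pw_one,
      D.Ms.φ_mul hq' hvU haU, D.Ms.symm hq' hv, D.Ms.φ_mul hv hqU haU, D.Ms.symm hv hq] at h2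
    -- `φ (q a) a = φ q a`
    have h3 : D.Ms.φ (q * a) a = D.Ms.φ q a := by
      have h4 : D.Ms.φ (q * a) a = D.Ms.φ (q * a) q := by
        have h5 := D.Ms.φ_mul hq' hqU haU
        rw [D.Ms.φ_self hq'] at h5
        rcases zmod_cases (D.Ms.φ (q * a) a) with h6 | h6 <;> rcases zmod_cases (D.Ms.φ (q * a) q) with h7 | h7 <;>
          rw [h6, h7] at h5 ⊢ <;> revert h5 <;> decide
      rw [h4, D.Ms.symm hq' hq, D.Ms.φ_mul hq hqU haU, D.Ms.φ_self hq, zero_add]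
    rw [h3] at h2
    show D.Ms.φ q a = D.Ms.φ v a
    rcases zmod_cases (D.Ms.φ q a) with h6 | h6 <;> rcases zmod_cases (D.Ms.φ v a) with h7 | h7 <;>
      rcases zmod_cases (D.Ms.φ q v) with h8 | h8 <;> rw [h6, h7, h8] at h2 <;> rw [h6, h7] <;> revert h2 <;> decide
  rcases zmod_cases (D.φ v a) with hc | hc
  · -- `a ∈ U₀`
    have haU0 : a ∈ D.Ms.U0 := by
      refine ⟨haU, fun q hq => ?_⟩
      rcases zmod_cases (D.φ (D.r 0) q) with h | h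
      · exact e0 q hq h
      · exact (e1 q hq h).trans hc
    left
    intro u hu
    have hker : g ∈ D.Ms.Ker := by
      refine ⟨hgA, fun w hw => ?_, fun w hw => ?_⟩
      · rw [act w hw]
        have h2 : pw a (D.φ (D.r 0) w) ∈ D.Ms.U0 := by
          rcases zmod_cases (D.φ (D.r 0) w) with h | h <;> rw [h]
          · rw [pw_zero]; exact one_mem _
          · rw [pw_one]; exact haU0
        rw [D.U_comm hw h2.1, mul_inv_cancel_right]
        exact h2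
      · exact act0 w hw.1 (hw.2 _ hr)
    exact conj_of_comm (D.Ms.ker_comm D.Ms_O2 hker hu)
  · -- `r₀ a ∈ U₀`
    right
    have hra : a * D.r 0 ∈ D.Ms.U0 := by
      refine ⟨mul_mem haU (D.r_mem 0), fun q hq => ?_⟩
      rw [D.Ms.φ_mul hq haU (D.r_mem 0), D.Ms.symm hq hr]
      rcases zmod_cases (D.φ (D.r 0) q) with h | h
      · rw [show D.Ms.φ (D.r 0) q = 0 from h, show D.Ms.φ q a = 0 from e0 q hq h, add_zero]
      · rw [show D.Ms.φ (D.r 0) q = 1 from h, show D.Ms.φ q a = 1 from (e1 q hq h).trans hc]; decide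
    have hφa : D.φ (D.r 0) a = 0 := e0 _ hr (D.Ms.φ_self hr)
    have hb : D.r 0 * D.z * a ∈ D.Ms.U0 := by
      have e : D.r 0 * D.z * a = (a * D.r 0) * D.z := by
        rw [D.U_comm (mul_mem (D.r_mem 0) D.z_mem) haU]
        exact (mul_assoc _ _ _).symm
      rw [e]
      exact mul_mem hra D.Ms.z_U0
    -- `t g`
    have key : ∀ u ∈ D.U, D.Ms.t (D.r 0) * g * u * (D.Ms.t (D.r 0) * g)⁻¹ =
        u * pw (D.r 0 * D.z * a) (D.φ (D.r 0) u) := by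
      intro u hu
      have e : D.Ms.t (D.r 0) * g * u * (D.Ms.t (D.r 0) * g)⁻¹ =
          D.Ms.t (D.r 0) * (g * u * g⁻¹) * (D.Ms.t (D.r 0))⁻¹ := by group
      have hm : u * pw a (D.φ (D.r 0) u) ∈ D.Ms.U := mul_mem hu (D.Ms.pw_mem haU _)
      rw [e, act u hu, D.Ms.t_act hr hm, D.Ms.φ_mul hr hu (D.Ms.pw_mem haU _), D.Ms.φ_pw hr,
        show D.Ms.φ (D.r 0) a = 0 from hφa, mul_zero, add_zero, mul_assoc]
      congr 1
      rcases zmod_cases (D.φ (D.r 0) u) with h | h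
      · rw [h, show D.Ms.φ (D.r 0) u = 0 from h]; simp
      · rw [h, show D.Ms.φ (D.r 0) u = 1 from h, pw_one, pw_one, pw_one]
        exact D.U_comm haU (D.Ms.pz_mem hr)
    have hker : D.Ms.t (D.r 0) * g ∈ D.Ms.Ker := by
      refine ⟨mul_mem (D.Ms.t_A hr) hgA, fun w hw => ?_, fun w hw => ?_⟩
      · rw [key w hw]
        have h2 : pw (D.r 0 * D.z * a) (D.φ (D.r 0) w) ∈ D.Ms.U0 := by
          rcases zmod_cases (D.φ (D.r 0) w) with h | h <;> rw [h]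
          · rw [pw_zero]; exact one_mem _
          · rw [pw_one]; exact hb
        rw [D.U_comm hw h2.1, mul_inv_cancel_right]
        exact h2
      · rw [key w hw.1, show D.φ (D.r 0) w = 0 from hw.2 _ hr, pw_zero, mul_one]
    have h3 := D.Ms.ker_comm D.Ms_O2 hker hvU
    have h4 := key v hvU
    rw [h3, mul_inv_cancel_right, show D.φ (D.r 0) v = 1 from hv1, pw_one] at h4
    have h5 : D.r 0 * D.z * a = 1 := mul_eq_left.mp h4.symm
    have h6 : a = D.r 0 * D.z := by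
      have h7 := D.Ms.pz_sq hr
      calc a = (D.r 0 * D.z * (D.r 0 * D.z)) * a := by
            rw [show D.r 0 * D.z * (D.r 0 * D.z) = 1 from h7, one_mul]
        _ = D.r 0 * D.z * (D.r 0 * D.z * a) := by group
        _ = D.r 0 * D.z := by rw [h5, mul_one]
    intro u hu
    rw [act u hu, h6]

/-- elements of `Z(Q p)`, `p ∈ Δ`, act on `U` as `1` or as `t p` -/
theorem zt_act {p g : G} (hp : p ∈ D.Δ) (hg : g ∈ zt (D.Q p)) : (∀ u ∈ D.U, g * u * g⁻¹ = u) ∨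
    ∀ u ∈ D.U, g * u * g⁻¹ = u * pw (p * D.z) (D.φ p u) := by
  obtain ⟨m, hm, rfl⟩ := hp
  have hmA : m ∈ D.Ms.A := hm
  have hg1 := D.zt_conj (g := m⁻¹) hg
  have e : m⁻¹ * (m * D.r 0 * m⁻¹) * m⁻¹⁻¹ = D.r 0 := by group
  rw [e, inv_inv] at hg1
  rcases D.zt_act0 hg1 with h | h
  · left
    intro u hu
    have h1 := h _ (gn_inv' hm hu)
    calc g * u * g⁻¹ = m * ((m⁻¹ * g * m) * (m⁻¹ * u * m) * (m⁻¹ * g * m)⁻¹) * m⁻¹ := by group
      _ = u := by rw [h1]; group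
  · right
    intro u hu
    have hu' := gn_inv' hm hu
    have h1 := h _ hu'
    have h2 := D.Ms.φ_conj hmA D.r0_Δ hu'
    have e2 : m * (m⁻¹ * u * m) * m⁻¹ = u := by group
    rw [e2] at h2
    have e3 : m * (D.r 0 * D.z) * m⁻¹ = m * D.r 0 * m⁻¹ * D.z := by
      calc m * (D.r 0 * D.z) * m⁻¹ = m * D.r 0 * m⁻¹ * (m * D.z * m⁻¹) := by group
        _ = _ := by rw [D.m_z hm]
    calc g * u * g⁻¹ = m * ((m⁻¹ * g * m) * (m⁻¹ * u * m) * (m⁻¹ * g * m)⁻¹) * m⁻¹ := by group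
      _ = u * (m * pw (D.r 0 * D.z) (D.φ (D.r 0) (m⁻¹ * u * m)) * m⁻¹) := by rw [h1]; group
      _ = _ := by
        rw [pw_conj, e3]
        show _ = u * pw (m * D.r 0 * m⁻¹ * D.z) (D.Ms.φ (m * D.r 0 * m⁻¹) u)
        rw [h2]

/-! ### (2) -/

theorem mul_C {x y : G} (hx : x ∈ D.C) (hxy : y * x ∈ D.C) : y ∈ D.C := by
  have := mul_mem hxy (inv_mem hx)
  rwa [mul_inv_cancel_right] at this

theorem exists_ne (i : Fin 3) : ∃ j : Fin 3, i ≠ j := by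
  revert i; decide

/-- `U ∩ Z(Q_i) ≤ ⟨r_i⟩ × C` -/
theorem two {i : Fin 3} {c : G} (hc : c ∈ D.U) (hcz : c ∈ zt (D.Q (D.r i))) : c ∈ D.C ∨ D.r i * c ∈ D.C := by
  obtain ⟨j, hij⟩ := exists_ne i
  have hj : D.r j ∈ D.Ms.Δ := D.r_Δ j
  rcases zmod_cases (D.φ (D.r j) c) with h | h
  · exact D.a i j hij c hcz (D.φ_eq_zero_iff.1 h)
  · exfalso
    have ht := D.Ms.t_mem hj
    have ht' : D.Ms.t (D.r j) ∈ zt (D.Q (D.r j)) := D.N_le_zt j ht
    have h1 := D.b i j hij c hcz _ ht'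
    have h2 := D.Ms.t_act hj hc
    rw [show D.Ms.φ (D.r j) c = 1 from h, pw_one] at h2
    have hp : D.r j * D.z ∈ D.U := D.Ms.pz_mem hj
    have h3 : c * D.Ms.t (D.r j) * c⁻¹ * (D.Ms.t (D.r j))⁻¹ = D.r j * D.z := by
      calc c * D.Ms.t (D.r j) * c⁻¹ * (D.Ms.t (D.r j))⁻¹
          = c * (D.Ms.t (D.r j) * c * (D.Ms.t (D.r j))⁻¹)⁻¹ := by group
        _ = c * (c * (D.r j * D.z))⁻¹ := by rw [h2]; rfl
        _ = (c * (D.r j * D.z) * c⁻¹)⁻¹ := by group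
        _ = (D.r j * D.z)⁻¹ := by rw [D.U_comm hc hp, mul_inv_cancel_right]
        _ = D.r j * D.z := D.Ms.U_inv hp
    rw [h3] at h1
    exact D.r_C j (D.mul_C D.z_C h1)

/-- **LEMMA L** -/
theorem lemmaL {c p : G} (hc : c ∈ D.U) (hcC : c ∈ D.C) (hp : p ∈ D.Δ) (h1 : D.φ p c = 1) : p ∈ D.C := by
  have hpU : p ∈ D.U := D.Ms.Δ_le hp
  have key : ∀ i, D.φ p (D.r i) = 0 → p ∈ zt (D.Q (D.r i)) := by
    intro i h0
    have h2 := D.Ms.t_act hp (D.r_mem i)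
    rw [show D.Ms.φ p (D.r i) = 0 from h0, pw_zero, mul_one] at h2
    have h3 := D.zt_conj' (comm_of_conj h2) (D.C_le i hcC)
    have h4 := D.Ms.t_act hp hc
    rw [show D.Ms.φ p c = 1 from h1, pw_one] at h4
    rw [h4] at h3
    have h5 := mul_mem (inv_mem (D.C_le i hcC)) h3
    rw [inv_mul_cancel_left] at h5
    have h6 := mul_mem h5 (inv_mem (D.z_zt i))
    have e : p * D.Ms.z * D.z⁻¹ = p := mul_inv_cancel_right _ _
    rwa [e] at h6
  have hsum : D.φ p (D.r 0) + D.φ p (D.r 1) + D.φ p (D.r 2) = 0 := by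
    have h2 : D.Ms.φ p (D.r 0 * D.r 1 * D.r 2) = 0 := by rw [D.r_prod]; exact D.Ms.φ_one hp
    rw [D.Ms.φ_mul hp (mul_mem (D.r_mem 0) (D.r_mem 1)) (D.r_mem 2), D.Ms.φ_mul hp (D.r_mem 0) (D.r_mem 1)] at h2
    exact h2
  obtain ⟨i, hi⟩ : ∃ i, D.φ p (D.r i) = 0 := by
    rcases zmod_cases (D.φ p (D.r 0)) with h | h
    · exact ⟨0, h⟩
    rcases zmod_cases (D.φ p (D.r 1)) with h' | h'
    · exact ⟨1, h'⟩
    rw [h, h'] at hsum
    refine ⟨2, ?_⟩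
    rcases zmod_cases (D.φ p (D.r 2)) with h'' | h''
    · exact h''
    · rw [h''] at hsum; exact absurd hsum (by decide)
  rcases D.two hpU (key i hi) with h | h
  · exact h
  · -- `p ∈ Q_j` for all `j`
    have hQ : ∀ j, p ∈ D.Q (D.r j) := by
      intro j
      have h2 := mul_mem (inv_mem (D.r_Q i j)) (mem_zt.1 (D.C_le j h)).1
      rwa [inv_mul_cancel_left] at h2
    have hz : ∀ j, p ∈ zt (D.Q (D.r j)) := by
      intro j
      apply key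
      exact (D.Ms.symm hp (D.r_Δ j)).trans (D.φ_eq_zero_iff.2 (hQ j))
    exact D.le_C 0 1 (by decide) ⟨hz 0, hz 1⟩

/-! ### The graph -/

/-- adjacency on `Δ` -/
def Adj (p q : G) : Prop := p ∈ D.Δ ∧ q ∈ D.Δ ∧ D.φ p q = 1

/-- connectedness -/
def Conn : G → G → Prop := Relation.ReflTransGen D.Adj

theorem Adj.symm {D : TS G} {p q : G} (h : D.Adj p q) : D.Adj q p :=
  ⟨h.2.1, h.1, (D.Ms.symm h.2.1 h.1).trans h.2.2⟩

theorem Conn.symm {D : TS G} {p q : G} (h : D.Conn p q) : D.Conn q p := by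
  induction h with
  | refl => exact Relation.ReflTransGen.refl
  | tail _ h ih => exact Relation.ReflTransGen.head h.symm ih

theorem Conn.trans' {D : TS G} {p q s : G} (h : D.Conn p q) (h' : D.Conn q s) : D.Conn p s :=
  Relation.ReflTransGen.trans h h'

theorem Adj.conn {D : TS G} {p q : G} (h : D.Adj p q) : D.Conn p q := Relation.ReflTransGen.single h

theorem Adj.conj {D : TS G} {p q g : G} (hg : g ∈ D.M) (h : D.Adj p q) :
    D.Adj (g * p * g⁻¹) (g * q * g⁻¹) :=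
  ⟨Dl_inv hg h.1, Dl_inv hg h.2.1, (D.Ms.φ_conj hg h.1 (D.Ms.Δ_le h.2.1)).trans h.2.2⟩

theorem Conn.conj {D : TS G} {p q g : G} (hg : g ∈ D.M) (h : D.Conn p q) :
    D.Conn (g * p * g⁻¹) (g * q * g⁻¹) := by
  induction h with
  | refl => exact Relation.ReflTransGen.refl
  | tail _ h ih => exact ih.tail (h.conj hg)

theorem Conn.mem_C {D : TS G} {p q : G} (h : D.Conn p q) (hp : p ∈ D.C) : q ∈ D.C := by
  induction h with
  | refl => exact hp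
  | tail _ h ih => exact D.lemmaL (D.Ms.Δ_le h.1) ih h.2.1 h.symm.2.2

/-- (2), second part -/
theorem mem_C_of_zt {q : G} (hq : q ∈ D.Δ) (hz : q ∈ zt (D.Q (D.r 0))) (hne : q ≠ D.r 0) : q ∈ D.C := by
  have hqU : q ∈ D.U := D.Ms.Δ_le hq
  rcases D.two hqU hz with h | h
  · exact h
  · exfalso
    have hr : D.r 0 ∈ D.Ms.Δ := D.r0_Δ
    set c := D.r 0 * q with hc
    have hcU : c ∈ D.U := mul_mem (D.r_mem 0) hqU
    have hqc : D.r 0 * c = q := by rw [hc, ← mul_assoc, D.r_sq, one_mul]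
    have hc0 : c ∉ D.Ms.U0 := by
      intro h0
      have h1 := D.Ms.inj D.Ms_O2 hr (by rw [hqc]; exact hq) h0
      apply hne
      rw [← hqc, h1, mul_one]
    obtain ⟨p, hp, hpc⟩ : ∃ p ∈ D.Ms.Δ, D.Ms.φ p c = 1 := by
      by_contra hcon
      push Not at hcon
      exact hc0 ⟨hcU, fun p hp => (zmod_cases _).resolve_right (hcon p hp)⟩
    have hpC := D.lemmaL hcU h hp hpc
    have h2 : D.φ (D.r 0) p = 0 := D.φ_eq_zero_iff.2 (mem_zt.1 (D.C_le 0 hpC)).1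
    have h3 : D.Ms.φ p q = 1 := by
      rw [← hqc, D.Ms.φ_mul hp (D.r_mem 0) hcU, D.Ms.symm hp hr, show D.Ms.φ (D.r 0) p = 0 from h2, zero_add, hpc]
    have h4 := D.lemmaL (D.Ms.Δ_le hp) hpC hq ((D.Ms.symm hq hp).trans h3)
    exact D.r_C 0 (D.mul_C h4 h)

theorem not_conn_C {q : G} (h : D.Conn (D.r 0) q) : q ∉ D.C := fun hq => D.r_C 0 (h.symm.mem_C hq)

/-- noncentral elements of `Δ` in `Q₁` are conjugate to `r₀ q` -/
theorem exists_conj {q : G} (hq : q ∈ D.Q (D.r 0)) (hz : q ∉ zt (D.Q (D.r 0))) :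
    ∃ g ∈ D.Q (D.r 0), g * q * g⁻¹ = D.r 0 * q := by
  rw [mem_zt] at hz
  push Not at hz
  obtain ⟨g, hg, h⟩ := hz hq
  refine ⟨g, hg, ?_⟩
  rcases D.Q_der g hg q hq with h1 | h1
  · exact absurd h1.symm h
  · rw [h1]; group

/-- (3) for `p = r 0` -/
theorem mul_mem0 {q : G} (hq : q ∈ D.Δ) (hne : q ≠ D.r 0) (hc : D.Conn (D.r 0) q) (h0 : D.φ (D.r 0) q = 0) :
    D.r 0 * q ∈ D.Δ ∧ D.Conn (D.r 0) (D.r 0 * q) := by
  have hz : q ∉ zt (D.Q (D.r 0)) := fun h => D.not_conn_C hc (D.mem_C_of_zt hq h hne)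
  obtain ⟨g, hg, h1⟩ := D.exists_conj (D.φ_eq_zero_iff.1 h0) hz
  have hgz := D.Q_M hg
  have h2 := hc.conj hgz
  rw [h1, conj_of_comm (D.Q_cent g hg)] at h2
  refine ⟨?_, h2⟩
  rw [← h1]
  exact Dl_inv hgz hq

/-- **(3)** -/
theorem mul_mem' {p q : G} (hp : p ∈ D.Δ) (hq : q ∈ D.Δ) (hne : p ≠ q) (hc : D.Conn p q) (h0 : D.φ p q = 0) :
    p * q ∈ D.Δ ∧ D.Conn p (p * q) := by
  obtain ⟨m, hm, rfl⟩ := hp
  have hm' := inv_mem hm
  have e : m⁻¹ * (m * D.r 0 * m⁻¹) * m⁻¹⁻¹ = D.r 0 := by group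
  have h1 := hc.conj hm'
  rw [e] at h1
  have h2 := D.Ms.φ_conj (show m⁻¹ ∈ D.Ms.A from hm') ⟨m, hm, rfl⟩ (D.Ms.Δ_le hq)
  rw [e] at h2
  obtain ⟨h3, h4⟩ := D.mul_mem0 (Dl_inv hm' hq) (by
    intro h
    apply hne
    rw [← h]; group) h1 (h2.trans h0)
  have e2 : m * (D.r 0 * (m⁻¹ * q * m⁻¹⁻¹)) * m⁻¹ = m * D.r 0 * m⁻¹ * q := by group
  have h5 := Dl_inv hm h3
  have h6 := h4.conj hm
  rw [e2] at h5 h6
  exact ⟨h5, h6⟩

theorem mul_z_mem' {p q : G} (hp : p ∈ D.Δ) (hq : q ∈ D.Δ) (h1 : D.φ p q = 1) : p * q * D.z ∈ D.Δ := by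
  have h2 := D.Ms.t_act hp (D.Ms.Δ_le hq)
  rw [show D.Ms.φ p q = 1 from h1, pw_one] at h2
  have h3 := D.Ms.Δ_conj _ (D.Ms.t_A hp) q hq
  rw [h2] at h3
  have e : q * (p * D.Ms.z) = p * q * D.z := by
    rw [← mul_assoc, D.U_comm (D.Ms.Δ_le hq) (D.Ms.Δ_le hp)]; rfl
  rw [e] at h3
  exact h3

/-- `p, p', p p' ∈ Δ` are in one component -/
theorem conn_of_mul {p p' : G} (hp : p ∈ D.Δ) (hp' : p' ∈ D.Δ) (hpp : p * p' ∈ D.Δ) : D.Conn p p' := by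
  have key : ∀ p ∈ D.Δ, ∀ p' ∈ D.Δ, p * p' ∈ D.Δ → ¬ D.Conn p p' → D.Conn p (p * p') := by
    intro p hp p' hp' hpp hn
    obtain ⟨q, hq, h1⟩ := D.Ms.exists_nbr (p := p) hp
    have h2 : D.φ p' q = 0 := by
      rcases zmod_cases (D.φ p' q) with h | h
      · exact h
      · exact absurd ((Adj.conn ⟨hp, hq, h1⟩).trans' (Adj.conn ⟨hp', hq, h⟩).symm) hn
    have h3 : D.Ms.φ q (p * p') = 1 := by
      rw [D.Ms.φ_mul hq (D.Ms.Δ_le hp) (D.Ms.Δ_le hp'), D.Ms.symm hq hp, D.Ms.symm hq hp', h1,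
        show D.Ms.φ p' q = 0 from h2, add_zero]
    exact (Adj.conn ⟨hp, hq, h1⟩).trans' (Adj.conn ⟨hq, hpp, h3⟩)
  by_contra hn
  have h1 := key p hp p' hp' hpp hn
  have hpp' : p' * p ∈ D.Δ := by rw [D.U_comm (D.Ms.Δ_le hp') (D.Ms.Δ_le hp)]; exact hpp
  have h2 := key p' hp' p hp hpp' fun h => hn h.symm
  rw [D.U_comm (D.Ms.Δ_le hp') (D.Ms.Δ_le hp)] at h2
  exact hn (h1.trans' h2.symm)

theorem r_conn (i : Fin 3) : D.Conn (D.r 0) (D.r i) := by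
  have h01 : D.r 0 * D.r 1 = D.r 2 := by
    have h1 := D.r_prod
    rw [mul_eq_one_iff_eq_inv, D.Ms.U_inv (D.r_mem 2)] at h1
    exact h1
  have h02 : D.r 0 * D.r 2 = D.r 1 := by
    rw [← h01, ← mul_assoc, D.r_sq, one_mul]
  have hi : i = 0 ∨ i = 1 ∨ i = 2 := by revert i; decide
  rcases hi with rfl | rfl | rfl
  · exact Relation.ReflTransGen.refl
  · exact D.conn_of_mul D.r0_Δ (D.r_Δ 1) (by rw [h01]; exact D.r_Δ 2)
  · exact D.conn_of_mul D.r0_Δ (D.r_Δ 2) (by rw [h02]; exact D.r_Δ 1)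

/-- elements of other components are in `C` -/
theorem mem_C_of_not_conn {q : G} (hq : q ∈ D.Δ) (hn : ¬ D.Conn (D.r 0) q) : q ∈ D.C := by
  have h0 : D.φ (D.r 0) q = 0 := by
    rcases zmod_cases (D.φ (D.r 0) q) with h | h
    · exact h
    · exact absurd (Adj.conn ⟨D.r0_Δ, hq, h⟩) hn
  by_cases hz : q ∈ zt (D.Q (D.r 0))
  · exact D.mem_C_of_zt hq hz fun h => hn (h ▸ Relation.ReflTransGen.refl)
  · exfalso
    obtain ⟨g, hg, h1⟩ := D.exists_conj (D.φ_eq_zero_iff.1 h0) hz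
    apply hn
    apply D.conn_of_mul D.r0_Δ hq
    rw [← h1]
    exact Dl_inv (D.Q_M hg) hq

/-! ### (5) -/

theorem N_le_zt' {p : G} (hp : p ∈ D.Δ) : gen p D.z ≤ zt (D.Q p) := by
  obtain ⟨m, hm, rfl⟩ := hp
  have hz : D.z ∈ zt (D.Q (m * D.r 0 * m⁻¹)) := by
    have := D.zt_conj (g := m) (D.z_zt 0)
    rwa [D.m_z hm] at this
  unfold gen
  rw [closure_le]
  rintro x ⟨k, hk, rfl⟩
  exact D.zt_conj' hk hz

/-- `U_y` on `Z(Q₁)` -/
theorem Uy_act {h : G} (hh : h * D.r 0 = D.r 0 * h) {g : G} (hg : g ∈ zt (D.Q (D.r 0))) {u : G}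
    (hu : u ∈ D.Uy (h * D.z * h⁻¹)) :
    u * g * u⁻¹ = g ∨ u * g * u⁻¹ = g * (h * D.z * h⁻¹ * D.r 0) := by
  have hu' := D.Uy_le hh hu
  have hg' : h⁻¹ * g * h ∈ zt (D.Q (D.r 0)) := by
    have := D.zt_conj' (inv_comm hh) hg
    rwa [inv_inv] at this
  have hcomm : (h⁻¹ * g * h) * (h⁻¹ * u * h) = (h⁻¹ * u * h) * (h⁻¹ * g * h) → u * g * u⁻¹ = g := by
    intro h1
    apply conj_of_comm
    calc u * g = h * ((h⁻¹ * u * h) * (h⁻¹ * g * h)) * h⁻¹ := by group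
      _ = g * u := by rw [← h1]; group
  rcases D.zt_act0 hg' with h1 | h1
  · exact Or.inl (hcomm (comm_of_conj (h1 _ hu')))
  · have h2 := h1 _ hu'
    rcases zmod_cases (D.φ (D.r 0) (h⁻¹ * u * h)) with h3 | h3
    · rw [h3, pw_zero, mul_one] at h2
      exact Or.inl (hcomm (comm_of_conj h2))
    · right
      rw [h3, pw_one] at h2
      -- `g' u' = u' (r₀ z) g'`
      have hrz : D.r 0 * D.z ∈ D.U := mul_mem (D.r_mem 0) D.z_mem
      have hrzQ : D.r 0 * D.z ∈ D.Q (D.r 0) := mul_mem (D.r_Q 0 0) (mem_zt.1 (D.z_zt 0)).1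
      have h4 : (h⁻¹ * g * h) * (h⁻¹ * u * h) = (h⁻¹ * u * h) * (D.r 0 * D.z) * (h⁻¹ * g * h) := by
        rw [← h2]; group
      have hsq : D.r 0 * D.z * (D.r 0 * D.z) = 1 := D.U_sq _ hrz
      have h5 : (h⁻¹ * u * h) * (h⁻¹ * g * h) = (h⁻¹ * g * h) * (D.r 0 * D.z) * (h⁻¹ * u * h) := by
        calc (h⁻¹ * u * h) * (h⁻¹ * g * h)
            = (h⁻¹ * u * h) * (D.r 0 * D.z * (D.r 0 * D.z)) * (h⁻¹ * g * h) := by rw [hsq, mul_one]
          _ = ((h⁻¹ * u * h) * (D.r 0 * D.z)) * (D.r 0 * D.z) * (h⁻¹ * g * h) := by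
              simp only [mul_assoc]
          _ = ((D.r 0 * D.z) * (h⁻¹ * u * h)) * (D.r 0 * D.z) * (h⁻¹ * g * h) := by
              rw [D.U_comm hu' hrz]
          _ = (D.r 0 * D.z) * ((h⁻¹ * u * h) * (D.r 0 * D.z) * (h⁻¹ * g * h)) := by
              simp only [mul_assoc]
          _ = (D.r 0 * D.z) * ((h⁻¹ * g * h) * (h⁻¹ * u * h)) := by rw [h4]
          _ = _ := by rw [← mul_assoc, (mem_zt.1 hg').2 _ hrzQ]
      calc u * g * u⁻¹ = h * ((h⁻¹ * u * h) * (h⁻¹ * g * h)) * h⁻¹ * u⁻¹ := by group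
        _ = g * (h * D.r 0 * h⁻¹) * (h * D.z * h⁻¹) := by rw [h5]; group
        _ = g * (h * D.z * h⁻¹ * D.r 0) := by
            rw [conj_of_comm hh, mul_assoc, D.y_r hh]

theorem Uy_comm {h : G} (hh : h * D.r 0 = D.r 0 * h) {g : G} (hg : g ∈ zt (D.Q (D.r 0))) {u : G}
    (hu : u ∈ D.Uy (h * D.z * h⁻¹)) {c : G} (hc : c ∈ zt (D.Q (D.r 0))) (hne : u * c ≠ c * u)
    (hug : u * g = g * u) {x : G} (hx : x ∈ D.Uy (h * D.z * h⁻¹)) : x * g = g * x := by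
  have hu' := D.Uy_le hh hu
  have hx' := D.Uy_le hh hx
  have hg' : h⁻¹ * g * h ∈ zt (D.Q (D.r 0)) := by
    have := D.zt_conj' (inv_comm hh) hg
    rwa [inv_inv] at this
  have hc' : h⁻¹ * c * h ∈ zt (D.Q (D.r 0)) := by
    have := D.zt_conj' (inv_comm hh) hc
    rwa [inv_inv] at this
  have hcomm : (h⁻¹ * g * h) * (h⁻¹ * x * h) = (h⁻¹ * x * h) * (h⁻¹ * g * h) → x * g = g * x := by
    intro h1
    calc x * g = h * ((h⁻¹ * x * h) * (h⁻¹ * g * h)) * h⁻¹ := by group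
      _ = g * x := by rw [← h1]; group
  rcases D.zt_act0 hg' with h1 | h1
  · exact hcomm (comm_of_conj (h1 _ hx'))
  · exfalso
    have h2 := h1 _ hu'
    have h3 : (h⁻¹ * g * h) * (h⁻¹ * u * h) * (h⁻¹ * g * h)⁻¹ = h⁻¹ * u * h := by
      apply conj_of_comm
      calc (h⁻¹ * g * h) * (h⁻¹ * u * h) = h⁻¹ * (g * u) * h := by group
        _ = (h⁻¹ * u * h) * (h⁻¹ * g * h) := by rw [← hug]; group
    rw [h3] at h2
    have h4 : D.φ (D.r 0) (h⁻¹ * u * h) = 0 := by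
      apply pw_inj (D.Ms.pz_ne D.r0_Δ)
      rw [pw_zero]
      exact (mul_eq_left.mp h2.symm)
    have h5 := (mem_zt.1 hc').2 _ (D.φ_eq_zero_iff.1 h4)
    apply hne
    calc u * c = h * ((h⁻¹ * u * h) * (h⁻¹ * c * h)) * h⁻¹ := by group
      _ = c * u := by rw [← h5]; group

/-- **(5)**: the graph is connected -/
theorem conn0 {q0 : G} (hq0 : q0 ∈ D.Δ) : D.Conn (D.r 0) q0 := by
  by_contra hn
  -- `y`, `u`
  have hzΔ : D.z ∈ D.Hs.Δ := self_mem_Delta (D.r 0) D.z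
  obtain ⟨y, hy, h1⟩ := D.Hs.exists_nbr hzΔ
  have h1' : D.Hs.φ y D.z = 1 := (D.Hs.symm hy hzΔ).trans h1
  have hyU := D.Hs.Δ_le hy
  obtain ⟨h, hh, rfl⟩ := hy
  set y := h * D.z * h⁻¹ with hydef
  have hy : y ∈ D.Hs.Δ := ⟨h, hh, rfl⟩
  set u := D.Hs.t y with hu
  have huy : u ∈ D.Uy y := D.Hs.t_mem hy
  have hzN : D.z ∈ D.Hs.U := self_mem_gen (D.r 0) D.z
  have huz : u * D.z * u⁻¹ = D.z * (y * D.r 0) := by
    have := D.Hs.t_act hy hzN
    rw [h1', pw_one] at this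
    exact this
  have he : y * D.r 0 ≠ 1 := D.Hs.pz_ne hy
  have heN : y * D.r 0 ∈ D.Hs.U := D.Hs.pz_mem hy
  have hesq : y * D.r 0 * (y * D.r 0) = 1 := D.N_sq heN
  have hezt : y * D.r 0 ∈ zt (D.Q (D.r 0)) := D.N_le_zt 0 heN
  have huzne : u * D.z ≠ D.z * u := by
    intro h2
    rw [conj_of_comm h2] at huz
    exact he (mul_eq_left.mp huz.symm)
  -- the line in the other component
  obtain ⟨m, hm, rfl⟩ := hq0
  have hqΔ : ∀ i, m * D.r i * m⁻¹ ∈ D.Δ := fun i => Dl_inv hm (D.r_Δ i)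
  have hqn : ∀ i, ¬ D.Conn (D.r 0) (m * D.r i * m⁻¹) :=
    fun i hc => hn (hc.trans' ((D.r_conn i).conj hm).symm)
  have hqC : ∀ i, m * D.r i * m⁻¹ ∈ D.C := fun i => D.mem_C_of_not_conn (hqΔ i) (hqn i)
  obtain ⟨i, hi⟩ : ∃ i, u * (m * D.r i * m⁻¹) * u⁻¹ = m * D.r i * m⁻¹ := by
    by_contra hcon
    push Not at hcon
    have h2 : ∀ i, u * (m * D.r i * m⁻¹) * u⁻¹ = m * D.r i * m⁻¹ * (y * D.r 0) :=
      fun i => (D.Uy_act hh (D.C_le 0 (hqC i)) huy).resolve_left (hcon i)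
    have hce : ∀ i, m * D.r i * m⁻¹ * (y * D.r 0) = y * D.r 0 * (m * D.r i * m⁻¹) :=
      fun i => ((mem_zt.1 hezt).2 _ (mem_zt.1 (D.C_le 0 (hqC i))).1).symm
    have hprod : (m * D.r 0 * m⁻¹) * (m * D.r 1 * m⁻¹) * (m * D.r 2 * m⁻¹) = 1 := by
      calc (m * D.r 0 * m⁻¹) * (m * D.r 1 * m⁻¹) * (m * D.r 2 * m⁻¹) = m * (D.r 0 * D.r 1 * D.r 2) * m⁻¹ := by group
        _ = 1 := by rw [D.r_prod]; group
    apply he
    have tri : ∀ e x0 x1 x2 : G, e * e = 1 → x1 * e = e * x1 →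
        (x0 * e) * (x1 * e) * (x2 * e) = x0 * x1 * x2 * e := by
      intro e x0 x1 x2 h0 h1
      calc (x0 * e) * (x1 * e) * (x2 * e) = x0 * (e * (x1 * e)) * (x2 * e) := by group
        _ = x0 * (e * e) * x1 * (x2 * e) := by rw [h1]; group
        _ = x0 * x1 * x2 * e := by rw [h0]; group
    have h3 := tri (y * D.r 0) (m * D.r 0 * m⁻¹) (m * D.r 1 * m⁻¹) (m * D.r 2 * m⁻¹) hesq (hce 1)
    rw [← h2, ← h2, ← h2, hprod, one_mul] at h3
    rw [← h3]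
    calc u * (m * D.r 0 * m⁻¹) * u⁻¹ * (u * (m * D.r 1 * m⁻¹) * u⁻¹) * (u * (m * D.r 2 * m⁻¹) * u⁻¹)
        = u * ((m * D.r 0 * m⁻¹) * (m * D.r 1 * m⁻¹) * (m * D.r 2 * m⁻¹)) * u⁻¹ := by group
      _ = 1 := by rw [hprod]; group
  -- `q`
  set q := m * D.r i * m⁻¹ with hq
  have hqU : q ∈ D.U := D.Ms.Δ_le (hqΔ i)
  have huq : u * q = q * u := comm_of_conj hi
  have hqy : ∀ x ∈ D.Uy y, x * q = q * x := fun x hx =>
    D.Uy_comm hh (D.C_le 0 (hqC i)) huy (D.z_zt 0) huzne huq hx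
  -- `a`
  obtain ⟨a, haU, haC, hqa, hua⟩ : ∃ a ∈ D.U, a ∈ D.C ∧ D.φ q a = 1 ∧ u * a = a * u := by
    obtain ⟨b, hb, hqb⟩ := D.Ms.exists_nbr (p := q) (hqΔ i)
    have hbn : ¬ D.Conn (D.r 0) b := fun hc => hqn i (hc.trans' (Adj.conn ⟨hqΔ i, hb, hqb⟩).symm)
    have hbC := D.mem_C_of_not_conn hb hbn
    have hbU := D.Ms.Δ_le hb
    rcases D.Uy_act hh (D.C_le 0 hbC) huy with h2 | h2
    · exact ⟨b, hbU, hbC, hqb, comm_of_conj h2⟩
    · refine ⟨b * D.z, mul_mem hbU D.z_mem, mul_mem hbC D.z_C, ?_, ?_⟩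
      · show D.Ms.φ q (b * D.z) = 1
        rw [D.Ms.φ_mul (hqΔ i) hbU D.z_mem, show D.Ms.φ q D.z = 0 from D.Ms.φ_z (hqΔ i), add_zero, hqb]
      · apply comm_of_conj
        calc u * (b * D.z) * u⁻¹ = (u * b * u⁻¹) * (u * D.z * u⁻¹) := by group
          _ = b * (y * D.r 0) * (D.z * (y * D.r 0)) := by rw [h2, huz]
          _ = b * ((y * D.r 0) * D.z) * (y * D.r 0) := by group
          _ = b * (D.z * (y * D.r 0)) * (y * D.r 0) := by rw [(mem_zt.1 hezt).2 _ (mem_zt.1 (D.z_zt 0)).1]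
          _ = b * D.z * (y * D.r 0 * (y * D.r 0)) := by group
          _ = b * D.z := by rw [hesq, mul_one]
  have hay : ∀ x ∈ D.Uy y, x * a = a * x := fun x hx =>
    D.Uy_comm hh (D.C_le 0 haC) huy (D.z_zt 0) huzne hua hx
  -- `y ∈ N_q`
  set v := D.Hs.t D.z with hv
  have hvU : v ∈ D.U := by
    rw [← D.Uy_z]; exact D.Hs.t_mem hzΔ
  have hvy : v * y * v⁻¹ = y * (D.z * D.r 0) := by
    have := D.Hs.t_act hzΔ hyU
    rw [h1, pw_one] at this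
    exact this
  have hyz : y * D.z = D.z * y := D.Hs.U_comm hyU hzN
  have hyN : y ∈ gen q D.z := by
    have hvq : v * q = q * v := D.U_comm hvU hqU
    have hvz : v * D.z * v⁻¹ = D.z := conj_of_comm (D.U_z hvU)
    have hvr : v * D.r 0 * v⁻¹ = D.r 0 := conj_of_comm (D.U_r hvU)
    have hvz' : v⁻¹ * D.z * v = D.z := by
      have := conj_of_comm (inv_comm (D.U_z hvU))
      rwa [inv_inv] at this
    have h2 : (v * u * v⁻¹) * D.z * (v * u * v⁻¹)⁻¹ = y := by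
      calc (v * u * v⁻¹) * D.z * (v * u * v⁻¹)⁻¹ = v * (u * (v⁻¹ * D.z * v) * u⁻¹) * v⁻¹ := by group
        _ = (v * D.z * v⁻¹) * (v * y * v⁻¹) * (v * D.r 0 * v⁻¹) := by rw [hvz', huz]; group
        _ = D.z * (y * (D.z * D.r 0)) * D.r 0 := by rw [hvz, hvy, hvr]
        _ = D.z * (y * D.z) * (D.r 0 * D.r 0) := by group
        _ = (D.z * D.z) * y := by rw [D.r_sq, mul_one, hyz, mul_assoc]
        _ = y := by rw [D.z_sq, one_mul]
    apply Subgroup.subset_closure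
    refine ⟨v * u * v⁻¹, ?_, h2.symm⟩
    calc v * u * v⁻¹ * q = v * u * (v⁻¹ * q) := by group
      _ = v * (u * q) * v⁻¹ := by rw [inv_comm hvq]; group
      _ = (v * q) * u * v⁻¹ := by rw [huq]; group
      _ = q * (v * u * v⁻¹) := by rw [hvq]; group
  -- the contradiction
  set t := D.Ms.t q with ht
  have htN : t ∈ gen q D.z := D.Ms.t_mem (hqΔ i)
  have hty : t * y = y * t :=
    (mem_zt.1 (D.N_le_zt' (hqΔ i) htN)).2 _ (mem_zt.1 (D.N_le_zt' (hqΔ i) hyN)).1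
  have hta : t * a * t⁻¹ = a * (q * D.z) := by
    have := D.Ms.t_act (hqΔ i) haU
    rw [show D.Ms.φ q a = 1 from hqa, pw_one] at this
    exact this
  have htr : t * D.r 0 = D.r 0 * t := by
    have h2 := D.Ms.t_act (hqΔ i) (D.r_mem 0)
    have h3 : D.Ms.φ q (D.r 0) = 0 := by
      rcases zmod_cases (D.φ (D.r 0) q) with h | h
      · exact (D.Ms.symm (hqΔ i) D.r0_Δ).trans h
      · exact absurd (Adj.conn ⟨D.r0_Δ, hqΔ i, h⟩) (hqn i)
    rw [h3, pw_zero, mul_one] at h2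
    exact comm_of_conj h2
  have h2 : t⁻¹ * u * t ∈ D.Uy y := by
    have := D.Uy_conj' (inv_comm htr) (inv_comm hty) huy
    rwa [inv_inv] at this
  have h3 := hay _ h2
  have h4 : u * (a * (q * D.z)) = a * (q * D.z) * u := by
    rw [← hta]
    calc u * (t * a * t⁻¹) = t * ((t⁻¹ * u * t) * a) * t⁻¹ := by group
      _ = t * a * t⁻¹ * u := by rw [h3]; group
  apply huzne
  have h5 : a * q * (u * D.z) = a * q * (D.z * u) := by
    calc a * q * (u * D.z) = a * (q * u) * D.z := by group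
      _ = (a * u) * q * D.z := by rw [← huq]; group
      _ = u * (a * (q * D.z)) := by rw [← hua]; group
      _ = a * q * (D.z * u) := by rw [h4]; group
  exact mul_left_cancel h5

/-- **(5)** -/
theorem conn {p q : G} (hp : p ∈ D.Δ) (hq : q ∈ D.Δ) : D.Conn p q :=
  (D.conn0 hp).symm.trans' (D.conn0 hq)

/-! ### RESULT A -/

theorem mul_mem {p q : G} (hp : p ∈ D.Δ) (hq : q ∈ D.Δ) (hne : p ≠ q) (h0 : D.φ p q = 0) : p * q ∈ D.Δ :=
  (D.mul_mem' hp hq hne (D.conn hp hq) h0).1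

theorem mul_z_mem {p q : G} (hp : p ∈ D.Δ) (hq : q ∈ D.Δ) (h1 : D.φ p q = 1) : p * q * D.z ∈ D.Δ :=
  D.mul_z_mem' hp hq h1

theorem mem_U_iff {u : G} : u ∈ D.U ↔ u = 1 ∨ u = D.z ∨ u ∈ D.Δ ∨ u * D.z ∈ D.Δ := by
  constructor
  · intro hu
    have key : ∀ x ∈ D.Δ, ∀ w, (w = 1 ∨ w = D.z ∨ w ∈ D.Δ ∨ w * D.z ∈ D.Δ) →
        (x * w = 1 ∨ x * w = D.z ∨ x * w ∈ D.Δ ∨ x * w * D.z ∈ D.Δ) := by
      intro x hx w hw
      have hxU := D.Ms.Δ_le hx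
      have hxx : x * x = 1 := D.U_sq x hxU
      have hzz := D.z_sq
      have h3 : ∀ w ∈ D.Δ, x * w = 1 ∨ x * w = D.z ∨ x * w ∈ D.Δ ∨ x * w * D.z ∈ D.Δ := by
        intro w hw
        by_cases hne : x = w
        · left; rw [← hne, hxx]
        · rcases zmod_cases (D.φ x w) with h | h
          · exact Or.inr (Or.inr (Or.inl (D.mul_mem hx hw hne h)))
          · exact Or.inr (Or.inr (Or.inr (D.mul_z_mem hx hw h)))
      rcases hw with rfl | rfl | hw | hw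
      · rw [mul_one]; exact Or.inr (Or.inr (Or.inl hx))
      · right; right; right
        rw [mul_assoc, hzz, mul_one]; exact hx
      · exact h3 w hw
      · have e : x * w = x * (w * D.z) * D.z := by rw [← mul_assoc, mul_assoc _ D.z, hzz, mul_one]
        rcases h3 _ hw with h | h | h | h
        · right; left
          rw [e, h, one_mul]
        · left
          rw [e, h, hzz]
        · right; right; right
          rw [e, mul_assoc _ D.z, hzz, mul_one]; exact h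
        · right; right; left
          rw [e]; exact h
    have hu' : u ∈ closure D.Δ := hu
    induction hu' using closure_induction_left with
    | one => exact Or.inl rfl
    | mul_left x hx y _ ih =>
      exact key x hx y (ih (by
        rename_i hy
        exact hy))
    | inv_mul_cancel x hx y _ ih =>
      rw [D.Ms.U_inv (D.Ms.Δ_le hx)]
      exact key x hx y (ih (by
        rename_i hy
        exact hy))
  · rintro (rfl | rfl | h | h)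
    · exact one_mem _
    · exact D.z_mem
    · exact D.Ms.Δ_le h
    · have := Subgroup.mul_mem D.U (D.Ms.Δ_le h) D.z_mem
      rwa [mul_assoc, D.z_sq, mul_one] at this

theorem mem_U0_iff {u : G} : u ∈ D.Ms.U0 ↔ u = 1 ∨ u = D.z := by
  constructor
  · intro hu
    rcases D.mem_U_iff.1 hu.1 with h | h | h | h
    · exact Or.inl h
    · exact Or.inr h
    · exact absurd hu (D.Ms.not_mem_U0 h)
    · exact absurd (Subgroup.mul_mem _ hu D.Ms.z_U0) (D.Ms.not_mem_U0 h)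
  · rintro (rfl | rfl)
    · exact one_mem _
    · exact D.Ms.z_U0

/-- no element of `Δ` is in `C` -/
theorem Δ_C {p : G} (hp : p ∈ D.Δ) : p ∉ D.C := D.not_conn_C (D.conn0 hp)

/-- `U ∩ C = ⟨z⟩` -/
theorem C_U {c : G} (hc : c ∈ D.U) (hcC : c ∈ D.C) : c = 1 ∨ c = D.z := by
  rcases D.mem_U_iff.1 hc with h | h | h | h
  · exact Or.inl h
  · exact Or.inr h
  · exact absurd hcC (D.Δ_C h)
  · exact absurd (Subgroup.mul_mem _ hcC D.z_C) (D.Δ_C h)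

end TS

end Cfsg.Agent.Omega.HOneTwo.Trans

end

section


/-!
# II.0h1, `q = 2`, after the transvection statement: `TS` gives `Eight.Res`

* `TS.f`: the alternating bilinear form on `U`, `TS.f_mul_left`, `f_mul_right`, `f_symm`, `f_self`, `f_conj`, `f_rad`;
* `TS.tz p ∈ z^{C(p)}` acting as the transvection;
* `TS.res`.
-/

set_option autoImplicit false
set_option linter.unusedSectionVars false

namespace Cfsg.Agent.Omega.HOneTwo.Trans

open Subgroup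

universe u

variable {G : Type u} [Group G]

namespace TS

variable (D : TS G)

theorem zz_mem {p : G} (hp : p ∈ D.Δ) : p * D.z ∉ D.Δ := fun h =>
  D.z_ne (D.Ms.inj D.Ms_O2 hp h D.Ms.z_U0)

theorem one_Δ : (1 : G) ∉ D.Δ := fun h => D.Ms.one_notin h rfl

theorem z_Δ : D.z ∉ D.Δ := fun h => D.Ms.z_notin h rfl

open Classical in
/-- the form -/
noncomputable def f (u v : G) : ZMod 2 :=
  if u ∈ D.Δ then D.φ u v else if u * D.z ∈ D.Δ then D.φ (u * D.z) v else 0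

theorem f_Δ {p v : G} (hp : p ∈ D.Δ) : D.f p v = D.φ p v := if_pos hp

theorem f_Δz {u v : G} (hu : u * D.z ∈ D.Δ) : D.f u v = D.φ (u * D.z) v := by
  unfold f
  rw [if_neg, if_pos hu]
  intro h
  exact D.zz_mem h hu

theorem f_one (v : G) : D.f 1 v = 0 := by
  unfold f
  rw [if_neg D.one_Δ, if_neg]
  rw [one_mul]; exact D.z_Δ

theorem f_z (v : G) : D.f D.z v = 0 := by
  unfold f
  rw [if_neg D.z_Δ, if_neg]
  rw [D.z_sq]; exact D.one_Δ

/-- `f u w = φ w u` for `w ∈ Δ` -/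
theorem f_eq {u w : G} (hu : u ∈ D.U) (hw : w ∈ D.Δ) : D.f u w = D.φ w u := by
  rcases D.mem_U_iff.1 hu with rfl | rfl | h | h
  · rw [f_one]; exact (D.Ms.φ_one hw).symm
  · rw [f_z]; exact (D.Ms.φ_z hw).symm
  · rw [D.f_Δ h]; exact D.Ms.symm h hw
  · rw [D.f_Δz h]
    have h1 : D.Ms.φ w (u * D.z) = D.Ms.φ w u := by
      rw [D.Ms.φ_mul hw hu D.z_mem, show D.Ms.φ w D.z = 0 from D.Ms.φ_z hw, add_zero]
    exact (D.Ms.symm h hw).trans h1

theorem f_mul_right {u v w : G} (hu : u ∈ D.U) (hv : v ∈ D.U) (hw : w ∈ D.U) :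
    D.f u (v * w) = D.f u v + D.f u w := by
  rcases D.mem_U_iff.1 hu with rfl | rfl | h | h
  · rw [f_one, f_one, f_one, add_zero]
  · rw [f_z, f_z, f_z, add_zero]
  · rw [D.f_Δ h, D.f_Δ h, D.f_Δ h]; exact D.Ms.φ_mul h hv hw
  · rw [D.f_Δz h, D.f_Δz h, D.f_Δz h]; exact D.Ms.φ_mul h hv hw

theorem f_zr {u : G} (hu : u ∈ D.U) : D.f u D.z = 0 := by
  rcases D.mem_U_iff.1 hu with rfl | rfl | h | h
  · exact D.f_one _
  · exact D.f_z _
  · rw [D.f_Δ h]; exact D.Ms.φ_z h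
  · rw [D.f_Δz h]; exact D.Ms.φ_z h

theorem f_oner {u : G} (hu : u ∈ D.U) : D.f u 1 = 0 := by
  rcases D.mem_U_iff.1 hu with rfl | rfl | h | h
  · exact D.f_one _
  · exact D.f_z _
  · rw [D.f_Δ h]; exact D.Ms.φ_one h
  · rw [D.f_Δz h]; exact D.Ms.φ_one h

theorem f_symm {u v : G} (hu : u ∈ D.U) (hv : v ∈ D.U) : D.f u v = D.f v u := by
  rcases D.mem_U_iff.1 hv with rfl | rfl | h | h
  · rw [D.f_oner hu, f_one]
  · rw [D.f_zr hu, f_z]
  · rw [D.f_eq hu h, D.f_Δ h]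
  · have h1 : D.f u v = D.f u (v * D.z) := by
      rw [D.f_mul_right hu hv D.z_mem, D.f_zr hu, add_zero]
    rw [h1, D.f_eq hu h, D.f_Δz h]

theorem f_mul_left {u v w : G} (hu : u ∈ D.U) (hv : v ∈ D.U) (hw : w ∈ D.U) :
    D.f (u * v) w = D.f u w + D.f v w := by
  rw [D.f_symm (Subgroup.mul_mem _ hu hv) hw, D.f_mul_right hw hu hv, D.f_symm hw hu, D.f_symm hw hv]

theorem f_self {u : G} (hu : u ∈ D.U) : D.f u u = 0 := by
  rcases D.mem_U_iff.1 hu with rfl | rfl | h | h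
  · exact D.f_one _
  · exact D.f_z _
  · rw [D.f_Δ h]; exact D.Ms.φ_self h
  · have h1 : D.f u u = D.f u (u * D.z) := by
      rw [D.f_mul_right hu hu D.z_mem, D.f_zr hu, add_zero]
    rw [h1, D.f_Δz h]; exact D.Ms.φ_self h

theorem f_conj {m u v : G} (hm : m ∈ D.M) (hu : u ∈ D.U) (hv : v ∈ D.U) :
    D.f (m * u * m⁻¹) (m * v * m⁻¹) = D.f u v := by
  have hz : m * D.z * m⁻¹ = D.z := D.m_z hm
  rcases D.mem_U_iff.1 hu with rfl | rfl | h | h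
  · have e : m * 1 * m⁻¹ = 1 := by group
    rw [e, f_one, f_one]
  · rw [hz, f_z, f_z]
  · rw [D.f_Δ (Dl_inv hm h), D.f_Δ h]
    exact D.Ms.φ_conj hm h hv
  · have e : m * u * m⁻¹ * D.z = m * (u * D.z) * m⁻¹ := by
      calc m * u * m⁻¹ * D.z = m * u * m⁻¹ * (m * D.z * m⁻¹) := by rw [hz]
        _ = _ := by group
    have h1 : m * u * m⁻¹ * D.z ∈ D.Δ := by rw [e]; exact Dl_inv hm h
    rw [D.f_Δz h1, D.f_Δz h, e]
    exact D.Ms.φ_conj hm h hv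

theorem f_rad {u : G} (hu : u ∈ D.U) (h : ∀ v ∈ D.U, D.f u v = 0) : u = 1 ∨ u = D.z := by
  rw [← D.mem_U0_iff]
  refine ⟨hu, fun p hp => ?_⟩
  rw [← h p (D.Ms.Δ_le hp)]
  exact (D.f_eq hu hp).symm

/-! ### `t p ∈ z^{C(p)}` -/

theorem exists_tz {p : G} (hp : p ∈ D.Δ) : ∃ t, (∃ h, h * p = p * h ∧ t = h * D.z * h⁻¹) ∧
    ∀ u ∈ D.U, t * u * t⁻¹ = u * pw (p * D.z) (D.φ p u) := by
  by_contra hcon
  push Not at hcon
  -- all elements of `z^{C(p)}` centralise `U`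
  have h1 : ∀ n ∈ gen p D.z, ∀ u ∈ D.U, n * u = u * n := by
    intro n hn
    unfold gen at hn
    induction hn using closure_induction with
    | mem x hx =>
      obtain ⟨h, hh, rfl⟩ := hx
      obtain ⟨u, hu, hne⟩ := hcon _ ⟨h, hh, rfl⟩
      have hN : h * D.z * h⁻¹ ∈ D.Ms.N p := subset_closure ⟨h, hh, rfl⟩
      have h2 := (D.Ms.act' hp hN).resolve_right fun h3 => hne (h3 u hu)
      exact fun v hv => comm_of_conj (h2 v hv)
    | one => intro u _; rw [one_mul, mul_one]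
    | mul x y _ _ hx hy => intro u hu; rw [mul_assoc, hy u hu, ← mul_assoc, hx u hu, mul_assoc]
    | inv x _ hx => intro u hu; exact inv_comm (hx u hu)
  obtain ⟨n, hn, u, hu, h2⟩ := D.Ms.exN p hp
  exact h2 (conj_of_comm (h1 n hn u hu))

open Classical in
/-- an element of `z^{C(p)}` acting as the transvection -/
noncomputable def tz (p : G) : G := if hp : p ∈ D.Δ then (D.exists_tz hp).choose else 1

theorem tz_spec {p : G} (hp : p ∈ D.Δ) : (∃ h, h * p = p * h ∧ D.tz p = h * D.z * h⁻¹) ∧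
    ∀ u ∈ D.U, D.tz p * u * (D.tz p)⁻¹ = u * pw (p * D.z) (D.φ p u) := by
  unfold tz
  rw [dif_pos hp]
  exact (D.exists_tz hp).choose_spec

/-! ### `Q p` -/

theorem Q_der' {p : G} (hp : p ∈ D.Δ) {x y : G} (hx : x ∈ D.Q p) (hy : y ∈ D.Q p) :
    x * y = y * x ∨ x * y = p * (y * x) := by
  obtain ⟨m, hm, rfl⟩ := hp
  have e : m⁻¹ * (m * D.r 0 * m⁻¹) * m⁻¹⁻¹ = D.r 0 := by group
  have hx' := D.Q_conj m⁻¹ _ _ hx
  have hy' := D.Q_conj m⁻¹ _ _ hy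
  rw [e, inv_inv] at hx' hy'
  rcases D.Q_der _ hx' _ hy' with h | h
  · left
    calc x * y = m * ((m⁻¹ * x * m) * (m⁻¹ * y * m)) * m⁻¹ := by group
      _ = y * x := by rw [h]; group
  · right
    calc x * y = m * ((m⁻¹ * x * m) * (m⁻¹ * y * m)) * m⁻¹ := by group
      _ = _ := by rw [h]; group

theorem N_sq' {p : G} (hp : p ∈ D.Δ) {n : G} (hn : n ∈ gen p D.z) : n * n = 1 := by
  obtain ⟨m, hm, rfl⟩ := hp
  have e : m⁻¹ * (m * D.r 0 * m⁻¹) * m⁻¹⁻¹ = D.r 0 := by group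
  have h1 := gen_conj m⁻¹ hn
  rw [e, D.m_z' hm, inv_inv] at h1
  have h2 := D.N_sq h1
  calc n * n = m * ((m⁻¹ * n * m) * (m⁻¹ * n * m)) * m⁻¹ := by group
    _ = 1 := by rw [h2]; group

/-- `Q_p` moves `q` to `q p` -/
theorem Q_mv {p q : G} (hp : p ∈ D.Δ) (hq : q ∈ D.Δ) (hne : p ≠ q) (h0 : D.φ p q = 0) :
    ∃ g ∈ D.Q p, g * q * g⁻¹ = q * p := by
  obtain ⟨m, hm, rfl⟩ := hp
  have e : m⁻¹ * (m * D.r 0 * m⁻¹) * m⁻¹⁻¹ = D.r 0 := by group
  have hq' : m⁻¹ * q * m⁻¹⁻¹ ∈ D.Δ := Dl_inv (inv_mem hm) hq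
  have h1 := D.Ms.φ_conj (show m⁻¹ ∈ D.Ms.A from inv_mem hm) ⟨m, hm, rfl⟩ (D.Ms.Δ_le hq)
  rw [e] at h1
  have h2 : m⁻¹ * q * m⁻¹⁻¹ ∈ D.Q (D.r 0) := D.φ_eq_zero_iff.1 (h1.trans h0)
  have h3 : m⁻¹ * q * m⁻¹⁻¹ ∉ zt (D.Q (D.r 0)) := by
    intro h
    apply D.Δ_C hq'
    apply D.mem_C_of_zt hq' h
    intro h'
    apply hne
    rw [← h']; group
  obtain ⟨g, hg, h4⟩ := D.exists_conj h2 h3
  refine ⟨m * g * m⁻¹, D.Q_conj m _ _ hg, ?_⟩
  have hc : q * (m * D.r 0 * m⁻¹) = m * D.r 0 * m⁻¹ * q :=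
    D.U_comm (D.Ms.Δ_le hq) (D.Ms.Δ_le ⟨m, hm, rfl⟩)
  rw [hc]
  calc m * g * m⁻¹ * q * (m * g * m⁻¹)⁻¹ = m * (g * (m⁻¹ * q * m⁻¹⁻¹) * g⁻¹) * m⁻¹ := by group
    _ = m * D.r 0 * m⁻¹ * q := by rw [h4]; group

theorem mem_M_of {p g : G} (hp : p ∈ D.Δ) (hg : g * p = p * g) (hz : g * D.z = D.z * g) : g ∈ D.M := by
  obtain ⟨m, hm, rfl⟩ := hp
  have h1 : m⁻¹ * g * m ∈ D.M := by
    apply D.M_r
    · calc m⁻¹ * g * m * D.r 0 = m⁻¹ * (g * (m * D.r 0 * m⁻¹)) * m := by group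
        _ = D.r 0 * (m⁻¹ * g * m) := by rw [hg]; group
    · have h2 := D.M_z m hm
      have h3 := inv_comm h2
      calc m⁻¹ * g * m * D.z = m⁻¹ * g * (m * D.z) := by group
        _ = m⁻¹ * (g * D.z) * m := by rw [h2]; group
        _ = (m⁻¹ * D.z) * g * m := by rw [hz]; group
        _ = D.z * (m⁻¹ * g * m) := by rw [h3]; group
  have e : g = m * (m⁻¹ * g * m) * m⁻¹ := by group
  rw [e]
  exact Subgroup.mul_mem _ (Subgroup.mul_mem _ hm h1) (inv_mem hm)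

open Cfsg.Agent.Omega.HTwo.Eight in
theorem Np_eq (z p : G) : Np z p = gen p z := by
  unfold gen Delta Np
  have e : {x | ∃ h ∈ Cp p, x = h * z * h⁻¹} = {x | ∃ m, m * p = p * m ∧ x = m * z * m⁻¹} := by
    ext x
    constructor
    · rintro ⟨h, hh, e⟩; exact ⟨h, mem_centralizer_singleton_iff.1 hh, e⟩
    · rintro ⟨h, hh, e⟩; exact ⟨h, mem_centralizer_singleton_iff.2 hh, e⟩
  rw [e]

theorem N_act {p : G} (hp : p ∈ D.Δ) {n : G} (hn : n ∈ gen p D.z) {u : G} (hu : u ∈ D.U) :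
    n * u * n⁻¹ = u ∨ n * u * n⁻¹ = u * (p * D.z) := by
  rcases D.Ms.act' hp hn with h | h
  · exact Or.inl (h u hu)
  · have h1 := h u hu
    rcases zmod_cases (D.Ms.φ p u) with h2 | h2 <;> rw [h2] at h1
    · rw [pw_zero, mul_one] at h1; exact Or.inl h1
    · rw [pw_one] at h1; exact Or.inr h1

open Cfsg.Agent.Omega.HTwo.Eight Cfsg.Agent.Omega.BTwo in
/-- **`TS` gives `Res`** -/
theorem res (hQ : ∀ p, D.Q p = Qp p) (hUO : ∀ o ∈ O2 D.M, ∀ u ∈ D.U, o * u = u * o) (hUle : D.U ≤ O2 D.M) :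
    Res D.z D.M D.U D.Δ D.f D.tz where
  zz := D.z_sq
  z1 := D.z_ne
  M_z := fun m hm => mem_centralizer_singleton_iff.2 (D.M_z m hm)
  M_p := by
    rintro p hp g ⟨h1, h2⟩
    exact D.mem_M_of hp (mem_centralizer_singleton_iff.1 h1) (mem_centralizer_singleton_iff.1 h2)
  U_comm := fun u hu v hv => D.U_comm hu hv
  U_sq := D.U_sq
  U_M := fun m hm u hu => gn_inv hm hu
  U_O := hUO
  U_le := hUle
  z_U := D.z_mem
  Δ_U := fun p hp => D.Ms.Δ_le hp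
  Δ_M := fun m hm p hp => Dl_inv hm hp
  Δ_tr := by
    rintro p ⟨m, hm, rfl⟩ q ⟨m', hm', rfl⟩
    exact ⟨m' * m⁻¹, Subgroup.mul_mem _ hm' (inv_mem hm), by group⟩
  Δ_1 := D.one_Δ
  Δ_z := D.z_Δ
  cover := fun u hu => D.mem_U_iff.1 hu
  inj := fun p hp => D.zz_mem hp
  f_add := fun u hu v hv w hw => D.f_mul_left hu hv hw
  f_symm := fun u hu v hv => D.f_symm hu hv
  f_self := fun u hu => D.f_self hu
  f_M := fun m hm u hu v hv => D.f_conj hm hu hv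
  f_rad := fun u hu h => D.f_rad hu h
  f_z := fun u _ => D.f_z u
  mul0 := fun p hp q hq hne h => D.mul_mem hp hq hne (by rw [← D.f_Δ hp]; exact h)
  mul1 := fun p hp q hq h => D.mul_z_mem hp hq (by rw [← D.f_Δ hp]; exact h)
  t_ZZ := by
    intro p hp
    obtain ⟨h, hh, e⟩ := (D.tz_spec hp).1
    exact ⟨h, mem_centralizer_singleton_iff.2 hh, e⟩
  t_0 := by
    intro p hp u hu h
    have h1 := (D.tz_spec hp).2 u hu
    rw [← D.f_Δ hp, h, pw_zero, mul_one] at h1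
    exact comm_of_conj h1
  t_1 := by
    intro p hp u hu h
    have h1 := (D.tz_spec hp).2 u hu
    rwa [← D.f_Δ hp, h, pw_one] at h1
  Q_comm := by
    intro p hp x hx y hy
    rw [← hQ p] at hx hy
    exact D.Q_der' hp hx hy
  N_Z := by
    intro p hp n hn
    rw [Np_eq] at hn
    have h2 := D.N_le_zt' hp hn
    rw [hQ p] at h2
    exact h2
  N_sq := by
    intro p hp n hn
    rw [Np_eq] at hn
    exact D.N_sq' hp hn
  N_act := by
    intro p hp n hn u hu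
    rw [Np_eq] at hn
    exact D.N_act hp hn hu
  Q_f := by
    intro p hp u hu
    rw [← hQ p, D.f_Δ hp, D.φ_eq_zero_iff]
  Q_mv := by
    intro p hp q hq hne h
    rw [← hQ p]
    exact D.Q_mv hp hq hne (by rw [← D.f_Δ hp]; exact h)

end TS

end Cfsg.Agent.Omega.HOneTwo.Trans

end

section


/-!
# II.0h1, `q = 2`, after the transvection statement: (8) and (9) of #16429

`BB = ⋂ Z(Q p)`, `p ∈ Δ`; `MQ = ⟨Q p : p ∈ Δ⟩`; `NO p = C_{N p}(U)`; `Gam = ⟨NO p⟩`; `BN = BB ∩ N (r 0)`.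
-/

set_option autoImplicit false
set_option linter.unusedSectionVars false

namespace Cfsg.Agent.Omega.HOneTwo.Trans

open Subgroup

universe u

variable {G : Type u} [Group G]

namespace TS

variable (D : TS G)

/-! ### Preparations -/

theorem exists_m {p : G} (hp : p ∈ D.Δ) : ∃ m ∈ D.Ms.A, p = m * D.r 0 * m⁻¹ := by
  obtain ⟨m, hm, rfl⟩ := hp
  exact ⟨m, D.mem_A.2 hm, rfl⟩

theorem A_z {m : G} (hm : m ∈ D.Ms.A) : m * D.z = D.z * m := D.M_z m (D.mem_A.1 hm)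

theorem A_Q {x : G} (h : x * D.r 0 = D.r 0 * x) (h' : x * D.z = D.z * x) : x ∈ D.Ms.A := D.mem_A.2 (D.M_r x h h')

theorem zt_inv {g p x : G} (hx : x ∈ zt (D.Q (g * p * g⁻¹))) : g⁻¹ * x * g ∈ zt (D.Q p) := by
  have h1 := D.zt_conj (g := g⁻¹) hx
  have e : g⁻¹ * (g * p * g⁻¹) * g⁻¹⁻¹ = p := by group
  rwa [e, inv_inv] at h1

theorem Q_inv {g p x : G} (hx : x ∈ D.Q (g * p * g⁻¹)) : g⁻¹ * x * g ∈ D.Q p := by
  have h1 := D.Q_conj g⁻¹ _ x hx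
  have e : g⁻¹ * (g * p * g⁻¹) * g⁻¹⁻¹ = p := by group
  rwa [e, inv_inv] at h1

theorem z_zt' {p : G} (hp : p ∈ D.Δ) : D.z ∈ zt (D.Q p) := D.N_le_zt' hp (self_mem_gen _ _)

theorem Q_p {p x : G} (hp : p ∈ D.Δ) (hx : x ∈ D.Q p) : x * p = p * x := by
  obtain ⟨m, hm, rfl⟩ := D.exists_m hp
  have h2 := D.Q_cent _ (D.Q_inv hx)
  calc x * (m * D.r 0 * m⁻¹) = m * ((m⁻¹ * x * m) * D.r 0) * m⁻¹ := by group
    _ = (m * D.r 0 * m⁻¹) * x := by rw [h2]; group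

theorem Q_z' {p x : G} (hp : p ∈ D.Δ) (hx : x ∈ D.Q p) : x * D.z = D.z * x :=
  ((mem_zt.1 (D.z_zt' hp)).2 x hx).symm

/-- elements of `Q p`, `p ∈ Δ`, are in `M` -/
theorem Q_A {p x : G} (hp : p ∈ D.Δ) (hx : x ∈ D.Q p) : x ∈ D.Ms.A := by
  obtain ⟨m, hm, rfl⟩ := D.exists_m hp
  have h1 : m⁻¹ * x * m ∈ D.Ms.A := D.A_Q (D.Q_cent _ (D.Q_inv hx)) (D.Q_z (D.Q_inv hx))
  have h2 := D.Ms.A.mul_mem (D.Ms.A.mul_mem hm h1) (D.Ms.A.inv_mem hm)
  have e : m * (m⁻¹ * x * m) * m⁻¹ = x := by group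
  rwa [e] at h2

/-- `Δ ∩ Z(Q p) = {p}` -/
theorem zt_Δ {p q : G} (hp : p ∈ D.Δ) (hq : q ∈ D.Δ) (h : q ∈ zt (D.Q p)) : q = p := by
  obtain ⟨m, hm, rfl⟩ := D.exists_m hp
  by_contra hne
  have h1 := D.Ms.Δ_conj _ (D.Ms.A.inv_mem hm) q hq
  rw [inv_inv] at h1
  have h2 := D.mem_C_of_zt h1 (D.zt_inv h) (by
    intro h3
    apply hne
    rw [← h3]; group)
  exact D.Δ_C h1 h2

/-- `x^g = p x` for some `g ∈ Q p`, if `x ⊥ p`, `x ≠ p` -/
theorem exists_g {p x : G} (hp : p ∈ D.Δ) (hx : x ∈ D.Δ) (hne : x ≠ p) (h0 : D.φ p x = 0) :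
    ∃ g ∈ D.Q p, g * x * g⁻¹ = p * x := by
  have hxQ := D.φ_eq_zero_iff.1 h0
  have hz : x ∉ zt (D.Q p) := fun h => hne (D.zt_Δ hp hx h)
  rw [mem_zt] at hz
  push Not at hz
  obtain ⟨g, hg, h⟩ := hz hxQ
  refine ⟨g, hg, ?_⟩
  rcases D.Q_der' hp hg hxQ with h1 | h1
  · exact absurd h1.symm h
  · rw [h1]; group

theorem ΔU {p : G} (hp : p ∈ D.Δ) : p ∈ D.U := D.Ms.Δ_le hp

theorem φ_mul {p u v : G} (hp : p ∈ D.Δ) (hu : u ∈ D.U) (hv : v ∈ D.U) :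
    D.φ p (u * v) = D.φ p u + D.φ p v := D.Ms.φ_mul hp hu hv

theorem φ_symm {p q : G} (hp : p ∈ D.Δ) (hq : q ∈ D.Δ) : D.φ p q = D.φ q p := D.Ms.symm hp hq

theorem φ_self {p : G} (hp : p ∈ D.Δ) : D.φ p p = 0 := D.Ms.φ_self hp

theorem φ_z {p : G} (hp : p ∈ D.Δ) : D.φ p D.z = 0 := D.Ms.φ_z hp

theorem mul_self {u : G} (hu : u ∈ D.U) : u * u = 1 := D.U_sq u hu

theorem mul_mul {u v : G} (hu : u ∈ D.U) : u * (u * v) = v := by rw [← mul_assoc, D.U_sq u hu, one_mul]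

/-- the action of `n ∈ N p - C(U)` -/
theorem N_actU {p n : G} (hp : p ∈ D.Δ) (hn : n ∈ gen p D.z) (hne : n ∉ centralizer (D.U : Set G)) {u : G}
    (hu : u ∈ D.U) : n * u * n⁻¹ = u * pw (p * D.z) (D.φ p u) := by
  rcases D.zt_act hp (D.N_le_zt' hp hn) with h | h
  · exfalso
    apply hne
    rw [mem_centralizer_iff]
    intro v hv
    exact (comm_of_conj (h v hv)).symm
  · exact h u hu

/-- some element of `N p` is not in `C(U)` -/
theorem exists_n {p : G} (hp : p ∈ D.Δ) : ∃ n ∈ gen p D.z, n ∉ centralizer (D.U : Set G) := by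
  obtain ⟨n, hn, u, hu, h⟩ := D.Ms.exN p hp
  refine ⟨n, hn, fun h' => h ?_⟩
  rw [mem_centralizer_iff] at h'
  exact conj_of_comm (h' u hu).symm

/-- both `1`: always -/
theorem exists_11 {p q : G} (hp : p ∈ D.Δ) (hq : q ∈ D.Δ) : ∃ s ∈ D.Δ, D.φ p s = 1 ∧ D.φ q s = 1 := by
  obtain ⟨a, ha, ha1⟩ := D.Ms.exists_nbr (p := p) hp
  obtain ⟨b, hb, hb1⟩ := D.Ms.exists_nbr (p := q) hq
  rcases zmod_cases (D.φ q a) with h | h
  · rcases zmod_cases (D.φ p b) with h' | h'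
    · have hab : a * b ∈ D.U := Subgroup.mul_mem _ (D.ΔU ha) (D.ΔU hb)
      have h1 : D.φ p (a * b) = 1 := by
        rw [D.φ_mul hp (D.ΔU ha) (D.ΔU hb), h', show D.φ p a = 1 from ha1, add_zero]
      have h2 : D.φ q (a * b) = 1 := by
        rw [D.φ_mul hq (D.ΔU ha) (D.ΔU hb), h, show D.φ q b = 1 from hb1, zero_add]
      rcases D.mem_U_iff.1 hab with h3 | h3 | h3 | h3
      · rw [h3] at h1
        rw [show D.φ p 1 = 0 from D.Ms.φ_one hp] at h1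
        exact absurd h1 zero_ne_one
      · rw [h3, D.φ_z hp] at h1
        exact absurd h1 zero_ne_one
      · exact ⟨_, h3, h1, h2⟩
      · refine ⟨_, h3, ?_, ?_⟩
        · rw [D.φ_mul hp hab D.z_mem, D.φ_z hp, h1, add_zero]
        · rw [D.φ_mul hq hab D.z_mem, D.φ_z hq, h2, add_zero]
    · exact ⟨b, hb, h', hb1⟩
  · exact ⟨a, ha, ha1, h⟩

/-! ### `Q p` is transitive on `Δ - p^⊥` -/

theorem act_tt {p q x : G} (hp : p ∈ D.Δ) (hq : q ∈ D.Δ) (hx : x ∈ D.Δ) (hne : q ≠ p) (h0 : D.φ p q = 0)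
    (hpx : D.φ p x = 1) (hqx : D.φ q x = 1) : ∃ d ∈ D.Q p, d * x * d⁻¹ = x * (q * D.z) := by
  obtain ⟨g, hg, h1⟩ := D.exists_g hp hq hne h0
  obtain ⟨t, ht, htU⟩ := D.exists_n hq
  have ht' : t⁻¹ ∉ centralizer (D.U : Set G) := fun h => htU (by
    have := Subgroup.inv_mem _ h
    rwa [inv_inv] at this)
  have hqp : D.φ q p = 0 := (D.φ_symm hq hp).trans h0
  -- `t` centralises `p`
  have htp : t * p = p * t := by
    apply comm_of_conj
    rw [D.N_actU hq ht htU (D.ΔU hp), hqp, pw_zero, mul_one]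
  have hpq : p * q ∈ D.Δ := D.mul_mem hp hq (Ne.symm hne) h0
  have hgz : g * D.z * g⁻¹ = D.z := conj_of_comm (D.Q_z' hp hg)
  have hs : g * t * g⁻¹ ∈ gen (p * q) D.z := by
    have := gen_conj g ht
    rwa [h1, hgz] at this
  have hgA := D.Q_A hp hg
  have hsU : g * t * g⁻¹ ∉ centralizer (D.U : Set G) := by
    intro h
    apply htU
    rw [mem_centralizer_iff] at h ⊢
    intro u hu
    have h2 := h _ (D.Ms.U_conj g hgA u hu)
    calc u * t = g⁻¹ * (g * u * g⁻¹ * (g * t * g⁻¹)) * g := by group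
      _ = t * u := by rw [h2]; group
  refine ⟨g * t * g⁻¹ * t⁻¹, ?_, ?_⟩
  · have h2 : t * g⁻¹ * t⁻¹ ∈ D.Q p := D.Q_conj' htp (Subgroup.inv_mem _ hg)
    have e : g * t * g⁻¹ * t⁻¹ = g * (t * g⁻¹ * t⁻¹) := by group
    rw [e]
    exact Subgroup.mul_mem _ hg h2
  · have hxU := D.ΔU hx
    have hqz : q * D.z ∈ D.U := Subgroup.mul_mem _ (D.ΔU hq) D.z_mem
    have h2 : t⁻¹ * x * t⁻¹⁻¹ = x * (q * D.z) := by
      rw [D.N_actU hq (Subgroup.inv_mem _ ht) ht' hxU, hqx, pw_one]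
    have h3 : D.φ (p * q) (x * (q * D.z)) = 0 := by
      have e1 : D.φ (p * q) x = 0 := by
        rw [D.φ_symm hpq hx, D.φ_mul hx (D.ΔU hp) (D.ΔU hq), D.φ_symm hx hp, D.φ_symm hx hq, hpx, hqx]
        decide
      have e2 : D.φ (p * q) q = 0 := by
        rw [D.φ_symm hpq hq, D.φ_mul hq (D.ΔU hp) (D.ΔU hq), hqp, D.φ_self hq, add_zero]
      rw [D.φ_mul hpq hxU hqz, D.φ_mul hpq (D.ΔU hq) D.z_mem, e1, e2, D.φ_z hpq, add_zero, add_zero]
    calc g * t * g⁻¹ * t⁻¹ * x * (g * t * g⁻¹ * t⁻¹)⁻¹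
        = g * t * g⁻¹ * (t⁻¹ * x * t⁻¹⁻¹) * (g * t * g⁻¹)⁻¹ := by group
      _ = x * (q * D.z) := by
        rw [h2, D.N_actU hpq hs hsU (Subgroup.mul_mem _ hxU hqz), h3, pw_zero, mul_one]

theorem act_t {p x : G} (hp : p ∈ D.Δ) (hx : x ∈ D.Δ) (hpx : D.φ p x = 1) :
    ∃ d ∈ D.Q p, d * x * d⁻¹ = x * (p * D.z) := by
  obtain ⟨t, ht, htU⟩ := D.exists_n hp
  refine ⟨t, (mem_zt.1 (D.N_le_zt' hp ht)).1, ?_⟩
  rw [D.N_actU hp ht htU (D.ΔU hx), hpx, pw_one]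

/-- **`Q p` is transitive on `Δ - p^⊥`** -/
theorem trans_opp {p x y : G} (hp : p ∈ D.Δ) (hx : x ∈ D.Δ) (hy : y ∈ D.Δ) (hpx : D.φ p x = 1)
    (hpy : D.φ p y = 1) : ∃ g ∈ D.Q p, g * x * g⁻¹ = y := by
  have hxU := D.ΔU hx
  have hyU := D.ΔU hy
  have hpU := D.ΔU hp
  have hzU := D.z_mem
  have hxx := D.mul_self hxU
  rcases zmod_cases (D.φ x y) with h | h
  · by_cases hxy : x = y
    · exact ⟨1, Subgroup.one_mem _, by rw [hxy]; group⟩
    · have hw := D.mul_mem hx hy hxy h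
      have hwU := D.ΔU hw
      have hpw : D.φ p (x * y) = 0 := by
        rw [D.φ_mul hp hxU hyU, hpx, hpy]; decide
      have hwp : x * y ≠ p := by
        intro e
        have h1 : D.φ x (x * y) = 0 := by rw [D.φ_mul hx hxU hyU, D.φ_self hx, h, add_zero]
        rw [e, D.φ_symm hx hp, hpx] at h1
        exact one_ne_zero h1
      have hq := D.mul_mem hp hw (Ne.symm hwp) hpw
      have hpq : D.φ p (p * (x * y)) = 0 := by
        rw [D.φ_mul hp hpU hwU, D.φ_self hp, hpw, add_zero]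
      have hqp : p * (x * y) ≠ p := by
        intro e
        have e1 : x * y = 1 := mul_eq_left.mp e
        apply hxy
        calc x = x * (y * y) := by rw [D.mul_self hyU, mul_one]
          _ = x * y * y := by rw [mul_assoc]
          _ = y := by rw [e1, one_mul]
      have hqx : D.φ (p * (x * y)) x = 1 := by
        rw [D.φ_symm hq hx, D.φ_mul hx hpU hwU, D.φ_symm hx hp, hpx, D.φ_mul hx hxU hyU, D.φ_self hx, h]
        decide
      obtain ⟨d, hd, h1⟩ := D.act_tt hp hq hx hqp hpq hpx hqx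
      -- `x (p x y z)`, then `t p`
      have hx' : x * (p * (x * y) * D.z) ∈ D.Δ := by
        rw [← h1]; exact D.Ms.Δ_conj d (D.Q_A hp hd) x hx
      have hpx' : D.φ p (x * (p * (x * y) * D.z)) = 1 := by
        rw [D.φ_mul hp hxU (Subgroup.mul_mem _ (D.ΔU hq) hzU), D.φ_mul hp (D.ΔU hq) hzU, hpq, D.φ_z hp, hpx]
        decide
      obtain ⟨e, he, h2⟩ := D.act_t hp hx' hpx'
      refine ⟨e * d, Subgroup.mul_mem _ he hd, ?_⟩
      calc e * d * x * (e * d)⁻¹ = e * (d * x * d⁻¹) * e⁻¹ := by group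
        _ = x * (p * (x * y) * D.z) * (p * D.z) := by rw [h1, h2]
        _ = x * (p * (x * y) * (D.z * p) * D.z) := by group
        _ = x * (p * (x * y) * (p * D.z) * D.z) := by rw [D.U_comm hzU hpU]
        _ = x * (p * ((x * y) * p) * (D.z * D.z)) := by group
        _ = x * (p * (p * (x * y)) * (D.z * D.z)) := by rw [D.U_comm hwU hpU]
        _ = y := by rw [D.mul_self hzU, mul_one, D.mul_mul hpU, D.mul_mul hxU]
  · have hw := D.mul_z_mem hx hy h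
    have hwU := D.ΔU hw
    have hxyU := Subgroup.mul_mem _ hxU hyU
    have hfin : x * (x * y * D.z * D.z) = y := by
      rw [mul_assoc (x * y), D.mul_self hzU, mul_one, D.mul_mul hxU]
    by_cases hwp : x * y * D.z = p
    · obtain ⟨d, hd, h1⟩ := D.act_t hp hx hpx
      refine ⟨d, hd, ?_⟩
      rw [h1, ← hwp, hfin]
    · have hpw : D.φ p (x * y * D.z) = 0 := by
        rw [D.φ_mul hp hxyU hzU, D.φ_mul hp hxU hyU, hpx, hpy, D.φ_z hp]; decide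
      have hwx : D.φ (x * y * D.z) x = 1 := by
        rw [D.φ_symm hw hx, D.φ_mul hx hxyU hzU, D.φ_mul hx hxU hyU, D.φ_self hx, h, D.φ_z hx]; decide
      obtain ⟨d, hd, h1⟩ := D.act_tt hp hw hx hwp hpw hpx hwx
      exact ⟨d, hd, by rw [h1, hfin]⟩

/-! ### (8) -/

theorem orbit {p q x : G} (hp : p ∈ D.Δ) (hq : q ∈ D.Δ) (hx : x ∈ D.Δ) (h1 : D.φ p q = 1) :
    ∃ g ∈ D.Q p ⊔ D.Q q, g * p * g⁻¹ = x := by
  have hP : D.Q p ≤ D.Q p ⊔ D.Q q := le_sup_left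
  have hQ : D.Q q ≤ D.Q p ⊔ D.Q q := le_sup_right
  have hqp : D.φ q p = 1 := (D.φ_symm hq hp).trans h1
  -- the orbit relation
  have tr : ∀ {a b c : G}, (∃ g ∈ D.Q p ⊔ D.Q q, g * a * g⁻¹ = b) → (∃ g ∈ D.Q p ⊔ D.Q q, g * b * g⁻¹ = c) →
      ∃ g ∈ D.Q p ⊔ D.Q q, g * a * g⁻¹ = c := by
    rintro a b c ⟨g, hg, rfl⟩ ⟨h, hh, rfl⟩
    exact ⟨h * g, Subgroup.mul_mem _ hh hg, by group⟩
  have sy : ∀ {a b : G}, (∃ g ∈ D.Q p ⊔ D.Q q, g * a * g⁻¹ = b) → ∃ g ∈ D.Q p ⊔ D.Q q, g * b * g⁻¹ = a := by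
    rintro a b ⟨g, hg, rfl⟩
    exact ⟨g⁻¹, Subgroup.inv_mem _ hg, by group⟩
  have lp : ∀ {a b : G}, (∃ g ∈ D.Q p, g * a * g⁻¹ = b) → ∃ g ∈ D.Q p ⊔ D.Q q, g * a * g⁻¹ = b := by
    rintro a b ⟨g, hg, h⟩; exact ⟨g, hP hg, h⟩
  have lq : ∀ {a b : G}, (∃ g ∈ D.Q q, g * a * g⁻¹ = b) → ∃ g ∈ D.Q p ⊔ D.Q q, g * a * g⁻¹ = b := by
    rintro a b ⟨g, hg, h⟩; exact ⟨g, hQ hg, h⟩
  -- `p ~ q`
  have hpq : ∃ g ∈ D.Q p ⊔ D.Q q, g * p * g⁻¹ = q := by
    have a1 := lq (D.act_t hq hp hqp)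
    have a2 := lp (D.act_t hp hq h1)
    have e : p * (q * D.z) = q * (p * D.z) := by
      rw [← mul_assoc, ← mul_assoc, D.U_comm (D.ΔU hp) (D.ΔU hq)]
    rw [e] at a1
    exact tr a1 (sy a2)
  rcases zmod_cases (D.φ p x) with h | h
  · rcases zmod_cases (D.φ q x) with h' | h'
    · have hxq : x ≠ q := by
        rintro rfl
        rw [h] at h1
        exact zero_ne_one h1
      obtain ⟨g, hg, h2⟩ := D.exists_g hq hx hxq h'
      have hqx : q * x ∈ D.Δ := by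
        rw [← h2]; exact D.Ms.Δ_conj g (D.Q_A hq hg) x hx
      have h3 : D.φ p (q * x) = 1 := by rw [D.φ_mul hp (D.ΔU hq) (D.ΔU hx), h1, h, add_zero]
      have a1 := lp (D.trans_opp hp hq hqx h1 h3)
      have a2 : ∃ g ∈ D.Q p ⊔ D.Q q, g * x * g⁻¹ = q * x := lq ⟨g, hg, h2⟩
      exact tr hpq (tr a1 (sy a2))
    · exact lq (D.trans_opp hq hp hx hqp h')
  · exact tr hpq (lp (D.trans_opp hp hq hx h1 h))

/-- `M_Q = ⟨Q p : p ∈ Δ⟩` -/
def MQ : Subgroup G := closure {x | ∃ p ∈ D.Δ, x ∈ D.Q p}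

theorem Q_le_MQ {p : G} (hp : p ∈ D.Δ) : D.Q p ≤ D.MQ := fun _ hx => subset_closure ⟨p, hp, hx⟩

/-- `⟨Q p, Q q⟩ = M_Q` if `f(p,q) = 1` -/
theorem sup_eq {p q : G} (hp : p ∈ D.Δ) (hq : q ∈ D.Δ) (h1 : D.φ p q = 1) : D.Q p ⊔ D.Q q = D.MQ := by
  apply le_antisymm (sup_le (D.Q_le_MQ hp) (D.Q_le_MQ hq))
  unfold MQ
  rw [closure_le]
  rintro y ⟨x, hx, hy⟩
  obtain ⟨g, hg, rfl⟩ := D.orbit hp hq hx h1
  have h2 : g⁻¹ * y * g ∈ D.Q p ⊔ D.Q q := (show D.Q p ≤ _ from le_sup_left) (D.Q_inv hy)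
  have h3 := Subgroup.mul_mem _ (Subgroup.mul_mem _ hg h2) (Subgroup.inv_mem _ hg)
  have e : g * (g⁻¹ * y * g) * g⁻¹ = y := by group
  rwa [e] at h3

theorem MQ_A : D.MQ ≤ D.Ms.A := by
  unfold MQ
  rw [closure_le]
  rintro y ⟨x, hx, hy⟩
  exact D.Q_A hx hy

theorem MQ_conj {m x : G} (hm : m ∈ D.Ms.A) (hx : x ∈ D.MQ) : m * x * m⁻¹ ∈ D.MQ := by
  unfold MQ at hx
  induction hx using closure_induction with
  | mem x hx =>
    obtain ⟨p, hp, hx⟩ := hx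
    exact D.Q_le_MQ (D.Ms.Δ_conj m hm p hp) (D.Q_conj m p x hx)
  | one => rw [mul_one, mul_inv_cancel]; exact Subgroup.one_mem _
  | mul x y _ _ hx hy =>
    have : m * (x * y) * m⁻¹ = (m * x * m⁻¹) * (m * y * m⁻¹) := by group
    rw [this]; exact Subgroup.mul_mem _ hx hy
  | inv x _ hx =>
    have : m * x⁻¹ * m⁻¹ = (m * x * m⁻¹)⁻¹ := by group
    rw [this]; exact Subgroup.inv_mem _ hx

/-- `M_Q` is transitive on `Δ` -/
theorem MQ_trans {p x : G} (hp : p ∈ D.Δ) (hx : x ∈ D.Δ) : ∃ g ∈ D.MQ, g * p * g⁻¹ = x := by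
  obtain ⟨q, hq, h1⟩ := D.Ms.exists_nbr (p := p) hp
  obtain ⟨g, hg, h2⟩ := D.orbit hp hq hx h1
  rw [D.sup_eq hp hq h1] at hg
  exact ⟨g, hg, h2⟩

/-- `B = ⋂ Z(Q p)` -/
def BB : Subgroup G where
  carrier := {x | ∀ p ∈ D.Δ, x ∈ zt (D.Q p)}
  one_mem' := fun _ _ => Subgroup.one_mem _
  mul_mem' := fun ha hb p hp => Subgroup.mul_mem _ (ha p hp) (hb p hp)
  inv_mem' := fun ha p hp => Subgroup.inv_mem _ (ha p hp)

theorem mem_BB {x : G} : x ∈ D.BB ↔ ∀ p ∈ D.Δ, x ∈ zt (D.Q p) := Iff.rfl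

theorem BB_MQ {b g : G} (hb : b ∈ D.BB) (hg : g ∈ D.MQ) : b * g = g * b := by
  unfold MQ at hg
  induction hg using closure_induction with
  | mem x hx =>
    obtain ⟨p, hp, hx⟩ := hx
    exact (mem_zt.1 (hb p hp)).2 x hx
  | one => rw [mul_one, one_mul]
  | mul x y _ _ hx hy => rw [← mul_assoc, hx, mul_assoc, hy, mul_assoc]
  | inv x _ hx => rw [mul_inv_eq_iff_eq_mul, mul_assoc, hx, inv_mul_cancel_left]

/-- **`Z(Q p) ∩ Z(Q q) = B`** if `f(p,q) = 1` -/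
theorem zt_inf {p q x : G} (hp : p ∈ D.Δ) (hq : q ∈ D.Δ) (h1 : D.φ p q = 1) (hxp : x ∈ zt (D.Q p))
    (hxq : x ∈ zt (D.Q q)) : x ∈ D.BB := by
  intro s hs
  obtain ⟨g, hg, rfl⟩ := D.orbit hp hq hs h1
  have hle : D.Q p ⊔ D.Q q ≤ centralizer {x} := by
    apply sup_le
    · intro y hy
      rw [mem_centralizer_singleton_iff]
      exact ((mem_zt.1 hxp).2 y hy).symm
    · intro y hy
      rw [mem_centralizer_singleton_iff]
      exact ((mem_zt.1 hxq).2 y hy).symm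
  have h2 := mem_centralizer_singleton_iff.1 (hle hg)
  have h3 := D.zt_conj (g := g) hxp
  rwa [conj_of_comm h2] at h3

theorem BB_conj {m x : G} (hm : m ∈ D.Ms.A) (hx : x ∈ D.BB) : m * x * m⁻¹ ∈ D.BB := by
  intro p hp
  have h1 := D.Ms.Δ_conj _ (D.Ms.A.inv_mem hm) p hp
  have h2 := D.zt_conj (g := m) (hx _ h1)
  have e : m * (m⁻¹ * p * m⁻¹⁻¹) * m⁻¹ = p := by group
  rwa [e] at h2

theorem z_BB : D.z ∈ D.BB := fun _ hp => D.z_zt' hp

theorem BB_C {x : G} (hx : x ∈ D.BB) : x ∈ D.C := D.le_C 0 1 (by decide) ⟨hx _ (D.r_Δ 0), hx _ (D.r_Δ 1)⟩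

/-- `Δ ≤ M_Q`, so `U ≤ M_Q` -/
theorem U_le_MQ : D.U ≤ D.MQ := by
  intro u hu
  have h1 : D.U = closure D.Δ := rfl
  rw [h1] at hu
  refine (closure_le _).2 ?_ hu
  intro p hp
  exact D.Q_le_MQ hp (D.Ms.pK p hp)

theorem BB_U {b u : G} (hb : b ∈ D.BB) (hu : u ∈ D.U) : b * u = u * b := D.BB_MQ hb (D.U_le_MQ hu)

/-- `U ∩ B = ⟨z⟩` -/
theorem U_BB {x : G} (hx : x ∈ D.BB) (hxU : x ∈ D.U) : x = 1 ∨ x = D.z := D.C_U hxU (D.BB_C hx)

theorem Δ_BB {p : G} (hp : p ∈ D.Δ) : p ∉ D.BB := fun h => D.Δ_C hp (D.BB_C h)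

/-- `B_N` -/
def BN : Subgroup G := D.BB ⊓ gen (D.r 0) D.z

theorem BN_mem {p x : G} (hp : p ∈ D.Δ) : x ∈ D.BN ↔ x ∈ D.BB ∧ x ∈ gen p D.z := by
  unfold BN
  rw [mem_inf]
  refine and_congr_right fun hx => ?_
  obtain ⟨g, hg, h1⟩ := D.MQ_trans D.r0_Δ hp
  have hgz : g * D.z = D.z * g := D.A_z (D.MQ_A hg)
  have hgx : g * x = x * g := (D.BB_MQ hx hg).symm
  constructor
  · intro h
    have h2 := gen_conj g h
    rwa [conj_of_comm hgx, h1, conj_of_comm hgz] at h2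
  · intro h
    have h2 := gen_conj g⁻¹ h
    have e : g⁻¹ * p * g⁻¹⁻¹ = D.r 0 := by rw [← h1]; group
    rwa [conj_of_comm (inv_comm hgx), e, conj_of_comm (inv_comm hgz)] at h2

/-- `N p ∩ N q = B_N` if `f(p,q) = 1` -/
theorem N_inf {p q x : G} (hp : p ∈ D.Δ) (hq : q ∈ D.Δ) (h1 : D.φ p q = 1) (hxp : x ∈ gen p D.z)
    (hxq : x ∈ gen q D.z) : x ∈ D.BN :=
  (D.BN_mem hp).2 ⟨D.zt_inf hp hq h1 (D.N_le_zt' hp hxp) (D.N_le_zt' hq hxq), hxp⟩

theorem BN_BB {x : G} (hx : x ∈ D.BN) : x ∈ D.BB := hx.1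

theorem BN_N {p x : G} (hp : p ∈ D.Δ) (hx : x ∈ D.BN) : x ∈ gen p D.z := ((D.BN_mem hp).1 hx).2

theorem z_BN : D.z ∈ D.BN := ⟨D.z_BB, self_mem_gen _ _⟩

/-! ### (9) -/

/-- `N p ∩ O_M` -/
def NO (p : G) : Subgroup G := gen p D.z ⊓ centralizer (D.U : Set G)

/-- `Γ` -/
def Gam : Subgroup G := closure {x | ∃ p ∈ D.Δ, x ∈ D.NO p}

theorem mem_NO {p x : G} : x ∈ D.NO p ↔ x ∈ gen p D.z ∧ ∀ u ∈ D.U, x * u = u * x := by
  unfold NO
  rw [mem_inf, mem_centralizer_iff]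
  exact ⟨fun h => ⟨h.1, fun u hu => (h.2 u hu).symm⟩, fun h => ⟨h.1, fun u hu => (h.2 u hu).symm⟩⟩

theorem NO_le_Gam {p : G} (hp : p ∈ D.Δ) : D.NO p ≤ D.Gam := fun _ hx => subset_closure ⟨p, hp, hx⟩

theorem N_MQ {p : G} (hp : p ∈ D.Δ) : gen p D.z ≤ D.MQ :=
  fun _ hx => D.Q_le_MQ hp (mem_zt.1 (D.N_le_zt' hp hx)).1

theorem Gam_MQ : D.Gam ≤ D.MQ := by
  unfold Gam
  rw [closure_le]
  rintro y ⟨x, hx, hy⟩
  exact D.N_MQ hx hy.1

theorem Gam_U {g u : G} (hg : g ∈ D.Gam) (hu : u ∈ D.U) : g * u = u * g := by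
  have h1 : D.Gam ≤ centralizer (D.U : Set G) := by
    unfold Gam
    rw [closure_le]
    rintro y ⟨x, hx, hy⟩
    exact hy.2
  exact (mem_centralizer_iff.1 (h1 hg) u hu).symm

theorem N_conj' {m p x : G} (hm : m ∈ D.Ms.A) (hx : x ∈ gen p D.z) : m * x * m⁻¹ ∈ gen (m * p * m⁻¹) D.z := by
  have h1 := gen_conj m hx
  rwa [conj_of_comm (D.A_z hm)] at h1

theorem NO_conj {m p x : G} (hm : m ∈ D.Ms.A) (hx : x ∈ D.NO p) : m * x * m⁻¹ ∈ D.NO (m * p * m⁻¹) := by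
  rw [mem_NO] at hx ⊢
  refine ⟨D.N_conj' hm hx.1, fun u hu => ?_⟩
  have h2 := D.Ms.U_conj _ (D.Ms.A.inv_mem hm) u hu
  have h3 := hx.2 _ h2
  calc m * x * m⁻¹ * u = m * (x * (m⁻¹ * u * m⁻¹⁻¹)) * m⁻¹ := by group
    _ = u * (m * x * m⁻¹) := by rw [h3]; group

theorem Gam_conj {m x : G} (hm : m ∈ D.Ms.A) (hx : x ∈ D.Gam) : m * x * m⁻¹ ∈ D.Gam := by
  unfold Gam at hx
  induction hx using closure_induction with
  | mem x hx =>
    obtain ⟨p, hp, hx⟩ := hx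
    exact D.NO_le_Gam (D.Ms.Δ_conj m hm p hp) (D.NO_conj hm hx)
  | one => rw [mul_one, mul_inv_cancel]; exact Subgroup.one_mem _
  | mul x y _ _ hx hy =>
    have : m * (x * y) * m⁻¹ = (m * x * m⁻¹) * (m * y * m⁻¹) := by group
    rw [this]; exact Subgroup.mul_mem _ hx hy
  | inv x _ hx =>
    have : m * x⁻¹ * m⁻¹ = (m * x * m⁻¹)⁻¹ := by group
    rw [this]; exact Subgroup.inv_mem _ hx

theorem N_comm {p x y : G} (hp : p ∈ D.Δ) (hx : x ∈ gen p D.z) (hy : y ∈ gen p D.z) : x * y = y * x :=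
  (mem_zt.1 (D.N_le_zt' hp hx)).2 y (mem_zt.1 (D.N_le_zt' hp hy)).1

theorem BN_le_NO {p : G} (hp : p ∈ D.Δ) : D.BN ≤ D.NO p := fun _ hx =>
  D.mem_NO.2 ⟨D.BN_N hp hx, fun _ hu => D.BB_U hx.1 hu⟩

/-- elements of `M ∩ C(U)` normalise `N q` -/
theorem norm_N {q n x : G} (hq : q ∈ D.Δ) (hn : n ∈ D.Ms.A) (hnU : ∀ u ∈ D.U, n * u = u * n)
    (hx : x ∈ gen q D.z) : n * x * n⁻¹ ∈ gen q D.z := by
  have h1 := D.N_conj' (m := n) hn hx
  rwa [conj_of_comm (hnU q (D.ΔU hq))] at h1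

/-- commutators of `M ∩ C(U)` with `N q` are in `NO q` -/
theorem comm_N {q n x : G} (hq : q ∈ D.Δ) (hn : n ∈ D.Ms.A) (hnU : ∀ u ∈ D.U, n * u = u * n)
    (hx : x ∈ gen q D.z) : n * x * n⁻¹ * x⁻¹ ∈ D.NO q := by
  rw [mem_NO]
  refine ⟨Subgroup.mul_mem _ (D.norm_N hq hn hnU hx) (Subgroup.inv_mem _ hx), fun u hu => ?_⟩
  have hxA : x ∈ D.Ms.A := D.MQ_A (D.N_MQ hq hx)
  have h1 := D.Ms.U_conj _ (D.Ms.A.inv_mem hxA) u hu
  -- `x⁻¹ u x ∈ U`
  have h2 := hnU _ h1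
  calc n * x * n⁻¹ * x⁻¹ * u = n * x * (n⁻¹ * (x⁻¹ * u * x⁻¹⁻¹)) * x⁻¹ := by group
    _ = n * x * ((x⁻¹ * u * x⁻¹⁻¹) * n⁻¹) * x⁻¹ := by rw [inv_comm h2]
    _ = n * u * x * n⁻¹ * x⁻¹ := by group
    _ = u * (n * x * n⁻¹ * x⁻¹) := by rw [hnU u hu]; group

theorem NO_A {p n : G} (hp : p ∈ D.Δ) (hn : n ∈ D.NO p) : n ∈ D.Ms.A := D.MQ_A (D.N_MQ hp hn.1)

theorem NO_U {p n : G} (hn : n ∈ D.NO p) : ∀ u ∈ D.U, n * u = u * n := (D.mem_NO.1 hn).2

/-- elements of `NO p` normalise `N q`, `NO q` -/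
theorem NO_q {p q n x : G} (hp : p ∈ D.Δ) (hq : q ∈ D.Δ) (hn : n ∈ D.NO p) (hx : x ∈ gen q D.z) :
    n * x * n⁻¹ ∈ gen q D.z := D.norm_N hq (D.NO_A hp hn) (D.NO_U hn) hx

/-- commutators of `NO p` with `N q` are in `NO q` -/
theorem comm_NO {p q n x : G} (hp : p ∈ D.Δ) (hq : q ∈ D.Δ) (hn : n ∈ D.NO p) (hx : x ∈ gen q D.z) :
    n * x * n⁻¹ * x⁻¹ ∈ D.NO q := D.comm_N hq (D.NO_A hp hn) (D.NO_U hn) hx

/-- commuting modulo `B_N` -/
def CB (x y : G) : Prop := ∃ b ∈ D.BN, x * y = b * (y * x)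

theorem CB_iff {x y : G} : D.CB x y ↔ x * y * x⁻¹ * y⁻¹ ∈ D.BN := by
  constructor
  · rintro ⟨b, hb, h⟩
    have e : x * y * x⁻¹ * y⁻¹ = b := by rw [h]; group
    rwa [e]
  · intro h
    exact ⟨_, h, by group⟩

theorem CB_comm {x y : G} (h : x * y = y * x) : D.CB x y := ⟨1, Subgroup.one_mem _, by rw [one_mul, h]⟩

theorem CB.symm {D : TS G} {x y : G} (h : D.CB x y) : D.CB y x := by
  obtain ⟨b, hb, h⟩ := h
  refine ⟨b⁻¹, Subgroup.inv_mem _ hb, ?_⟩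
  rw [h, inv_mul_cancel_left]

theorem CB_mul {x y w : G} (hy : y ∈ D.MQ) (h1 : D.CB x y) (h2 : D.CB x w) : D.CB x (y * w) := by
  obtain ⟨b, hb, h⟩ := h1
  obtain ⟨c, hc, h'⟩ := h2
  refine ⟨b * c, Subgroup.mul_mem _ hb hc, ?_⟩
  have h4 : y * c = c * y := (D.BB_MQ hc.1 hy).symm
  calc x * (y * w) = (x * y) * w := by group
    _ = b * y * (x * w) := by rw [h]; group
    _ = b * (y * c) * (w * x) := by rw [h']; group
    _ = b * c * (y * w * x) := by rw [h4]; group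

theorem CB_inv {x y : G} (hy : y ∈ D.MQ) (h1 : D.CB x y) : D.CB x y⁻¹ := by
  obtain ⟨b, hb, h⟩ := h1
  refine ⟨b⁻¹, Subgroup.inv_mem _ hb, ?_⟩
  have h4 : y * b = b * y := (D.BB_MQ hb.1 hy).symm
  have h5 : y⁻¹ * b⁻¹ = b⁻¹ * y⁻¹ := by rw [← mul_inv_rev, ← mul_inv_rev, h4]
  have h6 : y * x = b⁻¹ * (x * y) := by rw [h, inv_mul_cancel_left]
  calc x * y⁻¹ = y⁻¹ * (y * x) * y⁻¹ := by group
    _ = (y⁻¹ * b⁻¹) * x := by rw [h6]; group
    _ = b⁻¹ * (y⁻¹ * x) := by rw [h5]; group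

theorem CB_opp {p q x y : G} (hp : p ∈ D.Δ) (hq : q ∈ D.Δ) (hx : x ∈ D.NO p) (hy : y ∈ D.NO q)
    (h1 : D.φ p q = 1) : D.CB x y := by
  rw [CB_iff]
  have h2 := (D.comm_NO hp hq hx hy.1).1
  have h3 := (D.comm_NO hq hp hy hx.1).1
  have e : x * y * x⁻¹ * y⁻¹ = (y * x * y⁻¹ * x⁻¹)⁻¹ := by group
  refine D.N_inf hp hq h1 ?_ h2
  rw [e]
  exact Subgroup.inv_mem _ h3

/-- `NO q ≤ NO s' · NO s`, `q = s s' z` -/
theorem NO_dec {q s m : G} (hq : q ∈ D.Δ) (hs : s ∈ D.Δ) (h1 : D.φ q s = 1) (hm : m ∈ D.NO q) :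
    ∃ a ∈ D.NO (q * s * D.z), ∃ n ∈ D.NO s, m = a * n := by
  have hs' := D.mul_z_mem hq hs h1
  have hss : D.φ (q * s * D.z) s = 1 := by
    rw [D.φ_symm hs' hs, D.φ_mul hs (Subgroup.mul_mem _ (D.ΔU hq) (D.ΔU hs)) D.z_mem,
      D.φ_mul hs (D.ΔU hq) (D.ΔU hs), D.φ_symm hs hq, h1, D.φ_self hs, D.φ_z hs]
    decide
  obtain ⟨t, ht, htU⟩ := D.exists_n hs'
  have h2 : t * s * t⁻¹ = q := by
    rw [D.N_actU hs' ht htU (D.ΔU hs), hss, pw_one, mul_assoc (q * s), D.mul_self D.z_mem, mul_one,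
      D.U_comm (D.ΔU hq) (D.ΔU hs), D.mul_mul (D.ΔU hs)]
  have htA : t ∈ D.Ms.A := D.MQ_A (D.N_MQ hs' ht)
  have hn : t⁻¹ * m * t ∈ D.NO s := by
    have h3 := D.NO_conj (D.Ms.A.inv_mem htA) hm
    have e : t⁻¹ * q * t⁻¹⁻¹ = s := by rw [← h2]; group
    rwa [e, inv_inv] at h3
  refine ⟨t * (t⁻¹ * m * t) * t⁻¹ * (t⁻¹ * m * t)⁻¹, ?_, t⁻¹ * m * t, hn, by group⟩
  have h4 := Subgroup.inv_mem _ (D.comm_NO hs hs' hn ht)
  have e : ((t⁻¹ * m * t) * t * (t⁻¹ * m * t)⁻¹ * t⁻¹)⁻¹ =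
      t * (t⁻¹ * m * t) * t⁻¹ * (t⁻¹ * m * t)⁻¹ := by group
  rwa [e] at h4

theorem CB_NO {p q x y : G} (hp : p ∈ D.Δ) (hq : q ∈ D.Δ) (hx : x ∈ D.NO p) (hy : y ∈ D.NO q) : D.CB x y := by
  rcases zmod_cases (D.φ p q) with h | h
  · obtain ⟨s, hs, h1, h2⟩ := D.exists_11 hp hq
    obtain ⟨a, ha, n, hn, rfl⟩ := D.NO_dec hq hs h2 hy
    have hs' := D.mul_z_mem hq hs h2
    have h3 : D.φ p (q * s * D.z) = 1 := by
      rw [D.φ_mul hp (Subgroup.mul_mem _ (D.ΔU hq) (D.ΔU hs)) D.z_mem,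
        D.φ_mul hp (D.ΔU hq) (D.ΔU hs), h, h1, D.φ_z hp]
      decide
    exact D.CB_mul (D.N_MQ hs' ha.1) (D.CB_opp hp hs' hx ha h3) (D.CB_opp hp hs hx hn h1)
  · exact D.CB_opp hp hq hx hy h

/-- **(9)** `Γ' ≤ B_N` -/
theorem CB_Gam {x y : G} (hx : x ∈ D.Gam) (hy : y ∈ D.Gam) : D.CB x y := by
  have key : ∀ p ∈ D.Δ, ∀ x ∈ D.NO p, ∀ y ∈ D.Gam, D.CB x y := by
    intro p hp x hx y hy
    have hy' : y ∈ closure {x | ∃ p ∈ D.Δ, x ∈ D.NO p} := hy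
    induction hy' using closure_induction with
    | mem y hy' =>
      obtain ⟨q, hq, hy'⟩ := hy'
      exact D.CB_NO hp hq hx hy'
    | one => exact D.CB_comm (by rw [mul_one, one_mul])
    | mul a b ha hb ha' hb' => exact D.CB_mul (D.Gam_MQ ha) (ha' ha) (hb' hb)
    | inv a ha ha' => exact D.CB_inv (D.Gam_MQ ha) (ha' ha)
  have hx' : x ∈ closure {x | ∃ p ∈ D.Δ, x ∈ D.NO p} := hx
  apply CB.symm
  induction hx' using closure_induction with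
  | mem x hx' =>
    obtain ⟨p, hp, hx'⟩ := hx'
    exact (key p hp x hx' y hy).symm
  | one => exact D.CB_comm (by rw [mul_one, one_mul])
  | mul a b ha hb ha' hb' => exact D.CB_mul (D.Gam_MQ ha) (ha' ha) (hb' hb)
  | inv a ha ha' => exact D.CB_inv (D.Gam_MQ ha) (ha' ha)

/-- **(9)**: `[NO p, t_q] B_N = NO q` if `f(p,q) = 1` -/
theorem surj {p q m t : G} (hp : p ∈ D.Δ) (hq : q ∈ D.Δ) (h1 : D.φ p q = 1) (hm : m ∈ D.NO q)
    (ht : t ∈ gen q D.z) (htU : t ∉ centralizer (D.U : Set G)) :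
    ∃ n ∈ D.NO p, ∃ b ∈ D.BN, m = n * t * n⁻¹ * t⁻¹ * b := by
  obtain ⟨s, hs, hsU⟩ := D.exists_n hp
  have hpU := D.ΔU hp
  have hqU := D.ΔU hq
  have hzU := D.z_mem
  have hsA : s ∈ D.Ms.A := D.MQ_A (D.N_MQ hp hs)
  have htA : t ∈ D.Ms.A := D.MQ_A (D.N_MQ hq ht)
  have hqp : D.φ q p = 1 := (D.φ_symm hq hp).trans h1
  have e1 : s * q * s⁻¹ = q * (p * D.z) := by rw [D.N_actU hp hs hsU hqU, h1, pw_one]
  have e2 : t * (q * (p * D.z)) * t⁻¹ = p := by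
    have hpz := Subgroup.mul_mem _ hpU hzU
    rw [D.N_actU hq ht htU (Subgroup.mul_mem _ hqU hpz), D.φ_mul hq hqU hpz, D.φ_mul hq hpU hzU, hqp,
      D.φ_self hq, D.φ_z hq]
    have : (0 : ZMod 2) + (1 + 0) = 1 := by decide
    rw [this, pw_one, D.U_comm hqU hzU, ← mul_assoc, mul_assoc q (p * D.z), mul_assoc p,
      D.mul_self hzU, mul_one, D.U_comm hqU hpU, mul_assoc, D.mul_self hqU, mul_one]
  -- `c = s m s⁻¹ m⁻¹ ∈ NO p`
  have hc : s * m * s⁻¹ * m⁻¹ ∈ D.NO p := by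
    have h2 := Subgroup.inv_mem _ (D.comm_NO hq hp hm hs)
    have e : (m * s * m⁻¹ * s⁻¹)⁻¹ = s * m * s⁻¹ * m⁻¹ := by group
    rwa [e] at h2
  set c := s * m * s⁻¹ * m⁻¹ with hcdef
  have hc2 := D.comm_NO hp hq hc ht
  have h3 := D.NO_conj (Subgroup.mul_mem _ htA hsA) hm
  have e3 : t * s * q * (t * s)⁻¹ = p := by
    calc t * s * q * (t * s)⁻¹ = t * (s * q * s⁻¹) * t⁻¹ := by group
      _ = p := by rw [e1, e2]
  rw [e3] at h3
  have htm : t * m * t⁻¹ = m := conj_of_comm (D.N_comm hq ht hm.1)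
  have e4 : t * s * m * (t * s)⁻¹ = (t * c * t⁻¹) * m := by
    calc t * s * m * (t * s)⁻¹ = (t * c * t⁻¹) * (t * m * t⁻¹) := by rw [hcdef]; group
      _ = _ := by rw [htm]
  rw [e4] at h3
  -- `b = (t c t⁻¹ c⁻¹) (c m c⁻¹) ∈ B_N`
  have hb1 : (t * c * t⁻¹ * c⁻¹) * (c * m * c⁻¹) ∈ D.BN := by
    apply D.N_inf hp hq h1
    · have e : (t * c * t⁻¹ * c⁻¹) * (c * m * c⁻¹) = (t * c * t⁻¹) * m * c⁻¹ := by group
      rw [e]
      exact Subgroup.mul_mem _ h3.1 (Subgroup.inv_mem _ hc.1)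
    · refine Subgroup.mul_mem _ ?_ (D.NO_q hp hq hc hm.1)
      have h4 := Subgroup.inv_mem _ hc2.1
      have e : (c * t * c⁻¹ * t⁻¹)⁻¹ = t * c * t⁻¹ * c⁻¹ := by group
      rwa [e] at h4
  obtain ⟨b', hb', h5⟩ := D.CB_NO hp hq hc hm
  refine ⟨c, hc, b'⁻¹ * ((t * c * t⁻¹ * c⁻¹) * (c * m * c⁻¹)), Subgroup.mul_mem _ (Subgroup.inv_mem _ hb') hb1, ?_⟩
  have h6 : b'⁻¹ * (t * c * t⁻¹ * c⁻¹) = (t * c * t⁻¹ * c⁻¹) * b'⁻¹ := by
    refine D.BB_MQ (Subgroup.inv_mem _ hb').1 ?_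
    have hcM := D.N_MQ hp hc.1
    have htM := D.N_MQ hq ht
    exact Subgroup.mul_mem _ (Subgroup.mul_mem _ (Subgroup.mul_mem _ htM hcM) (Subgroup.inv_mem _ htM))
      (Subgroup.inv_mem _ hcM)
  calc m = b'⁻¹ * (c * m) * c⁻¹ := by rw [h5]; group
    _ = (c * t * c⁻¹ * t⁻¹) * ((t * c * t⁻¹ * c⁻¹) * b'⁻¹) * (c * m * c⁻¹) := by group
    _ = c * t * c⁻¹ * t⁻¹ * (b'⁻¹ * ((t * c * t⁻¹ * c⁻¹) * (c * m * c⁻¹))) := by rw [← h6]; group

end TS

end Cfsg.Agent.Omega.HOneTwo.Trans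

end

section


/-!
# II.0h1, `q = 2`, after the transvection statement: (10)-(13) of #16429, in the version of #17243

`TS.By y = B^h` for `y = z^h`, `h ∈ C(r 0)`. Under `TS.TB D S`:
* `TB.cent_eq`: an involution of `B` which is centralised by `S` is `z`;
* `TB.eleven`, `TB.twelve`, `TB.Gam_trans`;
* `TB.BB_eq : B = ⟨z⟩`, `TB.N0_eq : Rad = ⟨r 0⟩`, `TB.ZZ_or`, `TB.ZZ_not_both`.
-/

set_option autoImplicit false
set_option linter.unusedSectionVars false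

namespace Cfsg.Agent.Omega.HOneTwo.Trans

open Subgroup

universe u

variable {G : Type u} [Group G]

namespace TS

variable (D : TS G)

/-! ### `B_y` -/

/-- `B_y = B^h` for `y = z^h`, `h ∈ C(r 0)` -/
def By (y : G) : Subgroup G where
  carrier := {x | ∀ h, h * D.r 0 = D.r 0 * h → h * D.z * h⁻¹ = y → h⁻¹ * x * h ∈ D.BB}
  one_mem' := by
    intro h _ _
    rw [mul_one, inv_mul_cancel]
    exact Subgroup.one_mem _
  mul_mem' := by
    intro a b ha hb h h1 h2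
    have e : h⁻¹ * (a * b) * h = (h⁻¹ * a * h) * (h⁻¹ * b * h) := by group
    rw [e]
    exact Subgroup.mul_mem _ (ha h h1 h2) (hb h h1 h2)
  inv_mem' := by
    intro a ha h h1 h2
    have e : h⁻¹ * a⁻¹ * h = (h⁻¹ * a * h)⁻¹ := by group
    rw [e]
    exact Subgroup.inv_mem _ (ha h h1 h2)

theorem mem_By {h : G} (hh : h * D.r 0 = D.r 0 * h) {x : G} : x ∈ D.By (h * D.z * h⁻¹) ↔ h⁻¹ * x * h ∈ D.BB := by
  constructor
  · intro hx
    exact hx h hh rfl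
  · intro hx k hk e
    have h1 : k⁻¹ * h ∈ D.M := by
      apply D.M_r
      · rw [mul_assoc, hh, ← mul_assoc, inv_comm hk, mul_assoc]
      · have h2 : k⁻¹ * h * D.z * (k⁻¹ * h)⁻¹ = D.z := by
          calc k⁻¹ * h * D.z * (k⁻¹ * h)⁻¹ = k⁻¹ * (h * D.z * h⁻¹) * k := by group
            _ = D.z := by rw [← e]; group
        exact comm_of_conj h2
    have h2 := D.BB_conj (D.mem_A.2 h1) hx
    have e2 : k⁻¹ * h * (h⁻¹ * x * h) * (k⁻¹ * h)⁻¹ = k⁻¹ * x * k := by group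
    rwa [e2] at h2

theorem By_z : D.By D.z = D.BB := by
  ext x
  have h1 := D.mem_By (h := 1) (x := x) (by rw [one_mul, mul_one])
  rw [one_mul, inv_one, mul_one, one_mul, mul_one] at h1
  exact h1

theorem By_conj {k y x : G} (hk : k * D.r 0 = D.r 0 * k) (hx : x ∈ D.By y) :
    k * x * k⁻¹ ∈ D.By (k * y * k⁻¹) := by
  intro h hh e
  have h1 := hx (k⁻¹ * h) (by rw [mul_assoc, hh, ← mul_assoc, inv_comm hk, mul_assoc]) (by
    calc k⁻¹ * h * D.z * (k⁻¹ * h)⁻¹ = k⁻¹ * (h * D.z * h⁻¹) * k := by group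
      _ = y := by rw [e]; group)
  have e2 : (k⁻¹ * h)⁻¹ * x * (k⁻¹ * h) = h⁻¹ * (k * x * k⁻¹) * h := by group
  rwa [e2] at h1

theorem By_zt {y x : G} (hy : y ∈ D.Hs.Δ) (hx : x ∈ D.By y) : x ∈ zt (D.Q (D.r 0)) := by
  obtain ⟨h, hh, rfl⟩ := hy
  have h1 := (D.mem_By hh).1 hx
  have h2 := D.zt_conj' hh (h1 _ D.r0_Δ)
  have e : h * (h⁻¹ * x * h) * h⁻¹ = x := by group
  rwa [e] at h2

theorem self_By {y : G} (hy : y ∈ D.Hs.Δ) : y ∈ D.By y := by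
  obtain ⟨h, hh, rfl⟩ := hy
  rw [D.mem_By hh]
  have e : h⁻¹ * (h * D.z * h⁻¹) * h = D.z := by group
  rw [e]
  exact D.z_BB

theorem zHs : D.z ∈ D.Hs.Δ := self_mem_Delta _ _

theorem Hs_r {y : G} (hy : y ∈ D.Hs.Δ) : y * D.r 0 = D.r 0 * y := by
  obtain ⟨h, hh, rfl⟩ := hy
  exact D.y_r hh

/-- `φ' y b = 0` iff `b` centralises `U_y` -/
theorem φ'_iff {y b : G} : D.Hs.φ y b = 0 ↔ b ∈ centralizer (D.Uy y : Set G) := by
  unfold Side.φ
  by_cases h : b ∈ centralizer (D.Uy y : Set G)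
  · rw [if_pos (show b ∈ D.Hs.K y from h)]; exact ⟨fun _ => h, fun _ => rfl⟩
  · rw [if_neg (show b ∉ D.Hs.K y from h)]; exact ⟨fun h' => absurd h' one_ne_zero, fun h' => absurd h' h⟩

theorem mem_cU {y b : G} : b ∈ centralizer (D.Uy y : Set G) ↔ ∀ u ∈ D.Uy y, b * u = u * b := by
  rw [mem_centralizer_iff]
  exact ⟨fun h u hu => (h u hu).symm, fun h u hu => (h u hu).symm⟩

theorem cU_conj {k y b : G} (hk : k * D.r 0 = D.r 0 * k) (hb : b ∈ centralizer (D.Uy y : Set G)) :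
    k * b * k⁻¹ ∈ centralizer (D.Uy (k * y * k⁻¹) : Set G) := by
  rw [mem_cU] at hb ⊢
  intro u hu
  have h1 := D.Uy_conj (inv_comm hk) hu
  have e : k⁻¹ * (k * y * k⁻¹) * k⁻¹⁻¹ = y := by group
  rw [e] at h1
  have h2 := hb _ h1
  calc k * b * k⁻¹ * u = k * (b * (k⁻¹ * u * k⁻¹⁻¹)) * k⁻¹ := by group
    _ = u * (k * b * k⁻¹) := by rw [h2]; group

theorem cU_conj_iff {k y b : G} (hk : k * D.r 0 = D.r 0 * k) :
    k * b * k⁻¹ ∈ centralizer (D.Uy (k * y * k⁻¹) : Set G) ↔ b ∈ centralizer (D.Uy y : Set G) := by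
  refine ⟨fun h => ?_, D.cU_conj hk⟩
  have h1 := D.cU_conj (inv_comm hk) h
  have e : k⁻¹ * (k * y * k⁻¹) * k⁻¹⁻¹ = y := by group
  have e2 : k⁻¹ * (k * b * k⁻¹) * k⁻¹⁻¹ = b := by group
  rwa [e, e2] at h1

theorem φ'_conj {k y b : G} (hk : k * D.r 0 = D.r 0 * k) : D.Hs.φ (k * y * k⁻¹) (k * b * k⁻¹) = D.Hs.φ y b := by
  rcases zmod_cases (D.Hs.φ y b) with h | h
  · rw [h]
    exact D.φ'_iff.2 ((D.cU_conj_iff hk).2 (D.φ'_iff.1 h))
  · rw [h]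
    apply zmod_one
    intro h1
    have h2 := D.φ'_iff.2 ((D.cU_conj_iff hk).1 (D.φ'_iff.1 h1))
    rw [h] at h2
    exact one_ne_zero h2

/-- `g_y` is additive on `Z(Q₁)` -/
theorem cU_mul {y b c : G} (hy : y ∈ D.Hs.Δ) (hb : b ∈ zt (D.Q (D.r 0))) (hc : c ∈ zt (D.Q (D.r 0)))
    (h1 : b ∉ centralizer (D.Uy y : Set G)) (h2 : c ∉ centralizer (D.Uy y : Set G)) :
    b * c ∈ centralizer (D.Uy y : Set G) := by
  obtain ⟨h, hh, rfl⟩ := hy
  have hh' := inv_comm hh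
  have key : ∀ x ∈ zt (D.Q (D.r 0)), x ∉ centralizer (D.Uy (h * D.z * h⁻¹) : Set G) →
      ∀ u ∈ D.U, (h⁻¹ * x * h) * u * (h⁻¹ * x * h)⁻¹ = u * pw (D.r 0 * D.z) (D.φ (D.r 0) u) := by
    intro x hx hxU
    have hx' : h⁻¹ * x * h ∈ zt (D.Q (D.r 0)) := by
      have := D.zt_conj' hh' hx
      rwa [inv_inv] at this
    refine (D.zt_act0 hx').resolve_left fun h3 => hxU ?_
    rw [mem_cU]
    intro u hu
    have h4 := comm_of_conj (h3 _ (D.Uy_le hh hu))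
    calc x * u = h * ((h⁻¹ * x * h) * (h⁻¹ * u * h)) * h⁻¹ := by group
      _ = u * x := by rw [h4]; group
  rw [mem_cU]
  intro u hu
  have hu' := D.Uy_le hh hu
  have e1 := key b hb h1
  have e2 := key c hc h2
  have hr := D.r0_Δ
  have hrz : D.r 0 * D.z ∈ D.U := Subgroup.mul_mem _ (D.r_mem 0) D.z_mem
  have hp : pw (D.r 0 * D.z) (D.φ (D.r 0) (h⁻¹ * u * h)) ∈ D.U := D.Ms.pw_mem hrz _
  have h5 : (h⁻¹ * b * h) * (h⁻¹ * c * h) * (h⁻¹ * u * h) * ((h⁻¹ * b * h) * (h⁻¹ * c * h))⁻¹ = h⁻¹ * u * h := by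
    calc (h⁻¹ * b * h) * (h⁻¹ * c * h) * (h⁻¹ * u * h) * ((h⁻¹ * b * h) * (h⁻¹ * c * h))⁻¹
        = (h⁻¹ * b * h) * ((h⁻¹ * c * h) * (h⁻¹ * u * h) * (h⁻¹ * c * h)⁻¹) * (h⁻¹ * b * h)⁻¹ := by group
      _ = h⁻¹ * u * h := by
        rw [e2 _ hu', e1 _ (Subgroup.mul_mem _ hu' hp), D.φ_mul hr hu' hp,
          show D.φ (D.r 0) (pw (D.r 0 * D.z) (D.φ (D.r 0) (h⁻¹ * u * h))) = 0 from by
            rw [show D.φ (D.r 0) (pw (D.r 0 * D.z) (D.φ (D.r 0) (h⁻¹ * u * h))) =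
              D.φ (D.r 0) (h⁻¹ * u * h) * D.φ (D.r 0) (D.r 0 * D.z) from D.Ms.φ_pw hr _,
              D.φ_mul hr (D.r_mem 0) D.z_mem, D.φ_self hr, D.φ_z hr, add_zero, mul_zero], add_zero, mul_assoc,
          pw_zz _ (D.mul_self hrz), mul_one]
  have h6 := comm_of_conj h5
  calc b * c * u = h * ((h⁻¹ * b * h) * (h⁻¹ * c * h) * (h⁻¹ * u * h)) * h⁻¹ := by group
    _ = u * (b * c) := by rw [h6]; group

/-- the third point -/
theorem third {y : G} (hy : y ∈ D.Hs.Δ) (h1 : D.Hs.φ y D.z = 1) :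
    (∃ v ∈ D.Uy y, v * D.z * v⁻¹ = D.z * (y * D.r 0)) ∧ ∃ u ∈ D.U, u * y * u⁻¹ = D.z * (y * D.r 0) := by
  have hyU : y ∈ D.Hs.U := D.Hs.Δ_le hy
  have hzU : D.z ∈ D.Hs.U := D.Hs.Δ_le D.zHs
  refine ⟨⟨D.Hs.t y, D.Hs.t_mem hy, ?_⟩, D.Hs.t D.z, ?_, ?_⟩
  · rw [D.Hs.t_act hy hzU, h1, pw_one]; rfl
  · have := D.Hs.t_mem D.zHs
    rw [show D.Hs.N D.z = D.Uy D.z from rfl, D.Uy_z] at this
    exact this
  · rw [D.Hs.t_act D.zHs hyU, D.Hs.symm D.zHs hy, h1, pw_one, ← mul_assoc, D.Hs.U_comm hyU hzU, mul_assoc]; rfl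

/-- **(10)** -/
theorem ten {y b : G} (hy : y ∈ D.Hs.Δ) (h1 : D.Hs.φ y D.z = 1) (hb : b ∈ D.BB)
    (hbU : b ∈ centralizer (D.Uy y : Set G)) : b ∈ D.By y := by
  obtain ⟨⟨v, hv, e1⟩, u, hu, e2⟩ := D.third hy h1
  have hvr : v * D.r 0 = D.r 0 * v := mem_centralizer_singleton_iff.1 (D.Hs.N_le y hy hv)
  have hur : u * D.r 0 = D.r 0 * u := D.U_r hu
  rw [← D.By_z] at hb
  have h2 := D.By_conj hvr hb
  rw [conj_of_comm ((D.mem_cU.1 hbU v hv).symm), e1] at h2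
  rw [D.By_z] at hb
  have h3 := D.By_conj (inv_comm hur) h2
  have hub : u⁻¹ * b * u⁻¹⁻¹ = b := conj_of_comm (inv_comm (D.BB_U hb hu).symm)
  have e3 : u⁻¹ * (D.z * (y * D.r 0)) * u⁻¹⁻¹ = y := by rw [← e2]; group
  rwa [hub, e3] at h3

/-- `U ≤ ⟨r^{C(b)}⟩` for `b ∈ B` -/
theorem U_le_gen {b : G} (hb : b ∈ D.BB) : D.U ≤ gen b (D.r 0) := by
  have h1 : D.U = closure D.Δ := rfl
  rw [h1, closure_le]
  intro p hp
  obtain ⟨g, hg, rfl⟩ := D.MQ_trans D.r0_Δ hp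
  exact subset_closure ⟨g, (D.BB_MQ hb hg).symm, rfl⟩

theorem Uy_le_gen {b y : G} (hy : y ∈ D.Hs.Δ) (hb : b ∈ D.By y) : D.Uy y ≤ gen b (D.r 0) := by
  obtain ⟨h, hh, rfl⟩ := hy
  have h1 := (D.mem_By hh).1 hb
  intro u hu
  have h2 := D.U_le_gen h1 (D.Uy_le hh hu)
  have h3 := gen_conj h h2
  have e : h * (h⁻¹ * u * h) * h⁻¹ = u := by group
  have e2 : h * (h⁻¹ * b * h) * h⁻¹ = b := by group
  rwa [e, e2, conj_of_comm hh] at h3

theorem self_Uy {y : G} (hy : y ∈ D.Hs.Δ) : y ∈ D.Uy y := by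
  obtain ⟨h, hh, rfl⟩ := hy
  rw [D.mem_Uy hh]
  have e : h⁻¹ * (h * D.z * h⁻¹) * h = D.z := by group
  rw [e]
  exact D.z_mem

theorem r_By {y : G} (hy : y ∈ D.Hs.Δ) : D.r 0 ∉ D.By y := by
  obtain ⟨h, hh, rfl⟩ := hy
  rw [D.mem_By hh]
  have e : h⁻¹ * D.r 0 * h = D.r 0 := by
    have := conj_of_comm (inv_comm hh)
    rwa [inv_inv] at this
  rw [e]
  exact D.Δ_BB D.r0_Δ

end TS

/-- a normal nontrivial subgroup of a 2-group contains a central involution -/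
theorem exists_central_inv [Finite G] {S K : Subgroup G} (hS : IsPGroup 2 S) (hK : K ≤ S)
    (hn : ∀ s ∈ S, ∀ x ∈ K, s * x * s⁻¹ ∈ K) {b : G} (hb : b ∈ K) (hb1 : b ≠ 1) :
    ∃ f ∈ K, f ≠ 1 ∧ f * f = 1 ∧ ∀ s ∈ S, s * f = f * s := by
  classical
  have : Fact (Nat.Prime 2) := ⟨Nat.prime_two⟩
  have hJ : IsPGroup 2 K := hS.to_le hK
  let act : MulAction S K :=
    { smul := fun w j => ⟨w * j * (w : G)⁻¹, hn w w.2 j j.2⟩
      one_smul := fun j => Subtype.ext (by show ((1 : S) : G) * j * ((1 : S) : G)⁻¹ = j; simp)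
      mul_smul := fun w w' j => Subtype.ext (by
        show ((w * w' : S) : G) * j * ((w * w' : S) : G)⁻¹ = w * (w' * j * (w' : G)⁻¹) * (w : G)⁻¹
        rw [Subgroup.coe_mul, mul_inv_rev]; group) }
  have hd : 2 ∣ Nat.card K := by
    obtain ⟨k, hk⟩ := IsPGroup.iff_card.1 hJ
    rcases Nat.eq_zero_or_pos k with h0 | h0
    · exfalso
      rw [h0, pow_zero] at hk
      have h1 := Subgroup.card_eq_one.1 hk
      rw [h1] at hb
      exact hb1 (mem_bot.1 hb)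
    · rw [hk]; exact dvd_pow_self 2 (by omega)
  have h1 : (1 : K) ∈ MulAction.fixedPoints S K :=
    fun w => Subtype.ext (by show (w : G) * ((1 : K) : G) * (w : G)⁻¹ = _; simp)
  obtain ⟨a, ha, ha1⟩ := hS.exists_fixed_point_of_prime_dvd_card_of_fixed_point K hd h1
  have haS : ∀ s ∈ S, s * (a : G) = a * s := by
    intro w hw
    have h2 := congrArg Subtype.val (ha ⟨w, hw⟩)
    have h3 : w * (a : G) * w⁻¹ = a := h2
    rwa [mul_inv_eq_iff_eq_mul] at h3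
  have ha1' : (a : G) ≠ 1 := fun h => ha1 (Subtype.ext h.symm)
  -- a power of `a` is an involution
  obtain ⟨k, hk⟩ := (hJ.to_le (le_refl K)) a
  have hk' : (a : G) ^ 2 ^ k = 1 := by
    have := congrArg Subtype.val hk
    simpa using this
  have hex : ∃ n, (a : G) ^ 2 ^ n = 1 := ⟨k, hk'⟩
  set n := Nat.find hex with hndef
  have hn1 : (a : G) ^ 2 ^ n = 1 := Nat.find_spec hex
  have hn0 : n ≠ 0 := by
    intro h
    rw [h, pow_zero, pow_one] at hn1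
    exact ha1' hn1
  obtain ⟨m, hm⟩ := Nat.exists_eq_succ_of_ne_zero hn0
  have hlt : m < Nat.find hex := by rw [← hndef, hm]; exact Nat.lt_succ_self m
  refine ⟨(a : G) ^ 2 ^ m, K.pow_mem a.2 _, Nat.find_min hex hlt, ?_, fun s hs => ?_⟩
  · rw [← pow_add, ← two_mul, ← pow_succ']
    rw [hm] at hn1
    exact hn1
  · exact (Commute.pow_right (haS s hs) _)

namespace TS

variable (D : TS G)

/-! ### The Sylow group -/

/-- what is used of the Sylow group `S ≤ C(r 0) ∩ C(z)` -/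
structure TB (S : Subgroup G) : Prop where
  S_two : IsPGroup 2 S
  Q_S : D.Q (D.r 0) ≤ S
  S_r : ∀ s ∈ S, s * D.r 0 = D.r 0 * s
  S_z : ∀ s ∈ S, s * D.z = D.z * s
  /-- `O₂(H₁ / C(N₁)) = 1` -/
  hO : D.Hs.O2
  /-- Baer-Suzuki in `H₁` -/
  bs : ∀ u ∈ D.U, u ∉ D.Q (D.r 0) → ∃ h, h * D.r 0 = D.r 0 * h ∧ (u * (h * u * h⁻¹)) ^ 4 ≠ 1
  /-- `⟨r^{C(f)}⟩` is abelian for an involution `f ∈ Z(S)` -/
  ab : ∀ f, f * f = 1 → f ≠ 1 → (∀ s ∈ S, s * f = f * s) →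
    ∀ x ∈ gen f (D.r 0), ∀ y ∈ gen f (D.r 0), x * y = y * x

namespace TB

variable {D} {S : Subgroup G} (T : D.TB S)

include T

/-- **(8)**: `B ∩ Ω₁(Z(S)) = ⟨z⟩` -/
theorem cent_eq {f : G} (hf : f ∈ D.BB) (hf2 : f * f = 1) (hf1 : f ≠ 1) (hfS : ∀ s ∈ S, s * f = f * s) :
    f = D.z := by
  by_contra hfz
  -- an element of `U - Q₁`
  obtain ⟨u, hu, n, hn, hne⟩ := D.ts_ne
  have huU : u ∈ D.U := hu
  have huQ : u ∉ D.Q (D.r 0) := fun h => hne ((mem_zt.1 (D.N_le_zt 0 hn)).2 u h)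
  obtain ⟨h, hh, h4⟩ := T.bs u huU huQ
  have hy : h * D.z * h⁻¹ ∈ D.Hs.Δ := ⟨h, hh, rfl⟩
  have hv : h * u * h⁻¹ ∈ D.Uy (h * D.z * h⁻¹) := by
    rw [D.mem_Uy hh]
    have e : h⁻¹ * (h * u * h⁻¹) * h = u := by group
    rwa [e]
  -- some `e ∈ {f, z, f z}` centralises `U_y`
  have key : ∀ e ∈ D.BB, e * e = 1 → e ≠ 1 → (∀ s ∈ S, s * e = e * s) →
      e ∉ centralizer (D.Uy (h * D.z * h⁻¹) : Set G) := by
    intro e he he2 he1 heS hec
    apply h4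
    have hab := T.ab e he2 he1 heS
    have huA := D.U_le_gen he huU
    have hve := (D.mem_cU.1 hec _ hv).symm
    have hvuA := gen_inv (z := e) (r := D.r 0) hve huA
    have huu := D.mul_self huU
    have hvv : h * u * h⁻¹ * (h * u * h⁻¹) = 1 := by
      calc h * u * h⁻¹ * (h * u * h⁻¹) = h * (u * u) * h⁻¹ := by group
        _ = 1 := by rw [huu]; group
    set v := h * u * h⁻¹ with hvdef
    have hvi : v⁻¹ = v := inv_eq_of_mul_eq_one_left hvv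
    have hc := hab _ huA _ hvuA
    have hw : (v * u * v⁻¹) * (v * u * v⁻¹) = 1 := by
      calc (v * u * v⁻¹) * (v * u * v⁻¹) = v * (u * u) * v⁻¹ := by group
        _ = 1 := by rw [huu]; group
    have e1 : (u * v) ^ 2 = u * (v * u * v⁻¹) := by
      rw [pow_two, hvi]; group
    calc (u * v) ^ 4 = (u * v) ^ 2 * (u * v) ^ 2 := by rw [← pow_add]
      _ = u * (v * u * v⁻¹) * (u * (v * u * v⁻¹)) := by rw [e1]
      _ = u * ((v * u * v⁻¹) * u) * (v * u * v⁻¹) := by group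
      _ = u * (u * (v * u * v⁻¹)) * (v * u * v⁻¹) := by rw [← hc]
      _ = (u * u) * ((v * u * v⁻¹) * (v * u * v⁻¹)) := by group
      _ = 1 := by rw [huu, hw, one_mul]
  have hz := D.z_BB
  have hfz' : f * D.z = D.z * f := by
    have h5 := D.BB_U hf D.z_mem
    exact h5
  have h1 := key f hf hf2 hf1 hfS
  have h2 := key D.z hz D.z_sq D.z_ne T.S_z
  refine key (f * D.z) (Subgroup.mul_mem _ hf hz) ?_ ?_ ?_
    (D.cU_mul hy (hf _ D.r0_Δ) (hz _ D.r0_Δ) h1 h2)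
  · calc f * D.z * (f * D.z) = f * (D.z * f) * D.z := by group
      _ = (f * f) * (D.z * D.z) := by rw [← hfz']; group
      _ = 1 := by rw [hf2, D.z_sq, one_mul]
  · intro e
    apply hfz
    calc f = f * D.z * D.z := by rw [mul_assoc, D.z_sq, mul_one]
      _ = D.z := by rw [e, one_mul]
  · intro s hs
    rw [← mul_assoc, hfS s hs, mul_assoc, T.S_z s hs, mul_assoc]

/-- `⟨r^{C(b)}⟩` is abelian for `b = y` or `b = r y`, `y ∈ ZZ` -/
theorem ab_y {y b : G} (hy : y ∈ D.Hs.Δ) (hb : b = y ∨ b = D.r 0 * y) {v w : G} (hv : v ∈ gen b (D.r 0))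
    (hw : w ∈ gen b (D.r 0)) : v * w = w * v := by
  obtain ⟨h, hh, rfl⟩ := hy
  have hri : h⁻¹ * D.r 0 * h = D.r 0 := by
    have := conj_of_comm (inv_comm hh)
    rwa [inv_inv] at this
  have hv' := gen_conj h⁻¹ hv
  have hw' := gen_conj h⁻¹ hw
  rw [inv_inv, hri] at hv' hw'
  have hab : (h⁻¹ * v * h) * (h⁻¹ * w * h) = (h⁻¹ * w * h) * (h⁻¹ * v * h) := by
    have hzr : D.z * D.r 0 = D.r 0 * D.z := D.z_r
    rcases hb with rfl | rfl
    · have e : h⁻¹ * (h * D.z * h⁻¹) * h = D.z := by group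
      rw [e] at hv' hw'
      exact T.ab D.z D.z_sq D.z_ne T.S_z _ hv' _ hw'
    · have e : h⁻¹ * (D.r 0 * (h * D.z * h⁻¹)) * h = D.r 0 * D.z := by
        calc h⁻¹ * (D.r 0 * (h * D.z * h⁻¹)) * h = (h⁻¹ * D.r 0 * h) * D.z := by group
          _ = D.r 0 * D.z := by rw [hri]
      rw [e] at hv' hw'
      refine T.ab _ ?_ ?_ ?_ _ hv' _ hw'
      · exact D.mul_self (Subgroup.mul_mem _ (D.r_mem 0) D.z_mem)
      · exact D.Ms.pz_ne D.r0_Δ
      · intro s hs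
        rw [← mul_assoc, T.S_r s hs, mul_assoc, T.S_z s hs, mul_assoc]
  calc v * w = h * ((h⁻¹ * v * h) * (h⁻¹ * w * h)) * h⁻¹ := by group
    _ = w * v := by rw [hab]; group

/-- **(11)** -/
theorem eleven [Finite G] {y b : G} (hy : y ∈ D.Hs.Δ) (hb : b ∈ D.BB) (hyb : b = y ∨ b = D.r 0 * y) : y = D.z := by
  -- `φ' n z = 1 → φ' n y = 1`
  have key : ∀ n ∈ D.Hs.Δ, D.Hs.φ n D.z = 1 → D.Hs.φ n y = 1 := by
    intro n hn h1
    apply zmod_one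
    intro h0
    have hyc := D.φ'_iff.1 h0
    have hbc : b ∈ centralizer (D.Uy n : Set G) := by
      rcases hyb with rfl | rfl
      · exact hyc
      · exact Subgroup.mul_mem _ (D.Hs.zK n hn) hyc
    have hbn := D.ten hn h1 hb hbc
    have hnA := D.Uy_le_gen hn hbn (D.self_Uy hn)
    have h2 : n ∈ centralizer (D.Uy D.z : Set G) := by
      rw [D.mem_cU, D.Uy_z]
      intro u hu
      exact T.ab_y hy hyb hnA (D.U_le_gen hb hu)
    have h3 := D.φ'_iff.2 h2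
    rw [D.Hs.symm D.zHs hn, h1] at h3
    exact one_ne_zero h3
  -- equal numbers
  have heq : {n | n ∈ D.Hs.Δ ∧ D.Hs.φ n D.z = 1} = {n | n ∈ D.Hs.Δ ∧ D.Hs.φ n y = 1} := by
    have hsub : {n | n ∈ D.Hs.Δ ∧ D.Hs.φ n D.z = 1} ⊆ {n | n ∈ D.Hs.Δ ∧ D.Hs.φ n y = 1} :=
      fun n hn => ⟨hn.1, key n hn.1 hn.2⟩
    refine Set.eq_of_subset_of_ncard_le hsub ?_ (Set.toFinite _)
    obtain ⟨h, hh, rfl⟩ := hy
    have himg : {n | n ∈ D.Hs.Δ ∧ D.Hs.φ n (h * D.z * h⁻¹) = 1} ⊆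
        (fun n => h * n * h⁻¹) '' {n | n ∈ D.Hs.Δ ∧ D.Hs.φ n D.z = 1} := by
      rintro n ⟨hn, h1⟩
      refine ⟨h⁻¹ * n * h, ⟨?_, ?_⟩, by group⟩
      · have := D.Hs.Δ_conj h⁻¹ (mem_centralizer_singleton_iff.2 (inv_comm hh)) n hn
        rwa [inv_inv] at this
      · rw [← h1]
        have h2 := D.φ'_conj (y := h⁻¹ * n * h) (b := D.z) hh
        have e : h * (h⁻¹ * n * h) * h⁻¹ = n := by group
        rw [e] at h2
        exact h2.symm
    exact (Set.ncard_le_ncard himg (Set.toFinite _)).trans (Set.ncard_image_le (Set.toFinite _))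
  have hyU : y ∈ D.Hs.U := D.Hs.Δ_le hy
  have hzU : D.z ∈ D.Hs.U := D.Hs.Δ_le D.zHs
  have h0 : D.z * y ∈ D.Hs.U0 := by
    refine ⟨Subgroup.mul_mem _ hzU hyU, fun n hn => ?_⟩
    rw [D.Hs.φ_mul hn hzU hyU]
    rcases zmod_cases (D.Hs.φ n D.z) with h | h
    · rcases zmod_cases (D.Hs.φ n y) with h' | h'
      · rw [h, h', add_zero]
      · have h2 : n ∈ {n | n ∈ D.Hs.Δ ∧ D.Hs.φ n y = 1} := ⟨hn, h'⟩
        rw [← heq] at h2
        rw [h2.2] at h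
        exact absurd h one_ne_zero
    · rw [h, key n hn h]; decide
  have h1 : D.z * (D.z * y) = y := by rw [← mul_assoc, D.z_sq, one_mul]
  have h2 := D.Hs.inj T.hO D.zHs (by rw [h1]; exact hy) h0
  rw [h2, mul_one] at h1
  exact h1.symm

/-- **(11)** for `B_x` -/
theorem eleven_y [Finite G] {x y b : G} (hx : x ∈ D.Hs.Δ) (hy : y ∈ D.Hs.Δ) (hb : b ∈ D.By x)
    (hyb : b = y ∨ b = D.r 0 * y) : y = x := by
  obtain ⟨h, hh, rfl⟩ := hx
  have hri : h⁻¹ * D.r 0 * h = D.r 0 := by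
    have := conj_of_comm (inv_comm hh)
    rwa [inv_inv] at this
  have hy' : h⁻¹ * y * h ∈ D.Hs.Δ := by
    have := D.Hs.Δ_conj h⁻¹ (mem_centralizer_singleton_iff.2 (inv_comm hh)) y hy
    rwa [inv_inv] at this
  have h1 := T.eleven hy' ((D.mem_By hh).1 hb) (by
    rcases hyb with rfl | rfl
    · exact Or.inl rfl
    · right
      calc h⁻¹ * (D.r 0 * y) * h = (h⁻¹ * D.r 0 * h) * (h⁻¹ * y * h) := by group
        _ = _ := by rw [hri])
  rw [← h1]; group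

/-- **(12)** -/
theorem twelve [Finite G] {y b : G} (hy : y ∈ D.Hs.Δ) (hyb : y * b ∈ D.Hs.Δ) (hb : b ∈ D.BN)
    (h1 : D.Hs.φ y D.z = 1) : b = 1 := by
  by_cases hc : b ∈ centralizer (D.Uy y : Set G)
  · have h2 := D.ten hy h1 hb.1 hc
    have h3 := T.eleven_y hy hyb (Subgroup.mul_mem _ (D.self_By hy) h2) (Or.inl rfl)
    exact mul_eq_left.mp h3
  · exfalso
    have hzc : D.z ∉ centralizer (D.Uy y : Set G) := by
      intro h
      have h2 := D.φ'_iff.2 h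
      rw [h1] at h2
      exact one_ne_zero h2
    have h2 := D.cU_mul hy (D.z_BB _ D.r0_Δ) (hb.1 _ D.r0_Δ) hzc hc
    have h3 := D.ten hy h1 (Subgroup.mul_mem _ D.z_BB hb.1) h2
    -- `(y b)^{u_z} = r y (z b)`
    obtain ⟨-, u, hu, e2⟩ := D.third hy h1
    have hur : u * D.r 0 = D.r 0 * u := D.U_r hu
    have hub : u * b * u⁻¹ = b := conj_of_comm (D.BB_U hb.1 hu).symm
    have h4 := D.Hs.Δ_conj u (mem_centralizer_singleton_iff.2 hur) _ hyb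
    have e3 : u * (y * b) * u⁻¹ = D.z * (y * D.r 0) * b := by
      calc u * (y * b) * u⁻¹ = (u * y * u⁻¹) * (u * b * u⁻¹) := by group
        _ = _ := by rw [e2, hub]
    rw [e3] at h4
    have hyU : y ∈ D.Hs.U := D.Hs.Δ_le hy
    have hzU : D.z ∈ D.Hs.U := D.Hs.Δ_le D.zHs
    have hrU : D.r 0 ∈ D.Hs.U := D.Hs.z_mem
    have e4 : y * (D.z * b) = D.r 0 * (D.z * (y * D.r 0) * b) := by
      have hrr := D.r_sq 0
      calc y * (D.z * b) = (y * D.z) * b := by group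
        _ = (D.z * y) * b := by rw [D.Hs.U_comm hyU hzU]
        _ = (D.r 0 * D.r 0) * (D.z * y) * b := by rw [hrr, one_mul]
        _ = D.r 0 * (D.r 0 * (D.z * y)) * b := by group
        _ = D.r 0 * (D.z * y * D.r 0) * b := by rw [D.Hs.U_comm hrU (Subgroup.mul_mem _ hzU hyU)]
        _ = D.r 0 * (D.z * (y * D.r 0) * b) := by group
    have h5 := T.eleven_y hy h4 (Subgroup.mul_mem _ (D.self_By hy) h3) (Or.inr e4)
    -- then `z r b = 1`, `r ∈ B`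
    have h6 : D.z * D.r 0 * b = 1 := by
      have h7 : y * (D.z * D.r 0 * b) = y * 1 := by
        rw [mul_one]
        calc y * (D.z * D.r 0 * b) = (y * D.z) * D.r 0 * b := by group
          _ = D.z * (y * D.r 0) * b := by rw [D.Hs.U_comm hyU hzU]; group
          _ = y := h5
      exact mul_left_cancel h7
    have h7 : D.r 0 = D.z⁻¹ * b⁻¹ := by
      calc D.r 0 = D.z⁻¹ * (D.z * D.r 0 * b) * b⁻¹ := by group
        _ = D.z⁻¹ * b⁻¹ := by rw [h6, mul_one]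
    apply D.Δ_BB D.r0_Δ
    rw [h7]
    exact Subgroup.mul_mem _ (Subgroup.inv_mem _ D.z_BB) (Subgroup.inv_mem _ hb.1)

/-! ### (13) -/

omit T in
theorem φ'_z_mul {v w : G} (hv : v ∈ D.Hs.U) (hw : w ∈ D.Hs.U) :
    D.Hs.φ D.z (v * w) = D.Hs.φ D.z v + D.Hs.φ D.z w := D.Hs.φ_mul D.zHs hv hw

omit T in
/-- `z^⊥ = NO (r 0)` -/
theorem mem_NO_r {n : G} : n ∈ D.NO (D.r 0) ↔ n ∈ D.Hs.U ∧ D.Hs.φ D.z n = 0 := by
  rw [D.φ'_iff, D.Uy_z]; rfl

omit T in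
theorem not_cU {y : G} (h1 : D.Hs.φ D.z y = 1) : y ∉ centralizer (D.U : Set G) := by
  intro h
  have h2 : D.Hs.φ D.z y = 0 := by rw [D.φ'_iff, D.Uy_z]; exact h
  rw [h1] at h2
  exact one_ne_zero h2

omit T in
/-- conjugates by elements of `Γ` -/
theorem Gam_y {g y : G} (hg : g ∈ D.Gam) (hy : y ∈ D.Hs.Δ) (h1 : D.Hs.φ D.z y = 1) :
    g * y * g⁻¹ ∈ D.Hs.Δ ∧ D.Hs.φ D.z (g * y * g⁻¹) = 1 := by
  have hgr : g * D.r 0 = D.r 0 * g := D.Gam_U hg (D.r_mem 0)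
  have hgz : g * D.z = D.z * g := D.Gam_U hg D.z_mem
  refine ⟨D.Hs.Δ_conj g (mem_centralizer_singleton_iff.2 hgr) y hy, ?_⟩
  have h2 := D.φ'_conj (y := D.z) (b := y) hgr
  rw [conj_of_comm hgz] at h2
  rw [h2, h1]

omit T in
/-- for `y ∈ ZZ - z^⊥` and `m ∈ z^⊥`: `m y = y^n b` -/
theorem step {y m : G} (hy : y ∈ D.Hs.Δ) (h1 : D.Hs.φ D.z y = 1) (hm : m ∈ D.NO (D.r 0)) :
    ∃ n ∈ D.Gam, ∃ b ∈ D.BN, m * y = n * y * n⁻¹ * b := by
  obtain ⟨p, hp, h2⟩ := D.Ms.exists_nbr (p := D.r 0) D.r0_Δ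
  have h3 : D.φ p (D.r 0) = 1 := (D.φ_symm hp D.r0_Δ).trans h2
  have hyN : y ∈ gen (D.r 0) D.z := D.Hs.Δ_le hy
  obtain ⟨n, hn, b, hb, rfl⟩ := D.surj hp D.r0_Δ h3 hm hyN (not_cU h1)
  refine ⟨n, D.NO_le_Gam hp hn, b, hb, ?_⟩
  have h4 : b * y = y * b := D.BB_MQ hb.1 (D.N_MQ D.r0_Δ hyN)
  calc n * y * n⁻¹ * y⁻¹ * b * y = n * y * n⁻¹ * y⁻¹ * (b * y) := by group
    _ = n * y * n⁻¹ * b := by rw [h4]; group

/-- **(13)**: `Γ` is transitive on `ZZ - z^⊥` -/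
theorem Gam_trans [Finite G] {y y' : G} (hy : y ∈ D.Hs.Δ) (hy' : y' ∈ D.Hs.Δ) (h1 : D.Hs.φ D.z y = 1)
    (h1' : D.Hs.φ D.z y' = 1) : ∃ g ∈ D.Gam, g * y * g⁻¹ = y' := by
  have hyU : y ∈ D.Hs.U := D.Hs.Δ_le hy
  have hyU' : y' ∈ D.Hs.U := D.Hs.Δ_le hy'
  have hm : y' * y ∈ D.NO (D.r 0) := by
    rw [mem_NO_r]
    refine ⟨Subgroup.mul_mem _ hyU' hyU, ?_⟩
    rw [φ'_z_mul hyU' hyU, h1, h1']; decide
  obtain ⟨n, hn, b, hb, e⟩ := step hy h1 hm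
  have e1 : y' * y * y = y' := by rw [mul_assoc, D.Hs.U_sq y hyU, mul_one]
  rw [e1] at e
  obtain ⟨h2, h3⟩ := Gam_y hn hy h1
  rw [D.Hs.symm D.zHs h2] at h3
  have h4 := T.twelve h2 (by rw [← e]; exact hy') hb h3
  rw [h4, mul_one] at e
  exact ⟨n, hn, e.symm⟩

/-- elements of `B` which centralise one `U_y` -/
theorem ker_eq [Finite G] {y b : G} (hy : y ∈ D.Hs.Δ) (h1 : D.Hs.φ D.z y = 1) (hb : b ∈ D.BB)
    (hc : b ∈ centralizer (D.Uy y : Set G)) : b = 1 := by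
  classical
  -- the kernel
  let K : Subgroup G :=
    { carrier := {b | b ∈ D.BB ∧ ∀ y ∈ D.Hs.Δ, D.Hs.φ D.z y = 1 → b ∈ centralizer (D.Uy y : Set G)}
      one_mem' := ⟨Subgroup.one_mem _, fun _ _ _ => Subgroup.one_mem _⟩
      mul_mem' := fun ha hb => ⟨Subgroup.mul_mem _ ha.1 hb.1, fun y hy h =>
        Subgroup.mul_mem _ (ha.2 y hy h) (hb.2 y hy h)⟩
      inv_mem' := fun ha => ⟨Subgroup.inv_mem _ ha.1, fun y hy h => Subgroup.inv_mem _ (ha.2 y hy h)⟩ }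
  have hmem : ∀ x, x ∈ K ↔ x ∈ D.BB ∧ ∀ y ∈ D.Hs.Δ, D.Hs.φ D.z y = 1 → x ∈ centralizer (D.Uy y : Set G) :=
    fun _ => Iff.rfl
  have hbK : b ∈ K := by
    rw [hmem]
    refine ⟨hb, fun y' hy' h1' => ?_⟩
    obtain ⟨g, hg, rfl⟩ := T.Gam_trans hy hy' h1 h1'
    have hgr : g * D.r 0 = D.r 0 * g := D.Gam_U hg (D.r_mem 0)
    have h2 := D.cU_conj hgr hc
    rwa [conj_of_comm (D.BB_MQ hb (D.Gam_MQ hg)).symm] at h2
  have hKS : K ≤ S := fun x hx => T.Q_S (mem_zt.1 (hx.1 _ D.r0_Δ)).1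
  have hKn : ∀ s ∈ S, ∀ x ∈ K, s * x * s⁻¹ ∈ K := by
    intro s hs x hx
    rw [hmem] at hx ⊢
    have hsM := D.M_r s (T.S_r s hs) (T.S_z s hs)
    refine ⟨D.BB_conj (D.mem_A.2 hsM) hx.1, fun y hy h => ?_⟩
    have hsr := T.S_r s hs
    have hsz := T.S_z s hs
    have hy' : s⁻¹ * y * s⁻¹⁻¹ ∈ D.Hs.Δ :=
      D.Hs.Δ_conj s⁻¹ (mem_centralizer_singleton_iff.2 (inv_comm hsr)) y hy
    have h2 := D.φ'_conj (y := D.z) (b := y) (inv_comm hsr)
    rw [conj_of_comm (inv_comm hsz), h] at h2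
    have h3 := D.cU_conj hsr (hx.2 _ hy' h2)
    have e : s * (s⁻¹ * y * s⁻¹⁻¹) * s⁻¹ = y := by group
    rwa [e] at h3
  by_contra hne
  -- a central involution of `S` in `K`
  obtain ⟨f, hfK, hf1, hf2, hfS⟩ := exists_central_inv T.S_two hKS hKn hbK hne
  have h2 := T.cent_eq ((hmem f).1 hfK).1 hf2 hf1 hfS
  rw [h2] at hfK
  have h3 := D.φ'_iff.2 (((hmem _).1 hfK).2 y hy h1)
  rw [D.Hs.symm hy D.zHs, h1] at h3
  exact one_ne_zero h3

/-- a `y ∈ ZZ - z^⊥` -/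
theorem exists_y : ∃ y ∈ D.Hs.Δ, D.Hs.φ D.z y = 1 := D.Hs.exists_nbr D.zHs

/-- **`B = ⟨z⟩`** -/
theorem BB_eq [Finite G] {b : G} (hb : b ∈ D.BB) : b = 1 ∨ b = D.z := by
  obtain ⟨y, hy, h1⟩ := T.exists_y
  by_cases hc : b ∈ centralizer (D.Uy y : Set G)
  · exact Or.inl (T.ker_eq hy h1 hb hc)
  · right
    have hzc : D.z ∉ centralizer (D.Uy y : Set G) := by
      intro h
      have h2 := D.φ'_iff.2 h
      rw [D.Hs.symm hy D.zHs, h1] at h2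
      exact one_ne_zero h2
    have h2 := D.cU_mul hy (D.z_BB _ D.r0_Δ) (hb _ D.r0_Δ) hzc hc
    have h3 := T.ker_eq hy h1 (Subgroup.mul_mem _ D.z_BB hb) h2
    calc b = D.z * (D.z * b) := by rw [← mul_assoc, D.z_sq, one_mul]
      _ = D.z := by rw [h3, mul_one]

theorem BN_eq [Finite G] {b : G} (hb : b ∈ D.BN) : b = 1 ∨ b = D.z := T.BB_eq hb.1

omit T in
/-- `u_z` on `ZZ - z^⊥` -/
theorem mul_zr {y : G} (hy : y ∈ D.Hs.Δ) (h1 : D.Hs.φ D.z y = 1) : y * (D.z * D.r 0) ∈ D.Hs.Δ := by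
  have h2 := D.Hs.t_act D.zHs (D.Hs.Δ_le hy)
  rw [h1, pw_one] at h2
  have h3 := D.Hs.Δ_conj _ (D.Hs.t_A D.zHs) y hy
  rwa [h2] at h3

/-- for `n ∈ z^⊥` and `y ∈ ZZ - z^⊥` one of `n y`, `n y z` is in `ZZ` -/
theorem or_mul [Finite G] {y n : G} (hy : y ∈ D.Hs.Δ) (h1 : D.Hs.φ D.z y = 1) (hn : n ∈ D.NO (D.r 0)) :
    n * y ∈ D.Hs.Δ ∨ n * y * D.z ∈ D.Hs.Δ := by
  obtain ⟨g, hg, b, hb, e⟩ := step hy h1 hn
  have h2 := (Gam_y hg hy h1).1
  rcases T.BN_eq hb with rfl | rfl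
  · left; rw [e, mul_one]; exact h2
  · right; rw [e, mul_assoc _ D.z, D.z_sq, mul_one]; exact h2

/-- and not both -/
theorem not_both_z [Finite G] {y : G} (hy : y ∈ D.Hs.Δ) (h1 : D.Hs.φ D.z y = 1) : y * D.z ∉ D.Hs.Δ := by
  intro h
  rw [D.Hs.symm D.zHs hy] at h1
  exact D.z_ne (T.twelve hy h D.z_BN h1)

/-- **`N₀ = ⟨r⟩`** -/
theorem N0_eq [Finite G] {c : G} (hc : c ∈ D.Hs.U0) : c = 1 ∨ c = D.r 0 := by
  obtain ⟨y, hy, h1⟩ := T.exists_y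
  have hyU : y ∈ D.Hs.U := D.Hs.Δ_le hy
  have hzU : D.z ∈ D.Hs.U := D.Hs.Δ_le D.zHs
  have hrU : D.r 0 ∈ D.Hs.U := D.Hs.z_mem
  have hcU : c ∈ D.Hs.U := hc.1
  have hcN : c ∈ D.NO (D.r 0) := mem_NO_r.2 ⟨hcU, hc.2 _ D.zHs⟩
  rcases T.or_mul hy h1 hcN with h | h
  · left
    rw [D.Hs.U_comm hcU hyU] at h
    exact D.Hs.inj T.hO hy h hc
  · right
    have h2 : D.Hs.φ D.z (c * y * D.z) = 1 := by
      rw [φ'_z_mul (Subgroup.mul_mem _ hcU hyU) hzU, φ'_z_mul hcU hyU, h1, hc.2 _ D.zHs, D.Hs.φ_self D.zHs]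
      decide
    have h3 := mul_zr h h2
    have e : c * y * D.z * (D.z * D.r 0) = y * (c * D.r 0) := by
      calc c * y * D.z * (D.z * D.r 0) = (c * y) * (D.z * D.z) * D.r 0 := by group
        _ = y * (c * D.r 0) := by rw [D.z_sq, mul_one, D.Hs.U_comm hcU hyU, mul_assoc]
    rw [e] at h3
    have h4 := D.Hs.inj T.hO hy h3 (Subgroup.mul_mem _ hc D.Hs.z_U0)
    calc c = c * D.r 0 * D.r 0 := by rw [mul_assoc, D.r_sq, mul_one]
      _ = D.r 0 := by rw [h4, one_mul]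

/-- for `v ∈ N₁ - z^⊥` one of `v`, `v r` is in `ZZ` -/
theorem ZZ_or0 [Finite G] {v : G} (hv : v ∈ D.Hs.U) (h1 : D.Hs.φ D.z v = 1) :
    v ∈ D.Hs.Δ ∨ v * D.r 0 ∈ D.Hs.Δ := by
  obtain ⟨y, hy, h2⟩ := T.exists_y
  have hyU : y ∈ D.Hs.U := D.Hs.Δ_le hy
  have hzU : D.z ∈ D.Hs.U := D.Hs.Δ_le D.zHs
  have hn : v * y ∈ D.NO (D.r 0) := by
    rw [mem_NO_r]
    refine ⟨Subgroup.mul_mem _ hv hyU, ?_⟩
    rw [φ'_z_mul hv hyU, h1, h2]; decide
  have e : v * y * y = v := by rw [mul_assoc, D.Hs.U_sq y hyU, mul_one]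
  rcases T.or_mul hy h2 hn with h | h
  · left; rwa [e] at h
  · right
    rw [e] at h
    have h3 : D.Hs.φ D.z (v * D.z) = 1 := by
      rw [φ'_z_mul hv hzU, h1, D.Hs.φ_self D.zHs, add_zero]
    have h4 := mul_zr h h3
    have e2 : v * D.z * (D.z * D.r 0) = v * D.r 0 := by
      calc v * D.z * (D.z * D.r 0) = v * (D.z * D.z) * D.r 0 := by group
        _ = v * D.r 0 := by rw [D.z_sq, mul_one]
    rwa [e2] at h4

/-- **`ZZ → (N₁/R₁)#` is onto** -/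
theorem ZZ_or [Finite G] {v : G} (hv : v ∈ gen (D.r 0) D.z) (h1 : v ≠ 1) (hr : v ≠ D.r 0) :
    v ∈ D.Hs.Δ ∨ v * D.r 0 ∈ D.Hs.Δ := by
  have hv' : v ∈ D.Hs.U := hv
  obtain ⟨y, hy, h2⟩ : ∃ y ∈ D.Hs.Δ, D.Hs.φ y v = 1 := by
    by_contra hcon
    push Not at hcon
    have h0 : v ∈ D.Hs.U0 := ⟨hv', fun y hy => (zmod_cases _).resolve_right (hcon y hy)⟩
    rcases T.N0_eq h0 with h | h
    · exact h1 h
    · exact hr h
  obtain ⟨h, hh, rfl⟩ := hy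
  have hhA : h ∈ D.Hs.A := mem_centralizer_singleton_iff.2 hh
  have hv2 : h⁻¹ * v * h ∈ D.Hs.U := by
    have := D.Hs.U_conj h⁻¹ (Subgroup.inv_mem _ hhA) v hv'
    rwa [inv_inv] at this
  have h3 : D.Hs.φ D.z (h⁻¹ * v * h) = 1 := by
    have h4 := D.φ'_conj (y := D.z) (b := h⁻¹ * v * h) hh
    have e : h * (h⁻¹ * v * h) * h⁻¹ = v := by group
    rw [e, h2] at h4
    exact h4.symm
  rcases T.ZZ_or0 hv2 h3 with h4 | h4
  · left
    have h5 := D.Hs.Δ_conj h hhA _ h4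
    have e : h * (h⁻¹ * v * h) * h⁻¹ = v := by group
    rwa [e] at h5
  · right
    have h5 := D.Hs.Δ_conj h hhA _ h4
    have e : h * (h⁻¹ * v * h * D.r 0) * h⁻¹ = v * D.r 0 := by
      calc h * (h⁻¹ * v * h * D.r 0) * h⁻¹ = v * (h * D.r 0 * h⁻¹) := by group
        _ = v * D.r 0 := by rw [conj_of_comm hh]
    rwa [e] at h5

/-- **`ZZ → (N₁/R₁)#` is injective** -/
theorem ZZ_not_both {v : G} (hv : v ∈ D.Hs.Δ) : v * D.r 0 ∉ D.Hs.Δ := by
  intro h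
  have h1 := D.Hs.inj T.hO hv h D.Hs.z_U0
  exact D.Ms.one_notin D.r0_Δ h1

end TB

end TS

end Cfsg.Agent.Omega.HOneTwo.Trans

end

section


/-!
# II.0h1, `q = 2`: the bilinear form of a full side (helper467, #16429)

A side is full if `U = {1, z} ∪ Δ ∪ Δ z` and `Δ ∩ Δ z = ∅`.  Then `f u v` (the functional of the member of
`{u, u z}` in `Δ`) is a symmetric alternating bilinear form on `U` with radical `{1, z}`; every homomorphism
`U → F₂` with `z` in the kernel is `f u` for some `u`.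
-/

set_option autoImplicit false
set_option maxHeartbeats 400000
set_option linter.unusedSectionVars false

namespace Cfsg.Agent.Omega.HOneTwo.Trans

open Subgroup

universe u

namespace Side

variable {G : Type u} [Group G] (D : Side G)

/-- `U = {1, z} ∪ Δ ∪ Δ z`, `Δ ∩ Δ z = ∅` -/
structure IsFull : Prop where
  full : ∀ u ∈ D.U, u = 1 ∨ u = D.z ∨ u ∈ D.Δ ∨ u * D.z ∈ D.Δ
  inj : ∀ p ∈ D.Δ, p * D.z ∉ D.Δ

open Classical in
/-- the bilinear form -/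
noncomputable def f (u v : G) : ZMod 2 :=
  if u ∈ D.Δ then D.φ u v else if u * D.z ∈ D.Δ then D.φ (u * D.z) v else 0

variable {D}

theorem f_Δ {p v : G} (hp : p ∈ D.Δ) : D.f p v = D.φ p v := by
  unfold f; rw [if_pos hp]

namespace IsFull

variable (h : D.IsFull)
include h

theorem zz : D.z * D.z = 1 := D.U_sq _ D.z_mem

theorem f_Δz {u v : G} (hp : u * D.z ∈ D.Δ) : D.f u v = D.φ (u * D.z) v := by
  have h1 : u ∉ D.Δ := by
    intro h2
    exact h.inj u h2 hp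
  unfold f; rw [if_neg h1, if_pos hp]

theorem f_one {v : G} : D.f 1 v = 0 := by
  have h1 : (1 : G) ∉ D.Δ := fun h' => D.one_notin h' rfl
  have h2 : (1 : G) * D.z ∉ D.Δ := by
    rw [one_mul]
    exact fun h' => D.z_notin h' rfl
  unfold f; rw [if_neg h1, if_neg h2]

theorem f_z {v : G} : D.f D.z v = 0 := by
  have h1 : D.z ∉ D.Δ := fun h' => D.z_notin h' rfl
  have h2 : D.z * D.z ∉ D.Δ := by
    rw [h.zz]
    exact fun h' => D.one_notin h' rfl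
  unfold f; rw [if_neg h1, if_neg h2]

/-- the cases for `u ∈ U` -/
theorem cases {u : G} (hu : u ∈ D.U) : (u = 1 ∨ u = D.z) ∨ ∃ p ∈ D.Δ, (u = p ∨ u = p * D.z) := by
  rcases h.full u hu with h1 | h1 | h1 | h1
  · exact Or.inl (Or.inl h1)
  · exact Or.inl (Or.inr h1)
  · exact Or.inr ⟨u, h1, Or.inl rfl⟩
  · refine Or.inr ⟨u * D.z, h1, Or.inr ?_⟩
    rw [mul_assoc, h.zz, mul_one]

theorem f_pz {p v : G} (hp : p ∈ D.Δ) : D.f (p * D.z) v = D.φ p v := by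
  have e : p * D.z * D.z = p := by rw [mul_assoc, h.zz, mul_one]
  have := h.f_Δz (u := p * D.z) (v := v) (by rw [e]; exact hp)
  rw [this, e]

theorem f_mul_right {u v w : G} (hv : v ∈ D.U) (hw : w ∈ D.U) (hu : u ∈ D.U) :
    D.f u (v * w) = D.f u v + D.f u w := by
  rcases h.cases hu with (rfl | rfl) | ⟨p, hp, rfl | rfl⟩
  · rw [h.f_one, h.f_one, h.f_one, add_zero]
  · rw [h.f_z, h.f_z, h.f_z, add_zero]
  · rw [f_Δ hp, f_Δ hp, f_Δ hp, D.φ_mul hp hv hw]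
  · rw [h.f_pz hp, h.f_pz hp, h.f_pz hp, D.φ_mul hp hv hw]

theorem f_right_one {u : G} (hu : u ∈ D.U) : D.f u 1 = 0 := by
  rcases h.cases hu with (rfl | rfl) | ⟨p, hp, rfl | rfl⟩
  · exact h.f_one
  · exact h.f_z
  · rw [f_Δ hp, D.φ_one hp]
  · rw [h.f_pz hp, D.φ_one hp]

theorem f_right_z {u : G} (hu : u ∈ D.U) : D.f u D.z = 0 := by
  rcases h.cases hu with (rfl | rfl) | ⟨p, hp, rfl | rfl⟩
  · exact h.f_one
  · exact h.f_z
  · rw [f_Δ hp, D.φ_z hp]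
  · rw [h.f_pz hp, D.φ_z hp]

theorem φ_mul_z {p v : G} (hp : p ∈ D.Δ) (hv : v ∈ D.U) : D.φ p (v * D.z) = D.φ p v := by
  rw [D.φ_mul hp hv D.z_mem, D.φ_z hp, add_zero]

theorem f_symm {u v : G} (hu : u ∈ D.U) (hv : v ∈ D.U) : D.f u v = D.f v u := by
  rcases h.cases hu with (rfl | rfl) | ⟨p, hp, rfl | rfl⟩
  · rw [h.f_one, h.f_right_one hv]
  · rw [h.f_z, h.f_right_z hv]
  · rcases h.cases hv with (rfl | rfl) | ⟨q, hq, rfl | rfl⟩
    · rw [h.f_one, h.f_right_one hu]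
    · rw [h.f_z, h.f_right_z hu]
    · rw [f_Δ hp, f_Δ hq, D.symm hp hq]
    · rw [f_Δ hp, h.f_pz hq, h.φ_mul_z hp (D.Δ_le hq), D.symm hp hq]
  · rcases h.cases hv with (rfl | rfl) | ⟨q, hq, rfl | rfl⟩
    · rw [h.f_one, h.f_right_one hu]
    · rw [h.f_z, h.f_right_z hu]
    · rw [h.f_pz hp, f_Δ hq, h.φ_mul_z hq (D.Δ_le hp), D.symm hp hq]
    · rw [h.f_pz hp, h.f_pz hq, h.φ_mul_z hq (D.Δ_le hp), h.φ_mul_z hp (D.Δ_le hq), D.symm hp hq]

theorem f_mul_left {u v w : G} (hu : u ∈ D.U) (hv : v ∈ D.U) (hw : w ∈ D.U) :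
    D.f (u * v) w = D.f u w + D.f v w := by
  rw [h.f_symm (D.U.mul_mem hu hv) hw, h.f_mul_right hu hv hw, h.f_symm hw hu, h.f_symm hw hv]

theorem f_self {u : G} (hu : u ∈ D.U) : D.f u u = 0 := by
  rcases h.cases hu with (h1 | h1) | ⟨p, hp, h1 | h1⟩
  · rw [h1]; exact h.f_one
  · rw [h1]; exact h.f_z
  · rw [h1, f_Δ hp, D.φ_self hp]
  · rw [h1, h.f_pz hp, h.φ_mul_z hp (D.Δ_le hp), D.φ_self hp]

/-- the radical of `f` is `{1, z}` -/
theorem rad {u : G} (hu : u ∈ D.U) (h0 : ∀ p ∈ D.Δ, D.f u p = 0) : u = 1 ∨ u = D.z := by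
  rcases h.cases hu with h1 | ⟨p, hp, hup⟩
  · exact h1
  · exfalso
    obtain ⟨q, hq, h1⟩ := D.exists_nbr hp
    have h2 := h0 q hq
    rcases hup with rfl | rfl
    · rw [f_Δ hp, h1] at h2
      exact one_ne_zero h2
    · rw [h.f_pz hp, h1] at h2
      exact one_ne_zero h2

theorem f_conj {m u v : G} (hm : m ∈ D.A) (hu : u ∈ D.U) (hv : v ∈ D.U) :
    D.f (m * u * m⁻¹) (m * v * m⁻¹) = D.f u v := by
  have hz : m * D.z * m⁻¹ = D.z := by rw [D.z_comm m hm, mul_inv_cancel_right]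
  rcases h.cases hu with (rfl | rfl) | ⟨p, hp, rfl | rfl⟩
  · rw [mul_one, mul_inv_cancel, h.f_one, h.f_one]
  · rw [hz, h.f_z, h.f_z]
  · rw [f_Δ (D.Δ_conj m hm u hp), f_Δ hp, D.φ_conj hm hp hv]
  · have e : m * (p * D.z) * m⁻¹ = m * p * m⁻¹ * D.z := by
      calc m * (p * D.z) * m⁻¹ = m * p * m⁻¹ * (m * D.z * m⁻¹) := by group
        _ = _ := by rw [hz]
    rw [e, h.f_pz (D.Δ_conj m hm p hp), h.f_pz hp, D.φ_conj hm hp hv]

end IsFull

/-- duality for a form on a finite elementary abelian group with radical `{1, z}` -/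
theorem dual_exists {E : Type u} [CommGroup E] [Finite E] (hsq : ∀ u : E, u * u = 1) (f : E → E → ZMod 2)
    (hl : ∀ u v w, f (u * v) w = f u w + f v w) (hr : ∀ u v w, f u (v * w) = f u v + f u w)
    (z : E) (hz : ∀ u, f u z = 0) (rad : ∀ u, (∀ v, f u v = 0) → u = 1 ∨ u = z)
    (ψ : E → ZMod 2) (hψ : ∀ u v, ψ (u * v) = ψ u + ψ v) (hψz : ψ z = 0) : ∃ u, ∀ v, ψ v = f u v := by
  letI : Module (ZMod 2) (Additive E) := AddCommGroup.zmodModule (n := 2) (by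
    intro x
    change (2 : ℕ) • x = 0
    rw [two_nsmul]
    exact hsq x.toMul)
  have : Finite (Additive E) := inferInstanceAs (Finite E)
  have : Module.Finite (ZMod 2) (Additive E) := Module.Finite.of_finite
  have f1 : ∀ u, f u 1 = 0 := by
    intro u
    have := hr u 1 1
    rw [mul_one] at this
    simpa using this
  have f1' : ∀ v, f 1 v = 0 := by
    intro u
    have := hl 1 1 u
    rw [mul_one] at this
    simpa using this
  have ψ1 : ψ 1 = 0 := by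
    have := hψ 1 1
    rw [mul_one] at this
    simpa using this
  let F (u : E) : Module.Dual (ZMod 2) (Additive E) :=
    AddMonoidHom.toZModLinearMap 2
      { toFun := fun v => f u v.toMul, map_zero' := f1 u, map_add' := fun v w => hr u _ _ }
  let B : Additive E →ₗ[ZMod 2] Module.Dual (ZMod 2) (Additive E) :=
    AddMonoidHom.toZModLinearMap 2
      { toFun := fun u => F u.toMul
        map_zero' := by
          apply LinearMap.ext
          intro v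
          exact f1' _
        map_add' := by
          intro u w
          apply LinearMap.ext
          intro v
          exact hl _ _ _ }
  let Ψ : Module.Dual (ZMod 2) (Additive E) :=
    AddMonoidHom.toZModLinearMap 2
      { toFun := fun v => ψ v.toMul, map_zero' := ψ1, map_add' := fun v w => hψ _ _ }
  let W : Submodule (ZMod 2) (Additive E) := Submodule.span (ZMod 2) {Additive.ofMul z}
  have h1 : LinearMap.range B ≤ W.dualAnnihilator := by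
    rintro _ ⟨u, rfl⟩
    rw [Submodule.mem_dualAnnihilator]
    intro w hw
    obtain ⟨c, rfl⟩ := Submodule.mem_span_singleton.1 hw
    rw [map_smul]
    have : B u (Additive.ofMul z) = 0 := hz _
    rw [this, smul_zero]
  have h2 : LinearMap.ker B ≤ W := by
    intro u hu
    have h3 : ∀ v, f u.toMul v = 0 := by
      intro v
      have := LinearMap.congr_fun (LinearMap.mem_ker.1 hu) (Additive.ofMul v)
      exact this
    rcases rad _ h3 with h4 | h4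
    · have : u = 0 := h4
      rw [this]
      exact W.zero_mem
    · have : u = Additive.ofMul z := h4
      rw [this]
      exact Submodule.mem_span_singleton_self _
  have h3 := LinearMap.finrank_range_add_finrank_ker B
  have h4 := Subspace.finrank_add_finrank_dualAnnihilator_eq W
  have h5 := Submodule.finrank_mono h2
  have h6 : LinearMap.range B = W.dualAnnihilator :=
    Submodule.eq_of_le_of_finrank_le h1 (by omega)
  have h7 : Ψ ∈ W.dualAnnihilator := by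
    rw [Submodule.mem_dualAnnihilator]
    intro w hw
    obtain ⟨c, rfl⟩ := Submodule.mem_span_singleton.1 hw
    rw [map_smul]
    have : Ψ (Additive.ofMul z) = 0 := hψz
    rw [this, smul_zero]
  rw [← h6] at h7
  obtain ⟨u, hu⟩ := h7
  refine ⟨u.toMul, fun v => ?_⟩
  have := LinearMap.congr_fun hu (Additive.ofMul v)
  exact this.symm

theorem mz1 {p q : G} (hp : p ∈ D.Δ) (hq : q ∈ D.Δ) (h1 : D.φ p q = 1) : p * q * D.z ∈ D.Δ := by
  have h2 := D.t_act hp (D.Δ_le hq)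
  rw [h1, pw_one] at h2
  have h3 := D.Δ_conj _ (D.t_A hp) q hq
  rw [h2] at h3
  have e : q * (p * D.z) = p * q * D.z := by
    rw [← mul_assoc, D.U_comm (D.Δ_le hq) (D.Δ_le hp)]
  rwa [e] at h3

/-- a full side whose `Δ` is closed under products of perpendicular members -/
structure IsOrth : Prop extends D.IsFull where
  mm : ∀ p ∈ D.Δ, ∀ q ∈ D.Δ, p ≠ q → D.φ p q = 0 → p * q ∈ D.Δ

namespace IsOrth

variable (h : D.IsOrth)
include h

theorem mz {p q : G} (hp : p ∈ D.Δ) (hq : q ∈ D.Δ) (h1 : D.φ p q = 1) : p * q * D.z ∈ D.Δ := by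
  have h2 := D.t_act hp (D.Δ_le hq)
  rw [h1, pw_one] at h2
  have h3 := D.Δ_conj _ (D.t_A hp) q hq
  rw [h2] at h3
  have e : q * (p * D.z) = p * q * D.z := by
    rw [← mul_assoc, D.U_comm (D.Δ_le hq) (D.Δ_le hp)]
  rwa [e] at h3

/-- the extension of a function on `Δ` -/
theorem exists_rep [Finite G] (ψ : G → ZMod 2)
    (h1 : ∀ p ∈ D.Δ, ∀ q ∈ D.Δ, D.φ p q = 1 → ψ (p * q * D.z) = ψ p + ψ q)
    (h0 : ∀ p ∈ D.Δ, ∀ q ∈ D.Δ, p ≠ q → D.φ p q = 0 → ψ (p * q) = ψ p + ψ q) :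
    ∃ u ∈ D.U, ∀ p ∈ D.Δ, ψ p = D.φ p u := by
  classical
  have zz := h.toIsFull.zz
  let Ψ : G → ZMod 2 := fun u => if u ∈ D.Δ then ψ u else if u * D.z ∈ D.Δ then ψ (u * D.z) else 0
  have ex : ∀ u : G, u * D.z * D.z = u := fun u => by rw [mul_assoc, zz, mul_one]
  have a1 : ∀ u ∈ D.Δ, Ψ u = ψ u := fun u hu => if_pos hu
  have a2 : ∀ u, Ψ (u * D.z) = Ψ u := by
    intro u
    by_cases hu : u ∈ D.Δ
    · have h3 : u * D.z ∉ D.Δ := h.inj u hu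
      have h4 : u * D.z * D.z ∈ D.Δ := by rw [ex]; exact hu
      show (if u * D.z ∈ D.Δ then ψ (u * D.z) else if u * D.z * D.z ∈ D.Δ then ψ (u * D.z * D.z) else 0) =
        if u ∈ D.Δ then ψ u else if u * D.z ∈ D.Δ then ψ (u * D.z) else 0
      rw [if_neg h3, if_pos h4, if_pos hu, ex]
    · by_cases h3 : u * D.z ∈ D.Δ
      · show (if u * D.z ∈ D.Δ then ψ (u * D.z) else if u * D.z * D.z ∈ D.Δ then ψ (u * D.z * D.z) else 0) =
          if u ∈ D.Δ then ψ u else if u * D.z ∈ D.Δ then ψ (u * D.z) else 0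
        rw [if_pos h3, if_neg hu, if_pos h3]
      · have h4 : u * D.z * D.z ∉ D.Δ := by rw [ex]; exact hu
        show (if u * D.z ∈ D.Δ then ψ (u * D.z) else if u * D.z * D.z ∈ D.Δ then ψ (u * D.z * D.z) else 0) =
          if u ∈ D.Δ then ψ u else if u * D.z ∈ D.Δ then ψ (u * D.z) else 0
        rw [if_neg h3, if_neg h4, if_neg hu, if_neg h3]
  have a3 : Ψ 1 = 0 := by
    have h3 : (1 : G) ∉ D.Δ := fun h' => D.one_notin h' rfl
    have h4 : (1 : G) * D.z ∉ D.Δ := by rw [one_mul]; exact fun h' => D.z_notin h' rfl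
    show (if (1 : G) ∈ D.Δ then ψ 1 else if (1 : G) * D.z ∈ D.Δ then ψ (1 * D.z) else 0) = 0
    rw [if_neg h3, if_neg h4]
  have a4 : Ψ D.z = 0 := by
    have := a2 1
    rw [one_mul] at this
    rw [this, a3]
  -- additivity on `Δ`
  have b1 : ∀ p ∈ D.Δ, ∀ q ∈ D.Δ, Ψ (p * q) = Ψ p + Ψ q := by
    intro p hp q hq
    by_cases hpq : p = q
    · subst hpq
      rw [D.U_sq p (D.Δ_le hp), a3]
      have : ∀ c : ZMod 2, 0 = c + c := by decide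
      exact this _
    · rcases zmod_cases (D.φ p q) with h3 | h3
      · rw [a1 _ (h.mm p hp q hq hpq h3), a1 p hp, a1 q hq, h0 p hp q hq hpq h3]
      · rw [← a2, a1 _ (h.mz hp hq h3), a1 p hp, a1 q hq, h1 p hp q hq h3]
  have b2 : ∀ u ∈ D.U, ∀ v ∈ D.U, Ψ (u * v) = Ψ u + Ψ v := by
    intro u hu v hv
    have key : ∀ p ∈ D.Δ, ∀ v ∈ D.U, Ψ (p * v) = Ψ p + Ψ v := by
      intro p hp v hv
      rcases h.toIsFull.cases hv with (h3 | h3) | ⟨q, hq, h3 | h3⟩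
      · rw [h3, mul_one, a3, add_zero]
      · rw [h3, a2, a4, add_zero]
      · rw [h3, b1 p hp q hq]
      · rw [h3, ← mul_assoc, a2, a2, b1 p hp q hq]
    rcases h.toIsFull.cases hu with (h3 | h3) | ⟨q, hq, h3 | h3⟩
    · rw [h3, one_mul, a3, zero_add]
    · rw [h3, D.U_comm D.z_mem hv, a2, a4, zero_add]
    · rw [h3, key q hq v hv]
    · rw [h3, a2, mul_assoc, D.U_comm D.z_mem hv, ← mul_assoc, a2, key q hq v hv]
  letI : CommGroup D.U := { (inferInstance : Group D.U) with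
    mul_comm := fun a b => Subtype.ext (D.U_comm a.2 b.2) }
  obtain ⟨u, hu⟩ := dual_exists (E := D.U) (fun u => Subtype.ext (D.U_sq _ u.2)) (fun u v => D.f u v)
    (fun u v w => h.toIsFull.f_mul_left u.2 v.2 w.2) (fun u v w => h.toIsFull.f_mul_right v.2 w.2 u.2)
    ⟨D.z, D.z_mem⟩ (fun u => h.toIsFull.f_right_z u.2)
    (fun u hu => by
      rcases h.toIsFull.rad u.2 (fun p hp => hu ⟨p, D.Δ_le hp⟩) with h3 | h3
      · exact Or.inl (Subtype.ext h3)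
      · exact Or.inr (Subtype.ext h3))
    (fun u => Ψ u) (fun u v => b2 _ u.2 _ v.2) a4
  refine ⟨u, u.2, fun p hp => ?_⟩
  have h3 := hu ⟨p, D.Δ_le hp⟩
  rw [← f_Δ hp, h.toIsFull.f_symm (D.Δ_le hp) u.2, ← h3, ← a1 p hp]

end IsOrth

end Side

end Cfsg.Agent.Omega.HOneTwo.Trans

end

section


/-!
# II.0h1, `q = 2`: (14) of #16429 (helper467), abstract form

`Four S O`: the side of `M`, `O = O₂(M)`, `K p = Q_p`.  An `x ∈ O` which acts on every `N_p` as `1` or as the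
elements of `U` do (`Loc`) lies in `U`.
-/

set_option autoImplicit false
set_option maxHeartbeats 400000
set_option linter.unusedSectionVars false

namespace Cfsg.Agent.Omega.HOneTwo.Trans

open Subgroup

universe u

variable {G : Type u} [Group G]

/-- the hypotheses of (14) -/
structure Four (S : Side G) (O : Subgroup G) : Prop where
  orth : S.IsOrth
  O_A : O ≤ S.A
  O_conj : ∀ m ∈ S.A, ∀ x ∈ O, m * x * m⁻¹ ∈ O
  O_U : ∀ x ∈ O, ∀ u ∈ S.U, x * u = u * x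
  U_O : S.U ≤ O
  K_A : ∀ p ∈ S.Δ, S.K p ≤ S.A
  N_sq : ∀ p ∈ S.Δ, ∀ n ∈ S.N p, n * n = 1
  K_conj : ∀ m ∈ S.A, ∀ p ∈ S.Δ, ∀ x ∈ S.K p, m * x * m⁻¹ ∈ S.K (m * p * m⁻¹)
  K_cent : ∀ p ∈ S.Δ, ∀ x ∈ S.K p, x * p = p * x
  K_der : ∀ p ∈ S.Δ, ∀ x ∈ S.K p, ∀ y ∈ S.K p, x * y = y * x ∨ x * y = p * (y * x)
  K_tr : ∀ p ∈ S.Δ, ∀ q ∈ S.Δ, q ∈ S.K p → q ≠ p → ∃ g ∈ S.K p, g * q * g⁻¹ = p * q
  O_K : ∀ p ∈ S.Δ, ∀ x ∈ O, (∀ n ∈ S.N p, x * n * x⁻¹ = n) → x ∈ S.K p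
  cen : ∀ x ∈ O, (∀ p ∈ S.Δ, x ∈ S.K p) → (∀ p ∈ S.Δ, ∀ y ∈ S.K p, x * y = y * x) → x = 1 ∨ x = S.z

namespace Side

variable (S : Side G)

/-- `n` does not centralise `U` -/
def NC (n : G) : Prop := ¬ ∀ u ∈ S.U, n * u * n⁻¹ = u

/-- `x` acts on each `N_p` as `1` or as an element of `U` -/
def Loc (x : G) : Prop := ∀ p ∈ S.Δ, (∀ n ∈ S.N p, ¬ S.NC n → x * n * x⁻¹ = n) ∧
  ((∀ n ∈ S.N p, x * n * x⁻¹ = n) ∨ ∀ n ∈ S.N p, S.NC n → x * n * x⁻¹ = n * (p * S.z))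

open Classical in
/-- the function `ψ_x` -/
noncomputable def psi (x p : G) : ZMod 2 := if x * S.t p * x⁻¹ = S.t p then 0 else 1

variable {S}

theorem t_NC {p : G} (hp : p ∈ S.Δ) : S.NC (S.t p) := by
  intro h
  obtain ⟨u, hu, h1⟩ := S.φ_ne hp
  have h2 := S.t_act hp hu
  rw [h u hu, h1, pw_one, left_eq_mul] at h2
  exact S.pz_ne hp h2

theorem NC_conj {m n : G} (hm : m ∈ S.A) (hn : S.NC n) : S.NC (m * n * m⁻¹) := by
  intro h
  apply hn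
  intro u hu
  have h1 := h (m * u * m⁻¹) (S.U_conj m hm u hu)
  calc n * u * n⁻¹ = m⁻¹ * (m * n * m⁻¹ * (m * u * m⁻¹) * (m * n * m⁻¹)⁻¹) * m := by group
    _ = u := by rw [h1]; group

theorem NC_conj' {m n : G} (hm : m ∈ S.A) (hn : S.NC (m * n * m⁻¹)) : S.NC n := by
  have := NC_conj (S.A.inv_mem hm) hn
  have e : m⁻¹ * (m * n * m⁻¹) * m⁻¹⁻¹ = n := by group
  rwa [e] at this

theorem loc_act {x : G} (hx : S.Loc x) {p n : G} (hp : p ∈ S.Δ) (hn : n ∈ S.N p) (hnc : S.NC n) :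
    x * n * x⁻¹ = n * pw (p * S.z) (S.psi x p) := by
  rcases (hx p hp).2 with h | h
  · rw [h n hn]
    unfold psi
    rw [if_pos (h _ (S.t_mem hp)), pw_zero, mul_one]
  · rw [h n hn hnc]
    unfold psi
    rw [if_neg, pw_one]
    rw [h _ (S.t_mem hp) (t_NC hp)]
    intro h1
    rw [mul_eq_left] at h1
    exact S.pz_ne hp h1

theorem loc_fix {x : G} (hx : S.Loc x) {p n : G} (hp : p ∈ S.Δ) (hn : n ∈ S.N p) (h0 : S.psi x p = 0) :
    x * n * x⁻¹ = n := by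
  by_cases hnc : S.NC n
  · rw [loc_act hx hp hn hnc, h0, pw_zero, mul_one]
  · exact (hx p hp).1 n hn hnc

theorem loc_mul {x y : G} (hx : S.Loc x) (hy : S.Loc y) (hxU : ∀ u ∈ S.U, x * u = u * x) : S.Loc (x * y) := by
  intro p hp
  have key : ∀ n, x * y * n * (x * y)⁻¹ = x * (y * n * y⁻¹) * x⁻¹ := fun n => by group
  have hpx : x * (p * S.z) * x⁻¹ = p * S.z := by rw [hxU _ (S.pz_mem hp), mul_inv_cancel_right]
  have key2 : ∀ n, x * (n * (p * S.z)) * x⁻¹ = x * n * x⁻¹ * (p * S.z) := fun n => by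
    calc x * (n * (p * S.z)) * x⁻¹ = x * n * x⁻¹ * (x * (p * S.z) * x⁻¹) := by group
      _ = _ := by rw [hpx]
  refine ⟨fun n hn hnc => ?_, ?_⟩
  · rw [key, (hy p hp).1 n hn hnc, (hx p hp).1 n hn hnc]
  · rcases (hx p hp).2 with h1 | h1 <;> rcases (hy p hp).2 with h2 | h2
    · exact Or.inl fun n hn => by rw [key, h2 n hn, h1 n hn]
    · exact Or.inr fun n hn hnc => by rw [key, h2 n hn hnc, key2, h1 n hn]
    · exact Or.inr fun n hn hnc => by rw [key, h2 n hn, h1 n hn hnc]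
    · left
      intro n hn
      by_cases hnc : S.NC n
      · rw [key, h2 n hn hnc, key2, h1 n hn hnc, mul_assoc, S.pz_sq hp, mul_one]
      · rw [key, (hy p hp).1 n hn hnc, (hx p hp).1 n hn hnc]

end Side

namespace Four

variable {S : Side G} {O : Subgroup G} (F : Four S O)
include F

theorem t_inv {p : G} (hp : p ∈ S.Δ) : (S.t p)⁻¹ = S.t p := inv_eq_of_mul_eq_one_left (F.N_sq p hp _ (S.t_mem hp))

/-- for `u ∈ U`: `u n u⁻¹ = n (p z)^{φ p u}` -/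
theorem U_act {p u n : G} (hp : p ∈ S.Δ) (hu : u ∈ S.U) (hn : n ∈ S.N p) (hnc : S.NC n) :
    u * n * u⁻¹ = n * pw (p * S.z) (S.φ p u) := by
  have h0 := F.N_sq p hp n hn
  have hninv : n⁻¹ = n := inv_eq_of_mul_eq_one_left h0
  have h1 : n * u * n⁻¹ = u * pw (p * S.z) (S.φ p u) := by
    rcases S.act p hp n hn with h | h
    · exact absurd h hnc
    · have h2 := h u hu
      by_cases hk : u ∈ S.K p
      · have : S.φ p u = 0 := if_pos hk
        rw [this, pw_zero, mul_one]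
        exact h2.1 hk
      · have : S.φ p u = 1 := if_neg hk
        rw [this, pw_one]
        exact h2.2 hk
  have h2 : n * (u * n * u⁻¹) = pw (p * S.z) (S.φ p u) := by
    calc n * (u * n * u⁻¹) = (n * u * n⁻¹) * u⁻¹ := by rw [hninv]; group
      _ = u * pw (p * S.z) (S.φ p u) * u⁻¹ := by rw [h1]
      _ = pw (p * S.z) (S.φ p u) := by
        rw [S.U_comm hu (S.pw_mem (S.pz_mem hp) _), mul_inv_cancel_right]
  calc u * n * u⁻¹ = n * (n * (u * n * u⁻¹)) := by rw [← mul_assoc, h0, one_mul]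
    _ = _ := by rw [h2]

theorem U_loc {u : G} (hu : u ∈ S.U) : S.Loc u := by
  intro p hp
  have h0 : ∀ n ∈ S.N p, ¬ S.NC n → u * n * u⁻¹ = n := by
    intro n hn hnc
    unfold Side.NC at hnc
    push Not at hnc
    have h1 := hnc u hu
    have h2 : n * u = u * n := comm_of_conj h1
    rw [← h2, mul_inv_cancel_right]
  refine ⟨h0, ?_⟩
  rcases zmod_cases (S.φ p u) with h | h
  · left
    intro n hn
    by_cases hnc : S.NC n
    · rw [F.U_act hp hu hn hnc, h, pw_zero, mul_one]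
    · exact h0 n hn hnc
  · right
    intro n hn hnc
    rw [F.U_act hp hu hn hnc, h, pw_one]

theorem psi_U {u p : G} (hu : u ∈ S.U) (hp : p ∈ S.Δ) : S.psi u p = S.φ p u := by
  have h1 := Side.loc_act (F.U_loc hu) hp (S.t_mem hp) (Side.t_NC hp)
  have h2 := F.U_act hp hu (S.t_mem hp) (Side.t_NC hp)
  rw [h1] at h2
  exact pw_inj (S.pz_ne hp) (mul_left_cancel h2)

theorem psi_mul {x u p : G} (hx : S.Loc x) (hxU : ∀ u ∈ S.U, x * u = u * x) (hu : u ∈ S.U) (hp : p ∈ S.Δ) :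
    S.psi (x * u) p = S.psi x p + S.φ p u := by
  have h0 := Side.loc_mul hx (F.U_loc hu) hxU
  have h1 := Side.loc_act h0 hp (S.t_mem hp) (Side.t_NC hp)
  have hpx : ∀ c, x * pw (p * S.z) c * x⁻¹ = pw (p * S.z) c := fun c => by
    rw [hxU _ (S.pw_mem (S.pz_mem hp) c), mul_inv_cancel_right]
  have h2 : x * u * S.t p * (x * u)⁻¹ = S.t p * pw (p * S.z) (S.psi x p + S.φ p u) := by
    calc x * u * S.t p * (x * u)⁻¹ = x * (u * S.t p * u⁻¹) * x⁻¹ := by group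
      _ = x * (S.t p * pw (p * S.z) (S.φ p u)) * x⁻¹ := by rw [F.U_act hp hu (S.t_mem hp) (Side.t_NC hp)]
      _ = (x * S.t p * x⁻¹) * (x * pw (p * S.z) (S.φ p u) * x⁻¹) := by group
      _ = S.t p * pw (p * S.z) (S.psi x p) * pw (p * S.z) (S.φ p u) := by
        rw [Side.loc_act hx hp (S.t_mem hp) (Side.t_NC hp), hpx]
      _ = _ := by rw [mul_assoc, ← pw_add (S.pz_sq hp)]
  rw [h1] at h2
  exact pw_inj (S.pz_ne hp) (mul_left_cancel h2)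

/-- (i) -/
theorem psi_one {x p q : G} (hx : S.Loc x) (hp : p ∈ S.Δ) (hq : q ∈ S.Δ) (h1 : S.φ p q = 1) :
    S.psi x (p * q * S.z) = S.psi x p + S.psi x q := by
  have hp' := F.orth.mz hp hq h1
  have hq1 : S.φ q p = 1 := (S.symm hq hp).trans h1
  set a := S.psi x p with ha
  set b := S.psi x q with hb
  have hpU := S.Δ_le hp
  have hqU := S.Δ_le hq
  have htA := S.t_A hp
  have ht := Side.loc_act hx hp (S.t_mem hp) (Side.t_NC hp)
  have hs := Side.loc_act hx hq (S.t_mem hq) (Side.t_NC hq)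
  rw [← ha] at ht
  rw [← hb] at hs
  have e1 : S.t p * q * (S.t p)⁻¹ = p * q * S.z := by
    rw [S.t_act hp hqU, h1, pw_one, ← mul_assoc, S.U_comm hqU hpU]
  have hn := S.N_conj _ htA q hq _ (S.t_mem hq)
  rw [e1] at hn
  have hnc := Side.NC_conj htA (Side.t_NC hq)
  have h2 := Side.loc_act hx hp' hn hnc
  -- `A s = s A (q z)^a`
  have hA : pw (p * S.z) a ∈ S.U := S.pw_mem (S.pz_mem hp) a
  have hB : ∀ c, pw (q * S.z) c ∈ S.U := fun c => S.pw_mem (S.pz_mem hq) c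
  have e2 : S.φ q (pw (p * S.z) a) = a := by
    rw [S.φ_pw hq, S.φ_pz hp hq, hq1, mul_one]
  have e3 : pw (p * S.z) a * S.t q = S.t q * (pw (p * S.z) a * pw (q * S.z) a) := by
    have h3 := S.t_act hq hA
    rw [e2, F.t_inv hq] at h3
    have h4 := F.N_sq q hq _ (S.t_mem hq)
    calc pw (p * S.z) a * S.t q = (S.t q * S.t q) * (pw (p * S.z) a * S.t q) := by rw [h4, one_mul]
      _ = S.t q * (S.t q * pw (p * S.z) a * S.t q) := by group
      _ = _ := by rw [h3]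
  have e4 : S.t p * (q * S.z) * (S.t p)⁻¹ = p * q * S.z * S.z := by
    calc S.t p * (q * S.z) * (S.t p)⁻¹ = (S.t p * q * (S.t p)⁻¹) * (S.t p * S.z * (S.t p)⁻¹) := by group
      _ = _ := by rw [e1, S.z_comm _ htA, mul_inv_cancel_right]
  have h3 : x * (S.t p * S.t q * (S.t p)⁻¹) * x⁻¹ = S.t p * S.t q * (S.t p)⁻¹ * pw (p * q * S.z * S.z) (a + b) := by
    calc x * (S.t p * S.t q * (S.t p)⁻¹) * x⁻¹
        = (x * S.t p * x⁻¹) * (x * S.t q * x⁻¹) * (x * S.t p * x⁻¹)⁻¹ := by group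
      _ = S.t p * ((pw (p * S.z) a * S.t q) * pw (q * S.z) b * (pw (p * S.z) a)⁻¹) * (S.t p)⁻¹ := by
        rw [ht, hs]; group
      _ = S.t p * (S.t q * (pw (p * S.z) a * (pw (q * S.z) a * pw (q * S.z) b) * (pw (p * S.z) a)⁻¹)) * (S.t p)⁻¹ := by
        rw [e3]; group
      _ = S.t p * (S.t q * pw (q * S.z) (a + b)) * (S.t p)⁻¹ := by
        rw [← pw_add (S.pz_sq hq), S.U_comm hA (hB _), mul_inv_cancel_right]
      _ = S.t p * S.t q * (S.t p)⁻¹ * (S.t p * pw (q * S.z) (a + b) * (S.t p)⁻¹) := by group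
      _ = _ := by rw [pw_conj, e4]
  rw [h2] at h3
  exact pw_inj (S.pz_ne hp') (mul_left_cancel h3)

/-- (ii) -/
theorem psi_zero {x p q : G} (hxO : x ∈ O) (hx : S.Loc x) (hp : p ∈ S.Δ) (hq : q ∈ S.Δ) (hne : p ≠ q)
    (h0 : S.φ p q = 0) : S.psi x (p * q) = S.psi x p + S.psi x q := by
  have hr := F.orth.mm p hp q hq hne h0
  have hpU := S.Δ_le hp
  have hqU := S.Δ_le hq
  -- the case `ψ_x p = 0`
  have key : ∀ x ∈ O, S.Loc x → S.psi x p = 0 → S.psi x (p * q) = S.psi x q := by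
    intro x hxO hx hp0
    have hxK : x ∈ S.K p := F.O_K p hp x hxO fun n hn => Side.loc_fix hx hp hn hp0
    have hqK : q ∈ S.K p := by
      by_contra h
      have : S.φ p q = 1 := if_neg h
      rw [this] at h0
      exact one_ne_zero h0
    obtain ⟨g, hg, hgq⟩ := F.K_tr p hp q hq hqK hne.symm
    have hgA := F.K_A p hp hg
    obtain ⟨s, hs⟩ : ∃ s, s = S.t q := ⟨_, rfl⟩
    have hsN : s ∈ S.N q := by rw [hs]; exact S.t_mem hq
    have hsnc : S.NC s := by rw [hs]; exact Side.t_NC hq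
    have hss := F.N_sq q hq _ hsN
    have hsA : s ∈ S.A := by rw [hs]; exact S.t_A hq
    have hsp : s * p * s⁻¹ = p := by
      rw [hs, S.t_act hq hpU, S.symm hq hp, h0, pw_zero, mul_one]
    have hgN := S.N_conj g hgA q hq _ hsN
    rw [hgq] at hgN
    have hgnc := Side.NC_conj hgA hsnc
    have hd : s * (g * s * g⁻¹) ∈ S.K p := by
      have h1 := F.K_conj s hsA p hp g hg
      rw [hsp] at h1
      have h2 := (S.K p).mul_mem h1 ((S.K p).inv_mem hg)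
      have hsi : s⁻¹ = s := inv_eq_of_mul_eq_one_left hss
      rw [hsi] at h2
      have e : s * (g * s * g⁻¹) = s * g * s * g⁻¹ := by group
      rw [e]; exact h2
    set b := S.psi x q with hb
    set c := S.psi x (p * q) with hc
    have hsx := Side.loc_act hx hq hsN hsnc
    have hgx := Side.loc_act hx hr hgN hgnc
    rw [← hb] at hsx
    rw [← hc] at hgx
    -- `q` commutes with `s ^ g`
    have hqz : q * S.z ∈ S.U := S.pz_mem hq
    have hcomm : ∀ c, (g * s * g⁻¹) * pw (q * S.z) c = pw (q * S.z) c * (g * s * g⁻¹) := by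
      intro c
      apply comm_of_conj
      have h1 : ∀ u ∈ S.U, S.φ (p * q) u = 0 → (g * s * g⁻¹) * u * (g * s * g⁻¹)⁻¹ = u := by
        intro u hu h2
        rcases S.act _ hr _ hgN with h3 | h3
        · exact h3 u hu
        · exact (h3 u hu).1 (by
            by_contra h4
            have : S.φ (p * q) u = 1 := if_neg h4
            rw [this] at h2
            exact one_ne_zero h2)
      apply h1 _ (S.pw_mem hqz c)
      rw [S.φ_pw hr, S.φ_pz hq hr, S.symm hr hq, S.φ_mul hq hpU hqU, S.φ_self hq, add_zero, S.symm hq hp, h0,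
        mul_zero]
    have hxd : x * (s * (g * s * g⁻¹)) * x⁻¹ =
        s * (g * s * g⁻¹) * (pw (q * S.z) b * pw (p * q * S.z) c) := by
      calc x * (s * (g * s * g⁻¹)) * x⁻¹ = (x * s * x⁻¹) * (x * (g * s * g⁻¹) * x⁻¹) := by group
        _ = s * (pw (q * S.z) b * (g * s * g⁻¹)) * pw (p * q * S.z) c := by rw [hsx, hgx]; group
        _ = _ := by rw [← hcomm]; group
    have hw : pw (q * S.z) b * pw (p * q * S.z) c = 1 ∨ pw (q * S.z) b * pw (p * q * S.z) c = p := by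
      rcases F.K_der p hp x hxK _ hd with h1 | h1
      · left
        have h2 := conj_of_comm h1
        rw [hxd] at h2
        exact mul_eq_left.1 h2
      · right
        have h2 : x * (s * (g * s * g⁻¹)) * x⁻¹ = p * (s * (g * s * g⁻¹)) := by
          rw [h1]; group
        rw [hxd, ← F.K_cent p hp _ hd] at h2
        exact mul_left_cancel h2
    have hpz : p * S.z ≠ q := fun h => F.orth.inj p hp (h ▸ hq)
    have hpqz : p * q * S.z ≠ 1 := by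
      intro h
      apply hpz
      have h1 : p * q = S.z := by
        have := mul_eq_one_iff_eq_inv.1 h
        rw [this, S.U_inv S.z_mem]
      rw [← h1, ← mul_assoc, S.U_sq p hpU, one_mul]
    have hqz1 : q * S.z ≠ 1 := S.pz_ne hq
    have hqzp : q * S.z ≠ p := by
      intro h
      apply F.orth.inj q hq
      rw [h]; exact hp
    have hpqzp : p * q * S.z ≠ p := by
      intro h
      rw [mul_assoc, mul_eq_left] at h
      exact hqz1 h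
    rcases zmod_cases b with h1 | h1 <;> rcases zmod_cases c with h2 | h2
    · rw [h1, h2]
    · rw [h1, h2, pw_zero, pw_one, one_mul] at hw
      exact absurd hw (not_or.2 ⟨hpqz, hpqzp⟩)
    · rw [h1, h2, pw_zero, pw_one, mul_one] at hw
      exact absurd hw (not_or.2 ⟨hqz1, hqzp⟩)
    · rw [h1, h2]
  -- reduce to this case
  have hxU := F.O_U x hxO
  obtain ⟨u, hu, h1⟩ : ∃ u ∈ S.U, S.φ p u = S.psi x p := by
    rcases zmod_cases (S.psi x p) with h | h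
    · exact ⟨1, S.U.one_mem, by rw [h, S.φ_one hp]⟩
    · obtain ⟨u, hu, h2⟩ := S.φ_ne hp
      exact ⟨u, hu, by rw [h, h2]⟩
  have h2 := F.psi_mul hx hxU hu hp
  have h3 : S.psi (x * u) p = 0 := by
    rw [h2, h1]
    have : ∀ c : ZMod 2, c + c = 0 := by decide
    exact this _
  have h4 := key (x * u) (O.mul_mem hxO (F.U_O hu)) (Side.loc_mul hx (F.U_loc hu) hxU) h3
  rw [F.psi_mul hx hxU hu hr, F.psi_mul hx hxU hu hq] at h4
  have h5 : S.φ (p * q) u = S.φ p u + S.φ q u := by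
    have h6 := F.orth.f_mul_left hpU hqU hu
    rwa [Side.f_Δ hr, Side.f_Δ hp, Side.f_Δ hq] at h6
  rw [h5, h1] at h4
  have h6 : ∀ a b c d : ZMod 2, a + (b + c) = d + c → a = b + d := by decide
  exact h6 _ _ _ _ h4

/-- **(14)** -/
theorem four [Finite G] {x : G} (hxO : x ∈ O) (hx : S.Loc x) : x ∈ S.U := by
  obtain ⟨u, hu, h1⟩ := F.orth.exists_rep (S.psi x) (fun p hp q hq h => F.psi_one hx hp hq h)
    (fun p hp q hq hne h => F.psi_zero hxO hx hp hq hne h)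
  have hxU := F.O_U x hxO
  have hyL := Side.loc_mul hx (F.U_loc hu) hxU
  have hyO : x * u ∈ O := O.mul_mem hxO (F.U_O hu)
  have hy0 : ∀ p ∈ S.Δ, ∀ n ∈ S.N p, x * u * n * (x * u)⁻¹ = n := by
    intro p hp n hn
    apply Side.loc_fix hyL hp hn
    rw [F.psi_mul hx hxU hu hp, h1 p hp]
    have : ∀ c : ZMod 2, c + c = 0 := by decide
    exact this _
  -- the subgroup `B'`
  let B : Subgroup G :=
    { carrier := {y | y ∈ O ∧ ∀ p ∈ S.Δ, ∀ n ∈ S.N p, y * n * y⁻¹ = n}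
      one_mem' := ⟨O.one_mem, fun p hp n hn => by group⟩
      mul_mem' := by
        rintro a b ⟨ha, ha'⟩ ⟨hb, hb'⟩
        refine ⟨O.mul_mem ha hb, fun p hp n hn => ?_⟩
        calc a * b * n * (a * b)⁻¹ = a * (b * n * b⁻¹) * a⁻¹ := by group
          _ = n := by rw [hb' p hp n hn, ha' p hp n hn]
      inv_mem' := by
        rintro a ⟨ha, ha'⟩
        refine ⟨O.inv_mem ha, fun p hp n hn => ?_⟩
        calc a⁻¹ * n * a⁻¹⁻¹ = a⁻¹ * (a * n * a⁻¹) * a⁻¹⁻¹ := by rw [ha' p hp n hn]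
          _ = n := by group }
  have hBconj : ∀ m ∈ S.A, ∀ y ∈ B, m * y * m⁻¹ ∈ B := by
    rintro m hm y ⟨hy, hy'⟩
    refine ⟨F.O_conj m hm y hy, fun p hp n hn => ?_⟩
    have hm' := S.A.inv_mem hm
    have h2 := hy' _ (S.Δ_conj _ hm' p hp) _ (S.N_conj _ hm' p hp n hn)
    calc m * y * m⁻¹ * n * (m * y * m⁻¹)⁻¹ = m * (y * (m⁻¹ * n * m⁻¹⁻¹) * y⁻¹) * m⁻¹ := by group
      _ = n := by rw [h2]; group
  have hBcen : ∀ y ∈ B, ∀ p ∈ S.Δ, ∀ k ∈ S.K p, y * k = k * y := by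
    intro y hy p hp k hk
    have hyK : y ∈ S.K p := F.O_K p hp y hy.1 fun n hn => hy.2 p hp n hn
    rcases F.K_der p hp y hyK k hk with h2 | h2
    · exact h2
    · exfalso
      have h3 := hBconj k (F.K_A p hp hk) y⁻¹ (B.inv_mem hy)
      have h4 : p ∈ B := by
        have h5 := B.mul_mem hy h3
        have e : y * (k * y⁻¹ * k⁻¹) = p := by
          calc y * (k * y⁻¹ * k⁻¹) = (y * k) * (k * y)⁻¹ := by group
            _ = p := by rw [h2]; group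
        rwa [e] at h5
      obtain ⟨q, hq, h5⟩ := S.exists_nbr hp
      have h6 := h4.2 q hq _ (S.t_mem hq)
      have h7 := F.U_act hq (S.Δ_le hp) (S.t_mem hq) (Side.t_NC hq)
      rw [h6, S.symm hq hp, h5, pw_one, left_eq_mul] at h7
      exact S.pz_ne hq h7
  have hyB : x * u ∈ B := ⟨hyO, hy0⟩
  have h2 := F.cen _ hyO (fun p hp => F.O_K p hp _ hyO fun n hn => hy0 p hp n hn) (hBcen _ hyB)
  have h3 : x * u ∈ S.U := by
    rcases h2 with h | h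
    · rw [h]; exact S.U.one_mem
    · rw [h]; exact S.z_mem
  have h4 := S.U.mul_mem h3 (S.U.inv_mem hu)
  rwa [mul_inv_cancel_right] at h4

end Four

end Cfsg.Agent.Omega.HOneTwo.Trans

end
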