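import Cfsg.Agent.Mrg.Omega.HTwo.EightOne
import Cfsg.Agent.Mrg.Omega.HOneTwo.TwoFourTS
import Mathlib
import Cfsg.Agent.Mrg.Omega.HOneTwo.TransMain

section


/-!
# II.0h1, `q = 2`, F4-type: the instance `Γ / U` of `OpSys` ((17) of #16429)

`OpD G`: RESULT A (`Eight.Res`) with the output of (13), (14), (16): `Γ = ⟨N_p ∩ C(U) : p ∈ Δ⟩`, `[O₂(M), Γ] ≤ ⟨z⟩`,
`N_p ∩ N_q = ⟨z⟩` (`f p q = 1`), `U ∩ N_p = ⟨p, z⟩`, `C' = U`.

* `OpD.S = Γ / U` (additive), `OpD.E = U` (additive), `OpD.cl : G → S`, `OpD.T : E → S →+ S`;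
* `OpD.ops : OpSys f T`, `OpD.gen`, `OpD.mem_range`.
-/

set_option autoImplicit false
set_option linter.unusedSectionVars false

namespace Cfsg.Agent.Omega.HOneTwo.OpInst

open Subgroup Cfsg.Agent.Omega.BTwo Cfsg.Agent.Omega.HTwo.Eight Cfsg.Agent.Omega.HOneTwo.OpSys

universe u

variable {G : Type u} [Group G]

/-- `Γ` -/
def Gam (z : G) (U : Subgroup G) (Δ : Set G) : Subgroup G :=
  closure {n | ∃ p ∈ Δ, n ∈ Np z p ∧ ∀ u ∈ U, n * u = u * n}

/-- the hypotheses of (17) -/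
structure OpD (G : Type u) [Group G] where
  z : G
  M : Subgroup G
  U : Subgroup G
  Δ : Set G
  f : G → G → ZMod 2
  t : G → G
  r : G
  res : Res z M U Δ f t
  r_Δ : r ∈ Δ
  OG : ∀ o ∈ O2 M, ∀ g ∈ Gam z U Δ, o * g = g * o ∨ o * g = z * (g * o)
  NN : ∀ p ∈ Δ, ∀ q ∈ Δ, f p q = 1 → ∀ n ∈ Np z p, n ∈ Np z q → n = 1 ∨ n = z
  UN : ∀ p ∈ Δ, ∀ u ∈ U, u ∈ Np z p → u = 1 ∨ u = p ∨ u = z ∨ u = p * z
  C14 : ∀ x ∈ O2 M, (∀ p ∈ Δ, ∀ n ∈ Np z p, x * n * x⁻¹ * n⁻¹ ∈ U) → x ∈ U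

namespace OpD

variable (D : OpD G)

/-- `Γ` -/
abbrev Γ : Subgroup G := Gam D.z D.U D.Δ

/-- `n ∈ N_p ∩ C(U)` -/
def NU (p n : G) : Prop := n ∈ Np D.z p ∧ ∀ u ∈ D.U, n * u = u * n

theorem NU_Γ {p n : G} (hp : p ∈ D.Δ) (hn : D.NU p n) : n ∈ D.Γ := subset_closure ⟨p, hp, hn.1, hn.2⟩

theorem cen_conj {m n : G} (hm : m ∈ D.M) (hn : ∀ u ∈ D.U, n * u = u * n) :
    ∀ u ∈ D.U, (m * n * m⁻¹) * u = u * (m * n * m⁻¹) := by
  intro u hu
  have h1 := hn _ (D.res.U_M m⁻¹ (inv_mem hm) u hu)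
  rw [inv_inv] at h1
  calc m * n * m⁻¹ * u = m * (n * (m⁻¹ * u * m)) * m⁻¹ := by group
    _ = m * (m⁻¹ * u * m * n) * m⁻¹ := by rw [h1]
    _ = _ := by group

theorem NU_conj {m p n : G} (hm : m ∈ D.M) (hn : D.NU p n) : D.NU (m * p * m⁻¹) (m * n * m⁻¹) := by
  refine ⟨?_, D.cen_conj hm hn.2⟩
  rw [← cj_Np (D.res.M_z hm)]
  exact conj_mem_cj hn.1

theorem NU_mul {p n m : G} (hn : D.NU p n) (hm : D.NU p m) : D.NU p (n * m) :=
  ⟨mul_mem hn.1 hm.1, fun u hu => by rw [mul_assoc, hm.2 u hu, ← mul_assoc, hn.2 u hu, mul_assoc]⟩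

theorem NU_inv {p n : G} (hn : D.NU p n) : D.NU p n⁻¹ :=
  ⟨inv_mem hn.1, fun u hu => by rw [inv_mul_eq_iff_eq_mul, ← mul_assoc, hn.2 u hu, mul_inv_cancel_right]⟩

theorem NU_p {p : G} (hp : p ∈ D.Δ) : D.NU p p :=
  ⟨D.res.p_N hp, fun u hu => D.res.U_comm p (D.res.Δ_U p hp) u hu⟩

theorem NU_z (p : G) : D.NU p D.z :=
  ⟨z_N _ _, fun u hu => D.res.U_comm _ D.res.z_U u hu⟩

theorem cen_NU {p x : G} (hp : p ∈ D.Δ) (hx : ∀ u ∈ D.U, x * u = u * x) : x ∈ Cp p :=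
  mem_Cp.2 (hx p (D.res.Δ_U p hp))

/-- `C_M(U)` normalises `N_p ∩ C(U)` -/
theorem NU_conj' {p n x : G} (hp : p ∈ D.Δ) (hxM : x ∈ D.M) (hx : ∀ u ∈ D.U, x * u = u * x)
    (hn : D.NU p n) : D.NU p (x * n * x⁻¹) := by
  have := D.NU_conj hxM hn
  rwa [hx p (D.res.Δ_U p hp), mul_inv_cancel_right] at this

theorem Γ_M : D.Γ ≤ D.M := by
  unfold Γ Gam
  rw [closure_le]
  rintro n ⟨p, hp, hn, -⟩
  exact D.res.N_M hp hn

theorem Γ_cen {x : G} (hx : x ∈ D.Γ) {u : G} (hu : u ∈ D.U) : x * u = u * x := by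
  have h1 : D.Γ ≤ centralizer (D.U : Set G) := by
    unfold Γ Gam
    rw [closure_le]
    rintro n ⟨p, hp, -, hn⟩
    rw [SetLike.mem_coe, mem_centralizer_iff]
    exact fun u hu => (hn u hu).symm
  exact ((mem_centralizer_iff.1 (h1 hx)) u hu).symm

theorem Γ_conj {m x : G} (hm : m ∈ D.M) (hx : x ∈ D.Γ) : m * x * m⁻¹ ∈ D.Γ := by
  unfold Γ Gam at hx
  induction hx using closure_induction with
  | mem n hn =>
    obtain ⟨p, hp, hn1, hn2⟩ := hn
    exact D.NU_Γ (D.res.Δ_M m hm p hp) (D.NU_conj hm ⟨hn1, hn2⟩)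
  | one => rw [mul_one, mul_inv_cancel]; exact one_mem _
  | mul x y _ _ hx hy =>
    have e : m * (x * y) * m⁻¹ = (m * x * m⁻¹) * (m * y * m⁻¹) := by group
    rw [e]; exact mul_mem hx hy
  | inv x _ hx =>
    have e : m * x⁻¹ * m⁻¹ = (m * x * m⁻¹)⁻¹ := by group
    rw [e]; exact inv_mem hx

/-- `Γ ≤ O₂(M)` -/
theorem Γ_O [Finite G] : D.Γ ≤ O2 D.M := by
  unfold Γ Gam
  rw [closure_le]
  rintro n ⟨p, hp, hn1, hn2⟩
  have h1 : Np D.z p ⊓ centralizer (D.U : Set G) ≤ O2 D.M := by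
    refine le_O2_of_chain (B := D.M ⊓ centralizer (D.U : Set G)) (C := D.M) ?_ inf_le_left le_rfl ?_ ?_ ?_ ?_
    · exact inf_le_inf_right _ (D.res.N_M hp)
    · intro x
      refine ⟨1, Subtype.ext ?_⟩
      have := D.res.N_sq p hp x x.2.1
      rw [pow_one, pow_two]
      exact this
    · rintro b ⟨hb1, hb2⟩ a ⟨ha1, ha2⟩
      have h3 : ∀ u ∈ D.U, b * u = u * b := fun u hu => ((mem_centralizer_iff.1 hb2) u hu).symm
      have h4 := D.NU_conj' hp hb1 h3 ⟨ha1, fun u hu => ((mem_centralizer_iff.1 ha2) u hu).symm⟩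
      exact ⟨h4.1, mem_centralizer_iff.2 fun u hu => (h4.2 u hu).symm⟩
    · rintro c hc b ⟨hb1, hb2⟩
      exact ⟨D.M.mul_mem (D.M.mul_mem hc hb1) (D.M.inv_mem hc), mem_centralizer_iff.2 fun u hu =>
        (D.cen_conj hc (fun u hu => ((mem_centralizer_iff.1 hb2) u hu).symm) u hu).symm⟩
    · exact fun g hg c hc => D.M.mul_mem (D.M.mul_mem hg hc) (D.M.inv_mem hg)
  exact h1 ⟨hn1, mem_centralizer_iff.2 fun u hu => (hn2 u hu).symm⟩

theorem z_Γ : D.z ∈ D.Γ := D.NU_Γ D.r_Δ (D.NU_z D.r)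

theorem U_Γ : D.U ≤ D.Γ := by
  intro u hu
  rcases D.res.cover u hu with rfl | rfl | h | h
  · exact one_mem _
  · exact D.z_Γ
  · exact D.NU_Γ h (D.NU_p h)
  · have h1 := mul_mem (D.NU_Γ h (D.NU_p h)) D.z_Γ
    rwa [mul_assoc, D.res.zz, mul_one] at h1

theorem z_inv : D.z⁻¹ = D.z := inv_eq_of_mul_eq_one_left D.res.zz

theorem Γ_comm [Finite G] {x y : G} (hx : x ∈ D.Γ) (hy : y ∈ D.Γ) : x * y = y * x ∨ x * y = D.z * (y * x) :=
  D.OG x (D.Γ_O hx) y hy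

theorem Γ_comm_U [Finite G] {x y : G} (hx : x ∈ D.Γ) (hy : y ∈ D.Γ) : (x * y)⁻¹ * (y * x) ∈ D.U := by
  rcases D.Γ_comm hx hy with h | h
  · rw [h, inv_mul_cancel]; exact one_mem _
  · have h1 := D.Γ_cen (mul_mem hy hx) D.res.z_U
    have e : (x * y)⁻¹ * (y * x) = D.z := by
      rw [inv_mul_eq_iff_eq_mul, h, mul_assoc, h1, ← mul_assoc, D.res.zz, one_mul]
    rw [e]; exact D.res.z_U

/-- `Γ² ≤ ⟨z⟩` -/
theorem Γ_sq [Finite G] {x : G} (hx : x ∈ D.Γ) : x * x = 1 ∨ x * x = D.z := by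
  have key : ∀ x ∈ closure {n | ∃ p ∈ D.Δ, n ∈ Np D.z p ∧ ∀ u ∈ D.U, n * u = u * n}, x * x = 1 ∨ x * x = D.z := by
    intro x hx
    induction hx using closure_induction with
    | mem n hn =>
      obtain ⟨p, hp, hn1, hn2⟩ := hn
      exact Or.inl (D.res.N_sq p hp n hn1)
    | one => exact Or.inl (mul_one 1)
    | mul x y hxG hyG hx hy =>
      have hxG' : x ∈ D.Γ := hxG
      have hyG' : y ∈ D.Γ := hyG
      have hz : ∀ w ∈ D.Γ, w * D.z = D.z * w := fun w hw => D.Γ_cen hw D.res.z_U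
      have e : x * y * (x * y) = x * (y * x) * y := by group
      rcases D.Γ_comm hyG' hxG' with h | h
      · have e2 : x * y * (x * y) = (x * x) * (y * y) := by rw [e, h]; group
        rw [e2]
        rcases hx with hx | hx <;> rcases hy with hy | hy <;> rw [hx, hy]
        · left; exact mul_one 1
        · right; exact one_mul _
        · right; exact mul_one _
        · left; exact D.res.zz
      · have e2 : x * y * (x * y) = D.z * ((x * x) * (y * y)) := by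
          rw [e, h]
          calc x * (D.z * (x * y)) * y = (x * D.z) * (x * y * y) := by group
            _ = D.z * ((x * x) * (y * y)) := by rw [hz x hxG']; group
        rw [e2]
        rcases hx with hx | hx <;> rcases hy with hy | hy <;> rw [hx, hy]
        · right; rw [mul_one, mul_one]
        · left; rw [one_mul]; exact D.res.zz
        · left; rw [mul_one]; exact D.res.zz
        · right; rw [D.res.zz, mul_one]
    | inv x _ hx =>
      have e : x⁻¹ * x⁻¹ = (x * x)⁻¹ := by group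
      rw [e]
      rcases hx with hx | hx
      · left; rw [hx, inv_one]
      · right; rw [hx, D.z_inv]
  exact key x hx

/-! ### `S = Γ / U` -/

theorem normal [Finite G] : (D.U.subgroupOf D.Γ).Normal where
  conj_mem := by
    rintro ⟨n, hn⟩ h ⟨g, hg⟩
    rw [mem_subgroupOf] at h ⊢
    exact D.res.U_M g (D.Γ_M hg) n h

instance [Finite G] : (D.U.subgroupOf D.Γ).Normal := D.normal

/-- `Γ / U`, multiplicative -/
abbrev SM : Type u := D.Γ ⧸ D.U.subgroupOf D.Γ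

instance [Finite G] : CommGroup D.SM :=
  { (inferInstance : Group D.SM) with
    mul_comm := by
      intro a b
      obtain ⟨x, rfl⟩ := QuotientGroup.mk_surjective a
      obtain ⟨y, rfl⟩ := QuotientGroup.mk_surjective b
      rw [← QuotientGroup.mk_mul, ← QuotientGroup.mk_mul, QuotientGroup.eq, mem_subgroupOf]
      exact D.Γ_comm_U x.2 y.2 }

/-- `S = Γ / U` -/
def S : Type u := Additive D.SM

noncomputable instance [Finite G] : AddCommGroup D.S := inferInstanceAs (AddCommGroup (Additive D.SM))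

open Classical in
/-- `x ↦ x U` -/
noncomputable def cl (x : G) : D.S := if h : x ∈ D.Γ then Additive.ofMul (QuotientGroup.mk ⟨x, h⟩ : D.SM) else
  Additive.ofMul (QuotientGroup.mk 1 : D.SM)

theorem cl_of {x : G} (h : x ∈ D.Γ) : D.cl x = Additive.ofMul (QuotientGroup.mk ⟨x, h⟩ : D.SM) := dif_pos h

theorem cl_surj (s : D.S) : ∃ x ∈ D.Γ, D.cl x = s := by
  obtain ⟨x, hx⟩ := QuotientGroup.mk_surjective (s := D.U.subgroupOf D.Γ) (Additive.toMul s)
  exact ⟨x, x.2, by rw [D.cl_of x.2]; exact hx⟩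

theorem cl_mul [Finite G] {x y : G} (hx : x ∈ D.Γ) (hy : y ∈ D.Γ) : D.cl (x * y) = D.cl x + D.cl y := by
  rw [D.cl_of hx, D.cl_of hy, D.cl_of (mul_mem hx hy)]
  rfl

theorem cl_eq_iff {x y : G} (hx : x ∈ D.Γ) (hy : y ∈ D.Γ) : D.cl x = D.cl y ↔ x⁻¹ * y ∈ D.U := by
  rw [D.cl_of hx, D.cl_of hy]
  refine Iff.trans (Additive.ofMul.injective.eq_iff) ?_
  rw [QuotientGroup.eq, mem_subgroupOf]
  rfl

theorem cl_one [Finite G] : D.cl 1 = 0 := by
  rw [D.cl_of (one_mem _)]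
  rfl

theorem cl_eq_zero [Finite G] {x : G} (hx : x ∈ D.Γ) : D.cl x = 0 ↔ x ∈ D.U := by
  rw [← D.cl_one, D.cl_eq_iff hx (one_mem _), mul_one, inv_mem_iff]

theorem twoS [Finite G] (s : D.S) : s + s = 0 := by
  obtain ⟨x, hx, rfl⟩ := D.cl_surj s
  rw [← D.cl_mul hx hx, D.cl_eq_zero (mul_mem hx hx)]
  rcases D.Γ_sq hx with h | h
  · rw [h]; exact one_mem _
  · rw [h]; exact D.res.z_U

theorem cl_inv [Finite G] {x : G} (hx : x ∈ D.Γ) : D.cl x⁻¹ = D.cl x := by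
  have h1 := D.cl_mul (inv_mem hx) hx
  rw [inv_mul_cancel, D.cl_one] at h1
  have h2 := D.twoS (D.cl x)
  exact add_right_cancel (h1.symm.trans h2.symm)

/-! ### the action of `M` on `S` -/

/-- conjugation on `Γ` -/
def cjH (m : G) (hm : m ∈ D.M) : D.Γ →* D.Γ where
  toFun x := ⟨m * x * m⁻¹, D.Γ_conj hm x.2⟩
  map_one' := Subtype.ext (by show m * 1 * m⁻¹ = 1; group)
  map_mul' x y := Subtype.ext (by show m * (x * y) * m⁻¹ = m * x * m⁻¹ * (m * y * m⁻¹); group)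

/-- `m ∈ M` on `S` -/
noncomputable def actM [Finite G] (m : G) (hm : m ∈ D.M) : D.S →+ D.S :=
  MonoidHom.toAdditive (QuotientGroup.map (D.U.subgroupOf D.Γ) (D.U.subgroupOf D.Γ) (D.cjH m hm)
    (by
      rintro ⟨x, hx⟩ h
      rw [mem_subgroupOf] at h
      rw [mem_comap, mem_subgroupOf]
      exact D.res.U_M m hm x h))

theorem actM_cl [Finite G] {m x : G} (hm : m ∈ D.M) (hx : x ∈ D.Γ) :
    D.actM m hm (D.cl x) = D.cl (m * x * m⁻¹) := by
  rw [D.cl_of hx, D.cl_of (D.Γ_conj hm hx)]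
  rfl

open Classical in
/-- `m ∈ M` on `S` -/
noncomputable def act [Finite G] (m : G) : D.S →+ D.S := if hm : m ∈ D.M then D.actM m hm else 0

variable [Finite G]

theorem act_cl {m x : G} (hm : m ∈ D.M) (hx : x ∈ D.Γ) : D.act m (D.cl x) = D.cl (m * x * m⁻¹) := by
  rw [act, dif_pos hm, D.actM_cl hm hx]

theorem act_mul {m n : G} (hm : m ∈ D.M) (hn : n ∈ D.M) (s : D.S) : D.act (m * n) s = D.act m (D.act n s) := by
  obtain ⟨x, hx, rfl⟩ := D.cl_surj s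
  rw [D.act_cl (mul_mem hm hn) hx, D.act_cl hn hx, D.act_cl hm (D.Γ_conj hn hx)]
  congr 1
  group

theorem act_one (s : D.S) : D.act 1 s = s := by
  obtain ⟨x, hx, rfl⟩ := D.cl_surj s
  rw [D.act_cl (one_mem _) hx]
  congr 1
  group

/-- `O₂(M)` is trivial on `S` -/
theorem act_O {o : G} (ho : o ∈ O2 D.M) (s : D.S) : D.act o s = s := by
  obtain ⟨x, hx, rfl⟩ := D.cl_surj s
  rw [D.act_cl (O2_le _ ho) hx, D.cl_eq_iff (D.Γ_conj (O2_le _ ho) hx) hx]
  have hox := D.OG o ho x hx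
  rcases hox with h | h
  · rw [h, mul_inv_cancel_right, inv_mul_cancel]; exact one_mem _
  · have e : (o * x * o⁻¹)⁻¹ * x = D.z := by
      rw [inv_mul_eq_iff_eq_mul, h]
      have h1 := D.res.U_O o ho D.z D.res.z_U
      have h2 := D.Γ_cen hx D.res.z_U
      have h3 : o⁻¹ * D.z = D.z * o⁻¹ := D.res.U_O _ (inv_mem ho) D.z D.res.z_U
      calc x = x * (D.z * D.z) := by rw [D.res.zz, mul_one]
        _ = (x * D.z) * D.z := by group
        _ = (D.z * x) * D.z := by rw [h2]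
        _ = D.z * (x * o) * (o⁻¹ * D.z) := by group
        _ = D.z * (x * o) * o⁻¹ * D.z := by group
    rw [e]; exact D.res.z_U

theorem act_mulO {m o : G} (hm : m ∈ D.M) (ho : o ∈ O2 D.M) (s : D.S) : D.act (m * o) s = D.act m s := by
  rw [D.act_mul hm (O2_le _ ho), D.act_O ho]

/-- elements of `N_p` which move `U` act as `t p` up to `Γ` -/
theorem NU_of_mv {p n : G} (hp : p ∈ D.Δ) (hn : n ∈ Np D.z p) (hm : ¬ ∀ u ∈ D.U, n * u = u * n) :
    D.NU p ((D.t p)⁻¹ * n) := by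
  refine ⟨mul_mem (inv_mem (D.res.t_N hp)) hn, fun u hu => ?_⟩
  have h1 := (D.res.act_or hp hn).resolve_left hm u hu
  have h2 := D.res.t_act hp hu
  rw [← h2, mul_inv_eq_iff_eq_mul] at h1
  calc (D.t p)⁻¹ * n * u = (D.t p)⁻¹ * (n * u) := by group
    _ = u * ((D.t p)⁻¹ * n) := by rw [h1]; group

theorem act_mv {p n : G} (hp : p ∈ D.Δ) (hn : n ∈ Np D.z p) (hm : ¬ ∀ u ∈ D.U, n * u = u * n) (s : D.S) :
    D.act n s = D.act (D.t p) s := by
  have h1 := D.act_mulO (D.res.t_M hp) (D.Γ_O (D.NU_Γ hp (D.NU_of_mv hp hn hm))) s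
  rwa [mul_inv_cancel_left] at h1

/-! ### `T₀ p` -/

/-- `s ↦ s + s^{t_p}` -/
noncomputable def T₀ (p : G) : D.S →+ D.S := AddMonoidHom.id D.S + D.act (D.t p)

theorem T₀_eq (p : G) (s : D.S) : D.T₀ p s = s + D.act (D.t p) s := rfl

theorem act_eq (p : G) (s : D.S) : D.act (D.t p) s = s + D.T₀ p s := by
  rw [T₀_eq, ← add_assoc, D.twoS, zero_add]

/-- `[x, t_p]` -/
theorem br_NU {p x : G} (hp : p ∈ D.Δ) (hx : x ∈ O2 D.M) : D.NU p (x * D.t p * x⁻¹ * (D.t p)⁻¹) := by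
  have hxU : ∀ u ∈ D.U, x * u = u * x := fun u hu => D.res.U_O x hx u hu
  refine ⟨mul_mem (N_normal (D.cen_NU hp hxU) (D.res.t_N hp)) (inv_mem (D.res.t_N hp)), fun u hu => ?_⟩
  have hxU' : ∀ u ∈ D.U, x⁻¹ * u = u * x⁻¹ := fun u hu => D.res.U_O _ (inv_mem hx) u hu
  have h1 := D.cen_conj (D.res.t_M hp) hxU' u hu
  calc x * D.t p * x⁻¹ * (D.t p)⁻¹ * u = x * (D.t p * x⁻¹ * (D.t p)⁻¹ * u) := by group
    _ = (x * u) * (D.t p * x⁻¹ * (D.t p)⁻¹) := by rw [h1]; group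
    _ = u * (x * D.t p * x⁻¹ * (D.t p)⁻¹) := by rw [hxU u hu]; group

theorem T₀_cl {p x : G} (hp : p ∈ D.Δ) (hx : x ∈ D.Γ) :
    D.T₀ p (D.cl x) = D.cl (x * D.t p * x⁻¹ * (D.t p)⁻¹) := by
  have e : x * D.t p * x⁻¹ * (D.t p)⁻¹ = x * (D.t p * x⁻¹ * (D.t p)⁻¹) := by group
  have h1 := D.res.t_M hp
  rw [T₀_eq, e, D.cl_mul hx (D.Γ_conj h1 (inv_mem hx)), ← D.act_cl h1 (inv_mem hx), D.cl_inv hx]

theorem T₀_sq {p : G} (hp : p ∈ D.Δ) (s : D.S) : D.T₀ p (D.T₀ p s) = 0 := by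
  have h1 := D.res.t_M hp
  have h2 : D.act (D.t p) (D.act (D.t p) s) = s := by
    rw [← D.act_mul h1 h1, D.res.N_sq p hp _ (D.res.t_N hp), D.act_one]
  rw [T₀_eq, T₀_eq, map_add, h2, add_comm (D.act _ s) s, D.twoS]

theorem T₀_zero {p : G} {n : G} (hp : p ∈ D.Δ) (hn : D.NU p n) : D.T₀ p (D.cl n) = 0 := by
  rw [D.T₀_cl hp (D.NU_Γ hp hn), D.res.N_comm hp hn.1 (D.res.t_N hp)]
  have e : D.t p * n * n⁻¹ * (D.t p)⁻¹ = 1 := by group
  rw [e, D.cl_one]

theorem act_comm {p q : G} (hp : p ∈ D.Δ) (hq : q ∈ D.Δ) (h0 : D.f p q = 0) (s : D.S) :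
    D.act (D.t p) (D.act (D.t q) s) = D.act (D.t q) (D.act (D.t p) s) := by
  have h1 := D.res.t_M hp
  have h2 := D.res.t_M hq
  have hc : D.t p ∈ Cp q := mem_Cp.2 (D.res.t_0 p hp q (D.res.Δ_U q hq) h0)
  have h3 := N_normal hc (D.res.t_N hq)
  have h4 := D.act_mv hq h3 (D.res.conj_mv h1 (D.res.t_mv hq)) (D.act (D.t p) s)
  rw [← h4, ← D.act_mul (mul_mem (mul_mem h1 h2) (inv_mem h1)) h1, ← D.act_mul h1 h2]
  congr 2
  group

theorem T₀_comm {p q : G} (hp : p ∈ D.Δ) (hq : q ∈ D.Δ) (h0 : D.f p q = 0) (s : D.S) :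
    D.T₀ p (D.T₀ q s) = D.T₀ q (D.T₀ p s) := by
  simp only [T₀_eq, map_add]
  rw [D.act_comm hp hq h0]
  abel

theorem act_pqz {p q : G} (hp : p ∈ D.Δ) (hq : q ∈ D.Δ) (h1 : D.f p q = 1) (s : D.S) :
    D.act (D.t (p * q * D.z)) s = D.act (D.t p) (D.act (D.t q) (D.act (D.t p) s)) := by
  have h2 := D.res.t_M hp
  have h3 := D.res.t_M hq
  have h4 := D.act_mv (D.res.mul1 p hp q hq h1) (D.res.tt_N hp hq h1) (D.res.conj_mv h2 (D.res.t_mv hq)) s
  rw [← h4, D.res.t_inv hp, ← D.act_mul h3 h2, ← D.act_mul h2 (mul_mem h3 h2), mul_assoc]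

theorem T₀_conj {p q : G} (hp : p ∈ D.Δ) (hq : q ∈ D.Δ) (h1 : D.f p q = 1) (s : D.S) :
    D.T₀ (p * q * D.z) s = D.T₀ q s + D.T₀ p (D.T₀ q s) + D.T₀ q (D.T₀ p s) + D.T₀ p (D.T₀ q (D.T₀ p s)) := by
  rw [D.T₀_eq (p * q * D.z), D.act_pqz hp hq h1, D.act_eq p s, D.act_eq q, D.act_eq p]
  simp only [map_add]
  rw [D.T₀_sq hp s]
  have e : ∀ a b c d e' g : D.S, a + (a + b + (c + d) + (b + 0 + (e' + g))) = c + e' + d + g := by
    intro a b c d e' g
    have h1 := D.twoS a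
    have h2 := D.twoS b
    calc a + (a + b + (c + d) + (b + 0 + (e' + g))) = (a + a) + (b + b) + (c + e' + d + g) := by abel
      _ = _ := by rw [h1, h2, add_zero, zero_add]
  exact e _ _ _ _ _ _

/-- **(9)**, injectivity -/
theorem inj0 {p q n : G} (hp : p ∈ D.Δ) (hq : q ∈ D.Δ) (h1 : D.f p q = 1) (hn : D.NU p n)
    (hk : n * D.t q * n⁻¹ * (D.t q)⁻¹ ∈ D.U) : n ∈ D.U := by
  have hpU := D.res.Δ_U p hp
  have hqU := D.res.Δ_U q hq
  have hnc : n ∈ Cp q := D.cen_NU hq hn.2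
  have htq := D.res.t_N hq
  have hkN : n * D.t q * n⁻¹ * (D.t q)⁻¹ ∈ Np D.z q := mul_mem (N_normal hnc htq) (inv_mem htq)
  -- the main case
  have main : ∀ n, D.NU p n → (n * D.t q * n⁻¹ * (D.t q)⁻¹ = 1 ∨ n * D.t q * n⁻¹ * (D.t q)⁻¹ = D.z) →
      n = 1 ∨ n = D.z := by
    intro n hn hk
    have e1 : D.t q * p * (D.t q)⁻¹ = q * p * D.z := by
      rw [D.res.t_act hq hpU, D.res.f_symm q hqU p hpU, h1, pw_one, ← mul_assoc, D.res.U_comm p hpU q hqU]
    have h2 : D.f q p = 1 := by rw [D.res.f_symm q hqU p hpU]; exact h1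
    have h3 := D.res.mul1 q hq p hp h2
    have h4 : D.t q * n⁻¹ * (D.t q)⁻¹ ∈ Np D.z (q * p * D.z) := by
      rw [← e1, ← cj_Np (D.res.M_z (D.res.t_M hq))]
      exact conj_mem_cj (inv_mem hn.1)
    have h5 : n ∈ Np D.z (q * p * D.z) := by
      have e2 : n = (n * D.t q * n⁻¹ * (D.t q)⁻¹) * (D.t q * n⁻¹ * (D.t q)⁻¹)⁻¹ := by group
      rw [e2]
      refine mul_mem ?_ (inv_mem h4)
      rcases hk with hk | hk <;> rw [hk]
      · exact one_mem _
      · exact z_N _ _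
    refine D.NN p hp _ h3 ?_ n hn.1 h5
    rw [D.res.f_add' hpU (mul_mem hqU hpU) D.res.z_U, D.res.f_z' hpU, D.res.f_add' hpU hqU hpU, D.res.f_self p hpU, h1]
    decide
  have hz := D.res.z_U
  rcases D.UN q hq _ hk hkN with h | h | h | h
  · rcases main n hn (Or.inl h) with h | h <;> rw [h]
    · exact one_mem _
    · exact hz
  · -- `k = q`
    have h2 := D.res.u_act hq hpU
    rw [D.res.f_symm q hqU p hpU, h1, pw_one] at h2
    have e : n * p * D.t q * (n * p)⁻¹ * (D.t q)⁻¹ = (n * D.t q * n⁻¹ * (D.t q)⁻¹) * (q * D.z) := by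
      have hc1 : n * (q * D.z) = q * D.z * n := hn.2 _ (mul_mem hqU hz)
      have hc2 : D.t q * (q * D.z) = q * D.z * D.t q :=
        D.res.t_0 q hq _ (mul_mem hqU hz) (by
          rw [D.res.f_add' hqU hqU hz, D.res.f_self q hqU, D.res.f_z' hqU, add_zero])
      calc n * p * D.t q * (n * p)⁻¹ * (D.t q)⁻¹ = n * (p * D.t q * p⁻¹) * n⁻¹ * (D.t q)⁻¹ := by group
        _ = n * (D.t q * (q * D.z)) * n⁻¹ * (D.t q)⁻¹ := by rw [h2]
        _ = n * D.t q * (q * D.z * n⁻¹) * (D.t q)⁻¹ := by group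
        _ = n * D.t q * (n⁻¹ * (q * D.z)) * (D.t q)⁻¹ := by
          rw [show q * D.z * n⁻¹ = n⁻¹ * (q * D.z) by rw [eq_inv_mul_iff_mul_eq, ← mul_assoc, hc1, mul_inv_cancel_right]]
        _ = n * D.t q * n⁻¹ * (q * D.z * (D.t q)⁻¹) := by group
        _ = n * D.t q * n⁻¹ * ((D.t q)⁻¹ * (q * D.z)) := by
          rw [show q * D.z * (D.t q)⁻¹ = (D.t q)⁻¹ * (q * D.z) by
            rw [eq_inv_mul_iff_mul_eq, ← mul_assoc, hc2, mul_inv_cancel_right]]
        _ = _ := by group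
    rw [h] at e
    have e3 : q * (q * D.z) = D.z := by rw [← mul_assoc, D.res.U_sq q hqU, one_mul]
    rw [e3] at e
    rcases main (n * p) (D.NU_mul hn (D.NU_p hp)) (Or.inr e) with h3 | h3
    · have : n = p⁻¹ := eq_inv_of_mul_eq_one_left h3
      rw [this]; exact inv_mem hpU
    · have : n = D.z * p⁻¹ := eq_mul_inv_of_mul_eq h3
      rw [this]; exact mul_mem hz (inv_mem hpU)
  · rcases main n hn (Or.inr h) with h | h <;> rw [h]
    · exact one_mem _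
    · exact hz
  · -- `k = q z`
    have h2 := D.res.u_act hq hpU
    rw [D.res.f_symm q hqU p hpU, h1, pw_one] at h2
    have e : n * p * D.t q * (n * p)⁻¹ * (D.t q)⁻¹ = (n * D.t q * n⁻¹ * (D.t q)⁻¹) * (q * D.z) := by
      have hc1 : n * (q * D.z) = q * D.z * n := hn.2 _ (mul_mem hqU hz)
      have hc2 : D.t q * (q * D.z) = q * D.z * D.t q :=
        D.res.t_0 q hq _ (mul_mem hqU hz) (by
          rw [D.res.f_add' hqU hqU hz, D.res.f_self q hqU, D.res.f_z' hqU, add_zero])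
      calc n * p * D.t q * (n * p)⁻¹ * (D.t q)⁻¹ = n * (p * D.t q * p⁻¹) * n⁻¹ * (D.t q)⁻¹ := by group
        _ = n * (D.t q * (q * D.z)) * n⁻¹ * (D.t q)⁻¹ := by rw [h2]
        _ = n * D.t q * (q * D.z * n⁻¹) * (D.t q)⁻¹ := by group
        _ = n * D.t q * (n⁻¹ * (q * D.z)) * (D.t q)⁻¹ := by
          rw [show q * D.z * n⁻¹ = n⁻¹ * (q * D.z) by rw [eq_inv_mul_iff_mul_eq, ← mul_assoc, hc1, mul_inv_cancel_right]]
        _ = n * D.t q * n⁻¹ * (q * D.z * (D.t q)⁻¹) := by group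
        _ = n * D.t q * n⁻¹ * ((D.t q)⁻¹ * (q * D.z)) := by
          rw [show q * D.z * (D.t q)⁻¹ = (D.t q)⁻¹ * (q * D.z) by
            rw [eq_inv_mul_iff_mul_eq, ← mul_assoc, hc2, mul_inv_cancel_right]]
        _ = _ := by group
    rw [h] at e
    have e3 : q * D.z * (q * D.z) = 1 := D.res.pz_sq hq
    rw [e3] at e
    rcases main (n * p) (D.NU_mul hn (D.NU_p hp)) (Or.inl e) with h3 | h3
    · have : n = p⁻¹ := eq_inv_of_mul_eq_one_left h3
      rw [this]; exact inv_mem hpU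
    · have : n = D.z * p⁻¹ := eq_mul_inv_of_mul_eq h3
      rw [this]; exact mul_mem hz (inv_mem hpU)

theorem inj1 {p q n : G} (hp : p ∈ D.Δ) (hq : q ∈ D.Δ) (h1 : D.f p q = 1) (hn : D.NU p n)
    (hk : D.T₀ q (D.cl n) = 0) : D.cl n = 0 := by
  have hG := D.NU_Γ hp hn
  rw [D.T₀_cl hq hG, D.cl_eq_zero (D.NU_Γ hq (D.br_NU hq (D.Γ_O hG)))] at hk
  rw [D.cl_eq_zero hG]
  exact D.inj0 hp hq h1 hn hk

/-- `[S, Q_q, Q_q] = 0` -/
theorem QQ {q g g' : G} (hq : q ∈ D.Δ) (hg : g ∈ Qp q) (hg' : g' ∈ Qp q) (s : D.S) :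
    (s + D.act g s) + D.act g' (s + D.act g s) = 0 := by
  obtain ⟨x, hx, rfl⟩ := D.cl_surj s
  have hgM := D.res.Q_M hq hg
  have hgM' := D.res.Q_M hq hg'
  have e1 : D.cl x + D.act g (D.cl x) = D.cl (g * x * g⁻¹ * x⁻¹) := by
    rw [D.act_cl hgM hx, D.cl_mul (D.Γ_conj hgM hx) (inv_mem hx), D.cl_inv hx, add_comm]
  have hxq : x ∈ Cp q := D.cen_NU hq fun u hu => D.Γ_cen hx hu
  have h1 : g * x * g⁻¹ * x⁻¹ ∈ Qp q := by
    have e : g * x * g⁻¹ * x⁻¹ = g * (x * g⁻¹ * x⁻¹) := by group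
    rw [e]
    exact mul_mem hg (Q_normal hxq (inv_mem hg))
  have h2 : g * x * g⁻¹ * x⁻¹ ∈ D.Γ := mul_mem (D.Γ_conj hgM hx) (inv_mem hx)
  rw [e1, D.act_cl hgM' h2, ← D.cl_inv h2, ← D.cl_mul (inv_mem h2) (D.Γ_conj hgM' h2),
    D.cl_eq_zero (mul_mem (inv_mem h2) (D.Γ_conj hgM' h2))]
  have h3 := D.Γ_cen h2 (D.res.Δ_U q hq)
  set w := g * x * g⁻¹ * x⁻¹ with hw
  rcases D.res.Q_comm q hq g' hg' w h1 with h | h
  · have e : w⁻¹ * (g' * w * g'⁻¹) = 1 := by rw [h]; group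
    rw [e]; exact one_mem _
  · have e : w⁻¹ * (g' * w * g'⁻¹) = q := by
      rw [h]
      calc w⁻¹ * (q * (w * g') * g'⁻¹) = w⁻¹ * (q * w) := by group
        _ = q := by rw [← h3, inv_mul_cancel_left]
    rw [e]; exact D.res.Δ_U q hq

/-- `C' = U` -/
theorem C14' {x : G} (hx : x ∈ O2 D.M) (h : ∀ p ∈ D.Δ, x * D.t p * x⁻¹ * (D.t p)⁻¹ ∈ D.U) : x ∈ D.U := by
  refine D.C14 x hx fun p hp n hn => ?_
  have key : ∀ m, D.NU p m → x * m * x⁻¹ * m⁻¹ ∈ D.U := by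
    intro m hm
    rcases D.OG x hx m (D.NU_Γ hp hm) with h1 | h1
    · have e : x * m * x⁻¹ * m⁻¹ = 1 := by rw [h1]; group
      rw [e]; exact one_mem _
    · have e : x * m * x⁻¹ * m⁻¹ = D.z := by rw [h1]; group
      rw [e]; exact D.res.z_U
  by_cases hm : ∀ u ∈ D.U, n * u = u * n
  · exact key n ⟨hn, hm⟩
  · have h1 := D.NU_of_mv hp hn hm
    set m := (D.t p)⁻¹ * n with hm'
    have e0 : n = D.t p * m := by rw [hm']; group
    have h2 := key m h1
    have h3 := D.res.U_M _ (D.res.t_M hp) _ h2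
    have e : x * n * x⁻¹ * n⁻¹ = (x * D.t p * x⁻¹ * (D.t p)⁻¹) * (D.t p * (x * m * x⁻¹ * m⁻¹) * (D.t p)⁻¹) := by
      rw [e0]; group
    rw [e]
    exact mul_mem (h p hp) h3

/-! ### `E = U` -/

/-- the commutative group `U` -/
@[reducible] def UCG (D : OpD G) : CommGroup D.U :=
  { (inferInstance : Group D.U) with
    mul_comm := fun a b => Subtype.ext (D.res.U_comm a a.2 b b.2) }

/-- `E = U`, additive -/
def E (D : OpD G) : Type u := Additive D.U

noncomputable instance (D : OpD G) : AddCommGroup D.E := @Additive.addCommGroup D.U D.UCG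

/-- the element of `U` -/
def el {D : OpD G} (v : D.E) : G := (Additive.toMul (α := D.U) v).1

/-- the vector of `u ∈ U` -/
def ve {D : OpD G} {u : G} (hu : u ∈ D.U) : D.E := Additive.ofMul (⟨u, hu⟩ : D.U)

omit [Finite G] in
theorem el_mem {D : OpD G} (v : D.E) : el v ∈ D.U := (Additive.toMul (α := D.U) v).2

omit [Finite G] in
theorem el_add {D : OpD G} (v w : D.E) : el (v + w) = el v * el w := rfl

omit [Finite G] in
theorem el_ve {D : OpD G} {u : G} (hu : u ∈ D.U) : el (ve hu : D.E) = u := rfl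

omit [Finite G] in
theorem el_zero {D : OpD G} : el (0 : D.E) = 1 := rfl

omit [Finite G] in
theorem el_inj {D : OpD G} {v w : D.E} (h : el v = el w) : v = w :=
  Additive.toMul.injective (Subtype.ext h)

/-- the form on `E` -/
def F (v w : D.E) : ZMod 2 := D.f (el v) (el w)

open Classical in
/-- the operator of an element of `U` -/
noncomputable def TT (u : G) : D.S →+ D.S := if u ∈ D.Δ then D.T₀ u else if u * D.z ∈ D.Δ then D.T₀ (u * D.z) else 0

/-- the operators -/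
noncomputable def T (v : D.E) : D.S →+ D.S := D.TT (el v)

theorem TT_Δ {p : G} (hp : p ∈ D.Δ) : D.TT p = D.T₀ p := if_pos hp

theorem TT_pz {p : G} (hp : p ∈ D.Δ) : D.TT (p * D.z) = D.T₀ p := by
  have e : p * D.z * D.z = p := by rw [mul_assoc, D.res.zz, mul_one]
  rw [TT, if_neg (D.res.inj p hp), e, if_pos hp]

theorem TT_one : D.TT 1 = 0 := by
  rw [TT, if_neg D.res.Δ_1, one_mul, if_neg D.res.Δ_z]

theorem TT_z : D.TT D.z = 0 := by
  rw [TT, if_neg D.res.Δ_z, D.res.zz, if_neg D.res.Δ_1]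

theorem TT_mulz {u : G} (hu : u ∈ D.U) : D.TT (u * D.z) = D.TT u := by
  rcases D.res.cover u hu with rfl | rfl | h | h
  · rw [one_mul, TT_z, TT_one]
  · rw [D.res.zz, TT_z, TT_one]
  · rw [D.TT_pz h, D.TT_Δ h]
  · have e : u * D.z * D.z = u := by rw [mul_assoc, D.res.zz, mul_one]
    rw [D.TT_Δ h]
    have := D.TT_pz h
    rw [e] at this
    exact this.symm

/-- the cases of an element of `U` -/
theorem cases {u : G} (hu : u ∈ D.U) : ((u = 1 ∨ u = D.z) ∧ D.TT u = 0 ∧ ∀ w ∈ D.U, D.f u w = 0) ∨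
    ∃ p ∈ D.Δ, (u = p ∨ u = p * D.z) ∧ D.TT u = D.T₀ p ∧ ∀ w ∈ D.U, D.f u w = D.f p w := by
  rcases D.res.cover u hu with rfl | rfl | h | h
  · exact Or.inl ⟨Or.inl rfl, D.TT_one, fun w hw => D.res.one_f hw⟩
  · exact Or.inl ⟨Or.inr rfl, D.TT_z, fun w hw => D.res.f_z w hw⟩
  · exact Or.inr ⟨u, h, Or.inl rfl, D.TT_Δ h, fun w _ => rfl⟩
  · have e : u * D.z * D.z = u := by rw [mul_assoc, D.res.zz, mul_one]
    refine Or.inr ⟨u * D.z, h, Or.inr e.symm, ?_, fun w hw => ?_⟩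
    · rw [← D.TT_mulz hu, D.TT_Δ h]
    · rw [D.res.f_add u hu D.z D.res.z_U w hw, D.res.f_z w hw, add_zero]

omit [Finite G] in
theorem f_right {u w p : G} (hu : u ∈ D.U) (hw : w ∈ D.U) (hp : p ∈ D.Δ) (h : ∀ w ∈ D.U, D.f u w = D.f p w) :
    D.f w u = D.f w p := by
  rw [D.res.f_symm w hw u hu, h w hw, D.res.f_symm w hw p (D.res.Δ_U p hp)]

/-- `TT` of a product with the points -/
theorem TT_mul {u v p q : G} (hu : u = p ∨ u = p * D.z) (hv : v = q ∨ v = q * D.z) (hp : p ∈ D.Δ) (hq : q ∈ D.Δ) :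
    D.TT (u * v) = D.TT (p * q) := by
  have hpU := D.res.Δ_U p hp
  have hqU := D.res.Δ_U q hq
  have hz := D.res.z_U
  rcases hu with rfl | rfl <;> rcases hv with rfl | rfl
  · rfl
  · rw [← mul_assoc, D.TT_mulz (mul_mem hpU hqU)]
  · rw [mul_assoc, D.res.U_comm _ hz _ hqU, ← mul_assoc, D.TT_mulz (mul_mem hpU hqU)]
  · have e : p * D.z * (q * D.z) = p * q := by
      calc p * D.z * (q * D.z) = p * (D.z * q) * D.z := by group
        _ = p * q * (D.z * D.z) := by rw [D.res.U_comm _ hz _ hqU]; group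
        _ = p * q := by rw [D.res.zz, mul_one]
    rw [e]

/-- `D q r = t_r t_{qr} - 1`, an element of `Q_q` -/
theorem exD {q r : G} (hq : q ∈ D.Δ) (hr : r ∈ D.U) (h0 : D.f q r = 0) :
    ∃ g ∈ Qp q, ∀ s, D.TT r s + D.TT (q * r) s + D.TT r (D.TT (q * r) s) = s + D.act g s := by
  have hqU := D.res.Δ_U q hq
  rcases D.cases hr with ⟨h1, h2, -⟩ | ⟨p, hp, h1, h2, h3⟩
  · refine ⟨D.t q, D.res.N_le_Q hq (D.res.t_N hq), fun s => ?_⟩
    have e : D.TT (q * r) = D.T₀ q := by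
      rcases h1 with rfl | rfl
      · rw [mul_one, D.TT_Δ hq]
      · rw [D.TT_pz hq]
    rw [h2, e]
    show (0 : D.S) + D.T₀ q s + 0 = _
    rw [zero_add, add_zero, T₀_eq]
  · have e1 : D.TT (q * r) = D.TT (q * p) := D.TT_mul (Or.inl rfl) h1 hq hp
    have h4 : D.f q p = 0 := by rw [← D.f_right hr hqU hp h3]; exact h0
    by_cases hqp : q = p
    · subst hqp
      refine ⟨D.t q, D.res.N_le_Q hq (D.res.t_N hq), fun s => ?_⟩
      rw [e1, h2, D.res.U_sq q hqU, D.TT_one]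
      show D.T₀ q s + (0 : D.S) + D.T₀ q (0 : D.S) = _
      rw [map_zero, add_zero, add_zero, T₀_eq]
    · obtain ⟨g, hg, hgp⟩ := D.res.Q_mv q hq p hp hqp h4
      have hqpΔ := D.res.mul0 q hq p hp hqp h4
      have hgM := D.res.Q_M hq hg
      have htM := D.res.t_M hp
      have hpU := D.res.Δ_U p hp
      have e2 : g * p * g⁻¹ = q * p := by rw [hgp, D.res.U_comm p hpU q hqU]
      have h5 : g * D.t p * g⁻¹ ∈ Np D.z (q * p) := by
        rw [← e2, ← cj_Np (D.res.M_z hgM)]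
        exact conj_mem_cj (D.res.t_N hp)
      have h6 : ∀ s, D.act (D.t (q * p)) s = D.act (g * D.t p * g⁻¹) s := fun s =>
        (D.act_mv hqpΔ h5 (D.res.conj_mv hgM (D.res.t_mv hp)) s).symm
      have hgM' : g * D.t p * g⁻¹ ∈ D.M := mul_mem (mul_mem hgM htM) (inv_mem hgM)
      refine ⟨D.t p * (g * D.t p * g⁻¹), ?_, fun s => ?_⟩
      · have hc : D.t p ∈ Cp q := mem_Cp.2 (D.res.t_0 p hp q hqU (by rw [D.res.f_symm p hpU q hqU]; exact h4))
        have h7 := Q_normal hc hg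
        have e3 : D.t p * (g * D.t p * g⁻¹) = (D.t p * g * (D.t p)⁻¹) * g⁻¹ := by rw [D.res.t_inv hp]; group
        rw [e3]
        exact mul_mem h7 (inv_mem hg)
      · rw [e1, h2, D.TT_Δ hqpΔ, D.act_mul htM hgM', ← h6]
        simp only [T₀_eq, map_add]
        have e : ∀ a b c d : D.S, a + b + (a + c) + (a + b + (c + d)) = a + d := by
          intro a b c d
          calc a + b + (a + c) + (a + b + (c + d)) = (a + a) + (b + b) + (c + c) + (a + d) := by abel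
            _ = _ := by rw [D.twoS a, D.twoS b, D.twoS c, zero_add, zero_add, zero_add]
        exact e s (D.act (D.t p) s) (D.act (D.t (q * p)) s) (D.act (D.t p) (D.act (D.t (q * p)) s))

/-- **(17)**: the operator system -/
theorem ops : OpSys D.F D.T := by
  have hz := D.res.z_U
  refine OpSys.of_raw D.twoS ?_ ?_ ?_ ?_ ?_ ?_ ?_ ?_ ?_ ?_ ?_ ?_ ?_
  · intro v
    apply el_inj
    rw [el_add, el_zero]
    exact D.res.U_sq _ (el_mem v)
  · exact fun u v w => D.res.f_add _ (el_mem u) _ (el_mem v) _ (el_mem w)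
  · exact fun v w => D.res.f_symm _ (el_mem v) _ (el_mem w)
  · exact fun v => D.res.f_self _ (el_mem v)
  · -- rad
    intro v hv s
    rcases D.cases (el_mem v) with ⟨-, h, -⟩ | ⟨p, hp, -, h2, h3⟩
    · show D.TT (el v) s = 0
      rw [h]; rfl
    · exfalso
      obtain ⟨q, hq, h1⟩ := D.res.exists_q1 hp
      have h4 := hv (ve (D.res.Δ_U q hq))
      have h5 : D.f (el v) q = 0 := h4
      rw [h3 q (D.res.Δ_U q hq), h1] at h5
      exact one_ne_zero h5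
  · -- radd
    intro v c hc s
    have h1 : el c = 1 ∨ el c = D.z := D.res.f_rad _ (el_mem c) fun w hw => hc (ve hw)
    show D.TT (el v * el c) s = D.TT (el v) s
    rcases h1 with h1 | h1 <;> rw [h1]
    · rw [mul_one]
    · rw [D.TT_mulz (el_mem v)]
  · -- sq
    intro v s
    show D.TT (el v) (D.TT (el v) s) = 0
    rcases D.cases (el_mem v) with ⟨-, h, -⟩ | ⟨p, hp, -, h2, h3⟩
    · rw [h]; rfl
    · rw [h2]; exact D.T₀_sq hp s
  · -- comm
    intro v w hvw s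
    show D.TT (el v) (D.TT (el w) s) = D.TT (el w) (D.TT (el v) s)
    rcases D.cases (el_mem v) with ⟨-, h, -⟩ | ⟨p, hp, -, h2, h3⟩
    · rw [h]
      show (0 : D.S) = D.TT (el w) 0
      rw [map_zero]
    · rcases D.cases (el_mem w) with ⟨-, h, -⟩ | ⟨q, hq, -, h5, h6⟩
      · rw [h]
        show D.TT (el v) 0 = (0 : D.S)
        rw [map_zero]
      · rw [h2, h5]
        refine D.T₀_comm hp hq ?_ s
        have h7 : D.f (el v) (el w) = 0 := hvw
        rwa [h3 _ (el_mem w), D.f_right (el_mem w) (D.res.Δ_U p hp) hq h6] at h7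
  · -- inj
    intro v w hvw s hs
    have hs' : D.TT (el w) (D.TT (el v) s) = 0 := hs
    show D.TT (el v) s = 0
    rcases D.cases (el_mem v) with ⟨-, h, -⟩ | ⟨p, hp, -, h2, h3⟩
    · rw [h]; rfl
    · rcases D.cases (el_mem w) with ⟨-, -, h⟩ | ⟨q, hq, -, h5, h6⟩
      · exfalso
        have h7 : D.f (el v) (el w) = 1 := hvw
        rw [D.res.f_symm _ (el_mem v) _ (el_mem w), h _ (el_mem v)] at h7
        exact zero_ne_one h7
      · have h7 : D.f (el v) (el w) = 1 := hvw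
        rw [h3 _ (el_mem w), D.f_right (el_mem w) (D.res.Δ_U p hp) hq h6] at h7
        rw [h2] at hs' ⊢
        rw [h5] at hs'
        obtain ⟨x, hx, rfl⟩ := D.cl_surj s
        rw [D.T₀_cl hp hx] at hs' ⊢
        exact D.inj1 hp hq h7 (D.br_NU hp (D.Γ_O hx)) hs'
  · -- conj
    intro v w hvw s
    show D.TT (el v * el w) s = D.TT (el w) s + D.TT (el v) (D.TT (el w) s) + D.TT (el w) (D.TT (el v) s) +
      D.TT (el v) (D.TT (el w) (D.TT (el v) s))
    have h7 : D.f (el v) (el w) = 1 := hvw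
    rcases D.cases (el_mem v) with ⟨-, -, h⟩ | ⟨p, hp, h1, h2, h3⟩
    · exfalso
      rw [h _ (el_mem w)] at h7
      exact zero_ne_one h7
    · rcases D.cases (el_mem w) with ⟨-, -, h⟩ | ⟨q, hq, h4, h5, h6⟩
      · exfalso
        rw [D.res.f_symm _ (el_mem v) _ (el_mem w), h _ (el_mem v)] at h7
        exact zero_ne_one h7
      · rw [h3 _ (el_mem w), D.f_right (el_mem w) (D.res.Δ_U p hp) hq h6] at h7
        have hpq := mul_mem (D.res.Δ_U p hp) (D.res.Δ_U q hq)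
        rw [D.TT_mul h1 h4 hp hq, ← D.TT_mulz hpq, D.TT_Δ (D.res.mul1 p hp q hq h7), h2, h5]
        exact D.T₀_conj hp hq h7 s
  · -- d1
    intro v w hvw s
    show D.TT (el v) (D.TT (el w) s + D.TT (el v * el w) s + D.TT (el w) (D.TT (el v * el w) s)) = 0
    have h7 : D.f (el v) (el w) = 0 := hvw
    rcases D.cases (el_mem v) with ⟨-, h, -⟩ | ⟨p, hp, h1, h2, h3⟩
    · rw [h]; rfl
    · have e : D.TT (el v * el w) = D.TT (p * el w) := by
        rcases h1 with h1 | h1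
        · rw [h1]
        · have hpU := D.res.Δ_U p hp
          have e1 : p * D.z * el w = p * el w * D.z := by
            rw [mul_assoc, D.res.U_comm _ hz _ (el_mem w), ← mul_assoc]
          rw [h1, e1, D.TT_mulz (mul_mem hpU (el_mem w))]
      rw [h3 _ (el_mem w)] at h7
      obtain ⟨g, hg, hgs⟩ := D.exD hp (el_mem w) h7
      rw [e, hgs s, h2, T₀_eq]
      exact D.QQ hp hg (D.res.N_le_Q hp (D.res.t_N hp)) s
  · -- d2
    intro v w w' hvw hvw' x y hy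
    have hy' : y = D.TT (el w') x + D.TT (el v * el w') x + D.TT (el w') (D.TT (el v * el w') x) := hy
    show D.TT (el w) y + D.TT (el v * el w) y + D.TT (el w) (D.TT (el v * el w) y) = 0
    have h7 : D.f (el v) (el w) = 0 := hvw
    have h7' : D.f (el v) (el w') = 0 := hvw'
    rcases D.cases (el_mem v) with ⟨h1, -, -⟩ | ⟨p, hp, h1, h2, h3⟩
    · have e : D.TT (el v * el w) = D.TT (el w) := by
        rcases h1 with h1 | h1 <;> rw [h1]
        · rw [one_mul]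
        · rw [D.res.U_comm _ hz _ (el_mem w), D.TT_mulz (el_mem w)]
      rw [e, D.twoS, zero_add]
      rcases D.cases (el_mem w) with ⟨-, h, -⟩ | ⟨q, hq, -, h5, h6⟩
      · rw [h]; rfl
      · rw [h5]; exact D.T₀_sq hq y
    · have e : ∀ w : D.E, D.TT (el v * el w) = D.TT (p * el w) := by
        intro w
        rcases h1 with h1 | h1
        · rw [h1]
        · have hpU := D.res.Δ_U p hp
          have e1 : p * D.z * el w = p * el w * D.z := by
            rw [mul_assoc, D.res.U_comm _ hz _ (el_mem w), ← mul_assoc]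
          rw [h1, e1, D.TT_mulz (mul_mem hpU (el_mem w))]
      rw [h3 _ (el_mem w)] at h7
      rw [h3 _ (el_mem w')] at h7'
      obtain ⟨g, hg, hgs⟩ := D.exD hp (el_mem w) h7
      obtain ⟨g', hg', hgs'⟩ := D.exD hp (el_mem w') h7'
      rw [e, hgs' x] at hy'
      rw [e, hgs y, hy']
      exact D.QQ hp hg' hg x
  · -- ker
    intro s hs
    obtain ⟨x, hx, rfl⟩ := D.cl_surj s
    rw [D.cl_eq_zero hx]
    refine D.C14' (D.Γ_O hx) fun p hp => ?_
    have h1 : D.TT p (D.cl x) = 0 := hs (ve (D.res.Δ_U p hp))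
    rw [D.TT_Δ hp, D.T₀_cl hp hx, D.cl_eq_zero (D.NU_Γ hp (D.br_NU hp (D.Γ_O hx)))] at h1
    exact h1

/-- `Σ_p = (N_p ∩ C(U)) U / U` -/
theorem mem_range {p : G} (hp : p ∈ D.Δ) (s : D.S) :
    s ∈ (D.T (ve (D.res.Δ_U p hp))).range ↔ ∃ n, D.NU p n ∧ D.cl n = s := by
  have eT : ∀ s, D.T (ve (D.res.Δ_U p hp)) s = D.T₀ p s := fun s => by
    show D.TT p s = _
    rw [D.TT_Δ hp]
  constructor
  · rintro ⟨s, rfl⟩
    obtain ⟨x, hx, rfl⟩ := D.cl_surj s
    exact ⟨_, D.br_NU hp (D.Γ_O hx), by rw [eT, D.T₀_cl hp hx]⟩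
  · rintro ⟨n, hn, rfl⟩
    obtain ⟨q, hq, h1⟩ := D.res.exists_q1 hp
    have hpU := D.res.Δ_U p hp
    have hqU := D.res.Δ_U q hq
    have h2 : D.F (ve hqU) (ve hpU) = 1 := by
      show D.f q p = 1
      rw [D.res.f_symm q hqU p hpU]; exact h1
    have h3 := D.ops.tri _ _ h2 (D.cl n)
    have h4 : D.T₀ q (D.T₀ p (D.T₀ q (D.cl n))) = D.T₀ q (D.cl n) := by
      have e2 : ∀ s, D.T (ve hqU) s = D.T₀ q s := fun s => by
        show D.TT q s = _
        rw [D.TT_Δ hq]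
      have := h3
      simp only [e2, eT] at this
      exact this
    -- `n + T_p T_q n ∈ Σ_p` is killed by `T_q`
    have hG := D.NU_Γ hp hn
    have h5 := D.br_NU hq (D.Γ_O hG)
    have h6 := D.br_NU hp (D.Γ_O (D.NU_Γ hq h5))
    obtain ⟨k, hk⟩ : ∃ k, k = n * D.t q * n⁻¹ * (D.t q)⁻¹ := ⟨_, rfl⟩
    rw [← hk] at h5 h6
    obtain ⟨l, hl⟩ : ∃ l, l = k * D.t p * k⁻¹ * (D.t p)⁻¹ := ⟨_, rfl⟩
    rw [← hl] at h6
    have e1 : D.T₀ p (D.T₀ q (D.cl n)) = D.cl l := by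
      rw [D.T₀_cl hq hG, ← hk, D.T₀_cl hp (D.NU_Γ hq h5), ← hl]
    have h7 := D.inj1 hp hq h1 (D.NU_mul hn h6) (by
      rw [D.cl_mul hG (D.NU_Γ hp h6), ← e1, map_add, h4, D.twoS])
    rw [D.cl_mul hG (D.NU_Γ hp h6), ← e1] at h7
    refine ⟨D.T₀ q (D.cl n), ?_⟩
    rw [eT]
    exact (D.ops.eq_of_add h7).symm

/-- `S` is generated by the `Σ_v` -/
theorem gen (W : AddSubgroup D.S) (hW : ∀ v, (D.T v).range ≤ W) : W = ⊤ := by
  rw [eq_top_iff]
  intro s _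
  obtain ⟨x, hx, rfl⟩ := D.cl_surj s
  have key : ∀ x ∈ closure {n | ∃ p ∈ D.Δ, n ∈ Np D.z p ∧ ∀ u ∈ D.U, n * u = u * n}, D.cl x ∈ W := by
    intro x hx
    induction hx using closure_induction with
    | mem n hn =>
      obtain ⟨p, hp, hn1, hn2⟩ := hn
      exact hW _ ((D.mem_range hp _).2 ⟨n, ⟨hn1, hn2⟩, rfl⟩)
    | one => rw [D.cl_one]; exact W.zero_mem
    | mul x y hxG hyG hx hy =>
      rw [D.cl_mul (show x ∈ D.Γ from hxG) (show y ∈ D.Γ from hyG)]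
      exact W.add_mem hx hy
    | inv x hxG hx => rw [D.cl_inv (show x ∈ D.Γ from hxG)]; exact hx
  exact key x hx

end OpD

end Cfsg.Agent.Omega.HOneTwo.OpInst

end

section


/-!
# II.0h1, `q = 2`, F4-type: (19), (20) of #16429 on `OpD`

* `OpSys.hyp` : hyperbolic pairs by descent;
* `OpD.O_eq` : (20): `O₂(M) = Γ` if `|U| = 2 · 4³`;
* `OpD.card_Γ` : `|Γ| = |S| |U|`, `|S| = |Σ_q|²`;
* `OpD.dead` : (19): `Γ` is abelian if `|U| = 2 · 4²`, `|Σ_q| = 4`.
-/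

set_option autoImplicit false
set_option linter.unusedSectionVars false
set_option linter.dupNamespace false

namespace Cfsg.Agent.Omega.HOneTwo.OpSys

namespace OpSys

variable {E S : Type*} [AddCommGroup E] [AddCommGroup S] {f : E → E → ZMod 2} {T : E → S →+ S}

/-- one step of the descent -/
theorem hyp [Finite E] (h : OpSys f T) (R : AddSubgroup E) (hR : ∀ c ∈ R, ∀ e, f e c = 0) (n : ℕ)
    (D : AddSubgroup E) (hD : ∀ d ∈ D, d ∉ R → ∃ d' ∈ D, f d d' = 1) (hRD : R ≤ D)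
    (hc : Nat.card D = 4 ^ (n + 1) * Nat.card R) :
    ∃ r ∈ D, ∃ r' ∈ D, f r r' = 1 ∧ ∃ D' : AddSubgroup E, D' ≤ D ∧ (∀ d ∈ D', f r d = 0 ∧ f r' d = 0) ∧
      (∀ d ∈ D', d ∉ R → ∃ d' ∈ D', f d d' = 1) ∧ R ≤ D' ∧ Nat.card D' = 4 ^ n * Nat.card R := by
  have hne : ∃ d ∈ D, d ∉ R := by
    by_contra hcon
    push Not at hcon
    have : D = R := le_antisymm hcon hRD
    rw [this] at hc
    have h0 : 0 < Nat.card R := Nat.card_pos
    have h4 : 4 ≤ 4 ^ (n + 1) := by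
      calc 4 = 4 ^ 1 := by norm_num
        _ ≤ 4 ^ (n + 1) := Nat.pow_le_pow_right (by norm_num) (by omega)
    nlinarith
  obtain ⟨r, hrD, hrR⟩ := hne
  obtain ⟨r', hrD', hrr⟩ := hD r hrD hrR
  have hrr' : f r' r = 1 := by rw [h.symm]; exact hrr
  let φ : D →+ ZMod 2 × ZMod 2 :=
    { toFun := fun d => (f r d, f r' d)
      map_zero' := by
        have z1 : f r 0 = 0 := by
          have := h.addr 0 0 r; simp at this; exact this
        have z2 : f r' 0 = 0 := by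
          have := h.addr 0 0 r'; simp at this; exact this
        simp [z1, z2]
      map_add' := by
        intro x y
        simp [h.addr] }
  have hφ : Function.Surjective φ := by
    have e1 : φ ⟨r, hrD⟩ = (0, 1) := by
      show (f r r, f r' r) = (0, 1); rw [h.alt, hrr']
    have e2 : φ ⟨r', hrD'⟩ = (1, 0) := by
      show (f r r', f r' r') = (1, 0); rw [h.alt, hrr]
    rintro ⟨a, b⟩
    rcases z2 a with rfl | rfl <;> rcases z2 b with rfl | rfl
    · exact ⟨0, map_zero φ⟩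
    · exact ⟨_, e1⟩
    · exact ⟨_, e2⟩
    · refine ⟨⟨r, hrD⟩ + ⟨r', hrD'⟩, ?_⟩
      rw [map_add, e1, e2]; rfl
  let D' : AddSubgroup E := φ.ker.map D.subtype
  have memD' : ∀ d, d ∈ D' ↔ d ∈ D ∧ f r d = 0 ∧ f r' d = 0 := by
    intro d
    constructor
    · rintro ⟨⟨e, he⟩, hk, rfl⟩
      have hk' : φ ⟨e, he⟩ = 0 := hk
      exact ⟨he, congrArg Prod.fst hk', congrArg Prod.snd hk'⟩
    · rintro ⟨hd, h1, h2⟩
      refine ⟨⟨d, hd⟩, ?_, rfl⟩
      show φ ⟨d, hd⟩ = 0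
      exact Prod.ext h1 h2
  have cD' : Nat.card D' = 4 ^ n * Nat.card R := by
    have c1 : Nat.card D' = Nat.card φ.ker :=
      Nat.card_congr (φ.ker.equivMapOfInjective D.subtype D.subtype_injective).symm.toEquiv
    have c2 : Nat.card D = Nat.card (D ⧸ φ.ker) * Nat.card φ.ker :=
      AddSubgroup.card_eq_card_quotient_mul_card_addSubgroup φ.ker
    have c3 : Nat.card (D ⧸ φ.ker) = 4 := by
      rw [Nat.card_congr (QuotientAddGroup.quotientKerEquivOfSurjective φ hφ).toEquiv]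
      simp
    rw [c3, hc, pow_succ] at c2
    rw [c1]
    have : 4 * Nat.card φ.ker = 4 * (4 ^ n * Nat.card R) := by rw [← c2]; ring
    exact Nat.eq_of_mul_eq_mul_left (by norm_num) this
  refine ⟨r, hrD, r', hrD', hrr, D', fun d hd => ((memD' d).1 hd).1, fun d hd => ((memD' d).1 hd).2, ?_,
    fun c hcR => (memD' c).2 ⟨hRD hcR, hR c hcR r, hR c hcR r'⟩, cD'⟩
  intro d hd hdR
  obtain ⟨hdD, hrd, hrd'⟩ := (memD' d).1 hd
  obtain ⟨e, he, hde⟩ := hD d hdD hdR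
  have hdr : f d r = 0 := by rw [h.symm]; exact hrd
  have hdr' : f d r' = 0 := by rw [h.symm]; exact hrd'
  rcases z2 (f r e) with a | a <;> rcases z2 (f r' e) with b | b
  · exact ⟨e, (memD' e).2 ⟨he, a, b⟩, hde⟩
  · refine ⟨e + r, (memD' _).2 ⟨D.add_mem he hrD, ?_, ?_⟩, ?_⟩
    · rw [h.addr, a, h.alt, add_zero]
    · rw [h.addr, b, hrr']; decide
    · rw [h.addr, hde, hdr, add_zero]
  · refine ⟨e + r', (memD' _).2 ⟨D.add_mem he hrD', ?_, ?_⟩, ?_⟩
    · rw [h.addr, a, hrr]; decide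
    · rw [h.addr, b, h.alt, add_zero]
    · rw [h.addr, hde, hdr', add_zero]
  · refine ⟨e + r + r', (memD' _).2 ⟨D.add_mem (D.add_mem he hrD) hrD', ?_, ?_⟩, ?_⟩
    · rw [h.addr, h.addr, a, h.alt, hrr]; decide
    · rw [h.addr, h.addr, b, h.alt, hrr']; decide
    · rw [h.addr, h.addr, hde, hdr, hdr', add_zero, add_zero]

theorem top_props (h : OpSys f T) (R : AddSubgroup E) (hR : ∀ c, c ∈ R ↔ ∀ e, f e c = 0) :
    ∀ d ∈ (⊤ : AddSubgroup E), d ∉ R → ∃ d' ∈ (⊤ : AddSubgroup E), f d d' = 1 := by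
  intro d _ hd
  rw [hR] at hd
  push Not at hd
  obtain ⟨e, he⟩ := hd
  exact ⟨e, trivial, by rw [h.symm]; exact (z2 _).resolve_left he⟩

/-- rank 4: two orthogonal hyperbolic pairs -/
theorem hyp_two [Finite E] (h : OpSys f T) (R : AddSubgroup E) (hR : ∀ c, c ∈ R ↔ ∀ e, f e c = 0) {n : ℕ}
    (hc : Nat.card E = 4 ^ (n + 2) * Nat.card R) : ∃ p q r r', f p q = 1 ∧ f p r = 0 ∧ f q r = 0 ∧ f p r' = 0 ∧
      f q r' = 0 ∧ f r r' = 1 := by
  obtain ⟨p, -, q, -, hpq, D1, -, h1, h2, h3, h4⟩ := h.hyp R (fun c hc => (hR c).1 hc) (n + 1) ⊤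
    (h.top_props R hR) le_top (by rw [← hc]; simp)
  obtain ⟨r, hr, r', hr', hrr, -⟩ := h.hyp R (fun c hc => (hR c).1 hc) n D1 h2 h3 h4
  exact ⟨p, q, r, r', hpq, (h1 r hr).1, (h1 r hr).2, (h1 r' hr').1, (h1 r' hr').2, hrr⟩

/-- rank ≥ 6: `Three` -/
theorem hyp_three [Finite E] (h : OpSys f T) (R : AddSubgroup E) (hR : ∀ c, c ∈ R ↔ ∀ e, f e c = 0) {n : ℕ}
    (hc : Nat.card E = 4 ^ (n + 3) * Nat.card R) : ∃ p q, f p q = 1 ∧ Three f p q := by
  obtain ⟨p, -, q, -, hpq, D1, -, h1, h2, h3, h4⟩ := h.hyp R (fun c hc => (hR c).1 hc) (n + 2) ⊤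
    (h.top_props R hR) le_top (by rw [← hc]; simp)
  obtain ⟨a, ha, a', ha', haa, D2, hD2, k1, k2, k3, k4⟩ := h.hyp R (fun c hc => (hR c).1 hc) (n + 1) D1 h2 h3 h4
  obtain ⟨b, hb, b', hb', hbb, -⟩ := h.hyp R (fun c hc => (hR c).1 hc) n D2 k2 k3 k4
  exact ⟨p, q, hpq, h.three_of (h1 a ha).1 (h1 a ha).2 (h1 a' ha').1 (h1 a' ha').2 (h1 b (hD2 hb)).1
    (h1 b (hD2 hb)).2 (h1 b' (hD2 hb')).1 (h1 b' (hD2 hb')).2 haa hbb (k1 b hb).1 (k1 b' hb').1 (k1 b hb).2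
    (k1 b' hb').2⟩

end OpSys

end Cfsg.Agent.Omega.HOneTwo.OpSys

namespace Cfsg.Agent.Omega.HOneTwo.OpInst

open Subgroup Cfsg.Agent.Omega.BTwo Cfsg.Agent.Omega.HTwo.Eight Cfsg.Agent.Omega.HOneTwo.OpSys

universe u

variable {G : Type u} [Group G]

namespace OpD

variable (D : OpD G) [Finite G]

/-! ### the cocycle of `o ∈ O₂(M)` -/

/-- `[o, m]` in `S` -/
noncomputable def cc (o m : G) : D.S := D.cl (o * m * o⁻¹ * m⁻¹)

theorem cc_mul {o m n : G} (hm : m ∈ D.M) (h1 : o * m * o⁻¹ * m⁻¹ ∈ D.Γ)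
    (h2 : o * n * o⁻¹ * n⁻¹ ∈ D.Γ) : D.cc o (m * n) = D.cc o m + D.act m (D.cc o n) := by
  unfold cc
  rw [D.act_cl hm h2, ← D.cl_mul h1 (D.Γ_conj hm h2)]
  congr 1
  group

theorem cc_mem {o m n : G} (hm : m ∈ D.M) (h1 : o * m * o⁻¹ * m⁻¹ ∈ D.Γ)
    (h2 : o * n * o⁻¹ * n⁻¹ ∈ D.Γ) : o * (m * n) * o⁻¹ * (m * n)⁻¹ ∈ D.Γ := by
  have e : o * (m * n) * o⁻¹ * (m * n)⁻¹ = (o * m * o⁻¹ * m⁻¹) * (m * (o * n * o⁻¹ * n⁻¹) * m⁻¹) := by group
  rw [e]
  exact mul_mem h1 (D.Γ_conj hm h2)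

theorem oc_mem {o k : G} (ho : o ∈ O2 D.M) (hk : k ∈ D.Γ) : o * k * o⁻¹ * k⁻¹ ∈ D.U := by
  rcases D.OG o ho k hk with h | h
  · have e : o * k * o⁻¹ * k⁻¹ = 1 := by rw [h]; group
    rw [e]; exact one_mem _
  · have e : o * k * o⁻¹ * k⁻¹ = D.z := by rw [h]; group
    rw [e]; exact D.res.z_U

theorem cc_Γ {o k : G} (ho : o ∈ O2 D.M) (hk : k ∈ D.Γ) : D.cc o k = 0 := by
  unfold cc
  have h1 := D.oc_mem ho hk
  rw [D.cl_eq_zero (D.U_Γ h1)]
  exact h1

/-- `[o, t_p]` -/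
theorem cct_mem {o p : G} (ho : o ∈ O2 D.M) (hp : p ∈ D.Δ) : o * D.t p * o⁻¹ * (D.t p)⁻¹ ∈ D.Γ :=
  D.NU_Γ hp (D.br_NU hp ho)

theorem act_Γ {k : G} (hk : k ∈ D.Γ) (s : D.S) : D.act k s = s := D.act_O (D.Γ_O hk) s

theorem T₀_cct {o p : G} (ho : o ∈ O2 D.M) (hp : p ∈ D.Δ) : D.T₀ p (D.cc o (D.t p)) = 0 :=
  D.T₀_zero hp (D.br_NU hp ho)

theorem cct_comm {o p q : G} (ho : o ∈ O2 D.M) (hp : p ∈ D.Δ) (hq : q ∈ D.Δ) (h0 : D.f p q = 0) :
    D.T₀ p (D.cc o (D.t q)) = D.T₀ q (D.cc o (D.t p)) := by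
  have h1 := D.res.t_M hp
  have h2 := D.res.t_M hq
  have hc : D.t p ∈ Cp q := mem_Cp.2 (D.res.t_0 p hp q (D.res.Δ_U q hq) h0)
  have h3 := N_normal hc (D.res.t_N hq)
  have h4 := D.NU_of_mv hq h3 (D.res.conj_mv h1 (D.res.t_mv hq))
  obtain ⟨k, hk⟩ : ∃ k, k = (D.t q)⁻¹ * (D.t p * D.t q * (D.t p)⁻¹) := ⟨_, rfl⟩
  rw [← hk] at h4
  have hkG := D.NU_Γ hq h4
  have e : D.t p * D.t q = D.t q * (k * D.t p) := by rw [hk]; group
  have m1 := D.cct_mem ho hp
  have m2 := D.cct_mem ho hq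
  have mk : o * k * o⁻¹ * k⁻¹ ∈ D.Γ := D.U_Γ (D.oc_mem ho hkG)
  have e1 := D.cc_mul h1 m1 m2
  have e2 := D.cc_mul h2 m2 (D.cc_mem (D.Γ_M hkG) mk m1)
  rw [D.cc_mul (D.Γ_M hkG) mk m1, D.cc_Γ ho hkG, D.act_Γ hkG, zero_add] at e2
  rw [e, e2, D.act_eq p, D.act_eq q] at e1
  have e3 : D.cc o (D.t p) + D.cc o (D.t q) + D.T₀ q (D.cc o (D.t p)) =
      D.cc o (D.t p) + D.cc o (D.t q) + D.T₀ p (D.cc o (D.t q)) := by
    calc D.cc o (D.t p) + D.cc o (D.t q) + D.T₀ q (D.cc o (D.t p)) =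
        D.cc o (D.t q) + (D.cc o (D.t p) + D.T₀ q (D.cc o (D.t p))) := by abel
      _ = _ := by rw [e1]; abel
  exact (add_left_cancel e3).symm

theorem cct_conj {o p q : G} (ho : o ∈ O2 D.M) (hp : p ∈ D.Δ) (hq : q ∈ D.Δ) (h1 : D.f p q = 1) :
    D.cc o (D.t (p * q * D.z)) = D.cc o (D.t q) + D.T₀ q (D.cc o (D.t p)) + D.T₀ p (D.cc o (D.t q)) +
      D.T₀ p (D.T₀ q (D.cc o (D.t p))) := by
  have h2 := D.res.t_M hp
  have h3 := D.res.t_M hq
  have hpq := D.res.mul1 p hp q hq h1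
  have h4 := D.NU_of_mv hpq (D.res.tt_N hp hq h1) (D.res.conj_mv h2 (D.res.t_mv hq))
  obtain ⟨k, hk⟩ : ∃ k, k = (D.t (p * q * D.z))⁻¹ * (D.t p * D.t q * (D.t p)⁻¹) := ⟨_, rfl⟩
  rw [← hk] at h4
  have hkG := D.NU_Γ hpq h4
  have e : D.t (p * q * D.z) * k = D.t p * (D.t q * D.t p) := by
    rw [hk, D.res.t_inv hp]; group
  have m1 := D.cct_mem ho hp
  have m2 := D.cct_mem ho hq
  have m3 := D.cct_mem ho hpq
  have mk : o * k * o⁻¹ * k⁻¹ ∈ D.Γ := D.U_Γ (D.oc_mem ho hkG)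
  have e1 := D.cc_mul (D.res.t_M hpq) m3 mk
  rw [D.cc_Γ ho hkG, map_zero, add_zero, e, D.cc_mul h2 m1 (D.cc_mem h3 m2 m1), D.cc_mul h3 m2 m1] at e1
  rw [← e1, D.act_eq q, D.act_eq p]
  simp only [map_add]
  rw [D.T₀_cct ho hp]
  have e3 : ∀ a b c d g : D.S, a + (b + (a + c) + (d + (0 + g))) = b + c + d + g := by
    intro a b c d g
    calc a + (b + (a + c) + (d + (0 + g))) = (a + a) + (b + c + d + g) := by abel
      _ = _ := by rw [D.twoS, zero_add]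
  exact e3 _ _ _ _ _

open Classical in
/-- the family of `o` -/
noncomputable def ta (o u : G) : D.S :=
  if u ∈ D.Δ then D.cc o (D.t u) else if u * D.z ∈ D.Δ then D.cc o (D.t (u * D.z)) else 0

theorem ta_Δ (o : G) {p : G} (hp : p ∈ D.Δ) : D.ta o p = D.cc o (D.t p) := if_pos hp

theorem ta_pz (o : G) {p : G} (hp : p ∈ D.Δ) : D.ta o (p * D.z) = D.cc o (D.t p) := by
  have e : p * D.z * D.z = p := by rw [mul_assoc, D.res.zz, mul_one]
  rw [ta, if_neg (D.res.inj p hp), e, if_pos hp]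

theorem ta_one (o : G) : D.ta o 1 = 0 := by
  rw [ta, if_neg D.res.Δ_1, one_mul, if_neg D.res.Δ_z]

theorem ta_z (o : G) : D.ta o D.z = 0 := by
  rw [ta, if_neg D.res.Δ_z, D.res.zz, if_neg D.res.Δ_1]

theorem ta_mulz (o : G) {u : G} (hu : u ∈ D.U) : D.ta o (u * D.z) = D.ta o u := by
  rcases D.res.cover u hu with rfl | rfl | h | h
  · rw [one_mul, ta_z, ta_one]
  · rw [D.res.zz, ta_z, ta_one]
  · rw [D.ta_pz o h, D.ta_Δ o h]
  · have e : u * D.z * D.z = u := by rw [mul_assoc, D.res.zz, mul_one]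
    rw [D.ta_Δ o h]
    have := D.ta_pz o h
    rw [e] at this
    exact this.symm

/-- the cases, with `ta` -/
theorem cases' (o : G) {u : G} (hu : u ∈ D.U) :
    ((u = 1 ∨ u = D.z) ∧ D.TT u = 0 ∧ (∀ w ∈ D.U, D.f u w = 0) ∧ D.ta o u = 0) ∨
    ∃ p ∈ D.Δ, (u = p ∨ u = p * D.z) ∧ D.TT u = D.T₀ p ∧ (∀ w ∈ D.U, D.f u w = D.f p w) ∧
      D.ta o u = D.cc o (D.t p) := by
  rcases D.cases hu with ⟨h1, h2, h3⟩ | ⟨p, hp, h1, h2, h3⟩
  · refine Or.inl ⟨h1, h2, h3, ?_⟩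
    rcases h1 with rfl | rfl
    · exact D.ta_one o
    · exact D.ta_z o
  · refine Or.inr ⟨p, hp, h1, h2, h3, ?_⟩
    rcases h1 with rfl | rfl
    · exact D.ta_Δ o hp
    · exact D.ta_pz o hp

theorem ta_mul (o : G) {u v p q : G} (hu : u = p ∨ u = p * D.z) (hv : v = q ∨ v = q * D.z) (hp : p ∈ D.Δ)
    (hq : q ∈ D.Δ) : D.ta o (u * v) = D.ta o (p * q) := by
  have hpU := D.res.Δ_U p hp
  have hqU := D.res.Δ_U q hq
  have hz := D.res.z_U
  rcases hu with rfl | rfl <;> rcases hv with rfl | rfl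
  · rfl
  · rw [← mul_assoc, D.ta_mulz o (mul_mem hpU hqU)]
  · rw [mul_assoc, D.res.U_comm _ hz _ hqU, ← mul_assoc, D.ta_mulz o (mul_mem hpU hqU)]
  · have e : p * D.z * (q * D.z) = p * q := by
      calc p * D.z * (q * D.z) = p * (D.z * q) * D.z := by group
        _ = p * q * (D.z * D.z) := by rw [D.res.U_comm _ hz _ hqU]; group
        _ = p * q := by rw [D.res.zz, mul_one]
    rw [e]

/-- the family is a cocycle -/
theorem coc {o : G} (ho : o ∈ O2 D.M) : OpSys.Coc D.F D.T (fun v => D.ta o (el v)) where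
  mem := by
    intro v
    show D.ta o (el v) ∈ (D.TT (el v)).range
    rcases D.cases' o (el_mem v) with ⟨-, -, -, h⟩ | ⟨p, hp, h1, h2, h3, h4⟩
    · rw [h]; exact AddSubgroup.zero_mem _
    · rw [h4, h2]
      have := (D.mem_range hp (D.cc o (D.t p))).2 ⟨_, D.br_NU hp ho, rfl⟩
      have e : (D.T (ve (D.res.Δ_U p hp))).range = (D.T₀ p).range := by
        show (D.TT p).range = _
        rw [D.TT_Δ hp]
      rwa [e] at this
  comm := by
    intro v w hvw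
    show D.TT (el v) (D.ta o (el w)) = D.TT (el w) (D.ta o (el v))
    rcases D.cases' o (el_mem v) with ⟨-, h, -, h'⟩ | ⟨p, hp, h1, h2, h3, h4⟩
    · rw [h, h', map_zero]; rfl
    · rcases D.cases' o (el_mem w) with ⟨-, h, -, h'⟩ | ⟨q, hq, k1, k2, k3, k4⟩
      · rw [h, h', map_zero]; rfl
      · rw [h2, k2, h4, k4]
        refine D.cct_comm ho hp hq ?_
        have h7 : D.f (el v) (el w) = 0 := hvw
        rwa [h3 _ (el_mem w), D.f_right (el_mem w) (D.res.Δ_U p hp) hq k3] at h7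
  conj := by
    intro v w hvw
    show D.ta o (el v * el w) = D.ta o (el w) + D.TT (el w) (D.ta o (el v)) + D.TT (el v) (D.ta o (el w)) +
      D.TT (el v) (D.TT (el w) (D.ta o (el v)))
    have h7 : D.f (el v) (el w) = 1 := hvw
    rcases D.cases' o (el_mem v) with ⟨-, -, h, -⟩ | ⟨p, hp, h1, h2, h3, h4⟩
    · exfalso
      rw [h _ (el_mem w)] at h7
      exact zero_ne_one h7
    · rcases D.cases' o (el_mem w) with ⟨-, -, h, -⟩ | ⟨q, hq, k1, k2, k3, k4⟩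
      · exfalso
        rw [D.res.f_symm _ (el_mem v) _ (el_mem w), h _ (el_mem v)] at h7
        exact zero_ne_one h7
      · rw [h3 _ (el_mem w), D.f_right (el_mem w) (D.res.Δ_U p hp) hq k3] at h7
        have hpq := mul_mem (D.res.Δ_U p hp) (D.res.Δ_U q hq)
        rw [D.ta_mul o h1 k1 hp hq, ← D.ta_mulz o hpq, D.ta_Δ o (D.res.mul1 p hp q hq h7), h2, k2, h4, k4]
        exact D.cct_conj ho hp hq h7

/-! ### the radical and the cardinalities -/

/-- `⟨z⟩` in `E` -/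
def R (D : OpD G) : AddSubgroup D.E where
  carrier := {v | el v = 1 ∨ el v = D.z}
  zero_mem' := Or.inl el_zero
  add_mem' := by
    rintro v w hv hw
    show el v * el w = 1 ∨ el v * el w = D.z
    rcases hv with hv | hv <;> rcases hw with hw | hw <;> rw [hv, hw]
    · exact Or.inl (mul_one 1)
    · exact Or.inr (one_mul _)
    · exact Or.inr (mul_one _)
    · exact Or.inl D.res.zz
  neg_mem' := by
    rintro v hv
    have e : el (-v) = (el v)⁻¹ := rfl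
    show el (-v) = 1 ∨ el (-v) = D.z
    rw [e]
    rcases hv with hv | hv <;> rw [hv]
    · exact Or.inl inv_one
    · exact Or.inr D.z_inv

omit [Finite G] in
theorem mem_R {c : D.E} : c ∈ D.R ↔ ∀ e, D.F e c = 0 := by
  constructor
  · rintro (h | h) e
    · show D.f (el e) (el c) = 0
      rw [h]; exact D.res.f_one (el_mem e)
    · show D.f (el e) (el c) = 0
      rw [h]; exact D.res.f_z' (el_mem e)
  · intro h
    refine D.res.f_rad _ (el_mem c) fun v hv => ?_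
    rw [D.res.f_symm _ (el_mem c) v hv]
    exact h (ve hv)

omit [Finite G] in
theorem card_R : Nat.card D.R = 2 := by
  have e : (D.R : Set D.E) = {(0 : D.E), ve D.res.z_U} := by
    ext v
    constructor
    · rintro (h | h)
      · exact Or.inl (el_inj h)
      · exact Or.inr (el_inj h)
    · rintro (h | h)
      · rw [h]; exact Or.inl rfl
      · rw [Set.mem_singleton_iff] at h; rw [h]; exact Or.inr rfl
  have h1 : Nat.card D.R = (D.R : Set D.E).ncard := rfl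
  rw [h1, e, Set.ncard_pair]
  intro h
  have h2 : (1 : G) = D.z := congrArg el h
  exact D.res.z1 h2.symm

instance : Finite D.E := inferInstanceAs (Finite (Additive D.U))

instance : Finite D.S := inferInstanceAs (Finite (Additive D.SM))

omit [Finite G] in
theorem card_E : Nat.card D.E = Nat.card D.U := rfl

omit [Finite G] in
theorem card_Γ : Nat.card D.Γ = Nat.card D.S * Nat.card D.U := by
  have h1 := card_eq_card_quotient_mul_card_subgroup (D.U.subgroupOf D.Γ)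
  rw [h1]
  congr 1
  exact Nat.card_congr (subgroupOfEquivOfLe D.U_Γ).toEquiv

/-- **(20)** `O₂(M) = Γ` -/
theorem O_eq {n : ℕ} (hU : Nat.card D.U = 2 * 4 ^ (n + 3)) : O2 D.M = D.Γ := by
  apply le_antisymm _ D.Γ_O
  intro o ho
  obtain ⟨p, q, hpq, hm⟩ := D.ops.hyp_three D.R (fun c => D.mem_R) (n := n)
    (by rw [card_R, card_E, hU]; ring)
  obtain ⟨y, hy⟩ := D.ops.coc (D.coc ho) hpq hm
  obtain ⟨x, hx, rfl⟩ := D.cl_surj y
  have hxO : x⁻¹ * o ∈ O2 D.M := mul_mem (inv_mem (D.Γ_O hx)) ho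
  have key : x⁻¹ * o ∈ D.U := by
    refine D.C14' hxO fun p hp => ?_
    have h1 : D.ta o p = D.TT p (D.cl x) := hy (ve (D.res.Δ_U p hp))
    rw [D.ta_Δ o hp, D.TT_Δ hp, T₀_eq] at h1
    have htM := D.res.t_M hp
    have m1 := D.cct_mem ho hp
    have m2 := D.Γ_conj htM hx
    rw [D.act_cl htM hx] at h1
    rw [← D.cl_eq_zero (D.cct_mem hxO hp)]
    have e : x⁻¹ * o * D.t p * (x⁻¹ * o)⁻¹ * (D.t p)⁻¹ =
        x⁻¹ * (o * D.t p * o⁻¹ * (D.t p)⁻¹) * (D.t p * x * (D.t p)⁻¹) := by group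
    have h2 : D.cl (o * D.t p * o⁻¹ * (D.t p)⁻¹) = D.cl x + D.cl (D.t p * x * (D.t p)⁻¹) := h1
    rw [e, D.cl_mul (mul_mem (inv_mem hx) m1) m2, D.cl_mul (inv_mem hx) m1, D.cl_inv hx, h2]
    have e2 : ∀ a b : D.S, a + (a + b) + b = 0 := by
      intro a b
      calc a + (a + b) + b = (a + a) + (b + b) := by abel
        _ = 0 := by rw [D.twoS, D.twoS, add_zero]
    exact e2 _ _
  have h3 := mul_mem hx (D.U_Γ key)
  rwa [mul_inv_cancel_left] at h3

/-- `|O₂(M)| = |U| |Σ_r|²` -/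
theorem card_O {n : ℕ} (hU : Nat.card D.U = 2 * 4 ^ (n + 3)) :
    Nat.card (O2 D.M) = Nat.card (D.T (ve (D.res.Δ_U _ D.r_Δ))).range ^ 2 * Nat.card D.U := by
  obtain ⟨q, hq, h1⟩ := D.res.exists_q1 D.r_Δ
  have h2 : D.F (ve (D.res.Δ_U q hq)) (ve (D.res.Δ_U _ D.r_Δ)) = 1 := by
    show D.f q D.r = 1
    rw [D.res.f_symm q (D.res.Δ_U q hq) _ (D.res.Δ_U _ D.r_Δ)]; exact h1
  rw [D.O_eq hU, D.card_Γ, D.ops.card_S D.gen h2]

/-! ### (19) -/

open Classical in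
/-- `κ(x) = 1` iff `x² ≠ 1` -/
noncomputable def kap (x : G) : ZMod 2 := if x * x = 1 then 0 else 1

open Classical in
/-- `B(x, y) = 1` iff `[x, y] ≠ 1` -/
noncomputable def bb (x y : G) : ZMod 2 := if x * y = y * x then 0 else 1

omit [Finite G] in
theorem bb_congr {x y x' y' : G} (h : x * y = y * x ↔ x' * y' = y' * x') : bb x y = bb x' y' := by
  unfold bb
  by_cases h1 : x * y = y * x
  · rw [if_pos h1, if_pos (h.1 h1)]
  · rw [if_neg h1, if_neg fun h2 => h1 (h.2 h2)]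

omit [Finite G] in
theorem kap_U {x u : G} (hx : x ∈ D.Γ) (hu : u ∈ D.U) : kap (x * u) = kap x := by
  have h1 := D.Γ_cen hx hu
  have e : x * u * (x * u) = x * x := by
    calc x * u * (x * u) = x * (u * x) * u := by group
      _ = x * x * (u * u) := by rw [← h1]; group
      _ = x * x := by rw [D.res.U_sq u hu, mul_one]
  unfold kap
  rw [e]

omit [Finite G] in
theorem bb_U {x y u : G} (hy : y ∈ D.Γ) (hu : u ∈ D.U) : bb (x * u) y = bb x y := by
  have h1 := D.Γ_cen hy hu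
  have e : x * u * y = y * (x * u) ↔ x * y = y * x := by
    constructor
    · intro h
      have h2 : x * y * u = y * x * u := by
        calc x * y * u = x * (y * u) := by group
          _ = x * u * y := by rw [h1]; group
          _ = y * x * u := by rw [h]; group
      exact mul_right_cancel h2
    · intro h
      calc x * u * y = x * (u * y) := by group
        _ = x * y * u := by rw [← h1]; group
        _ = y * (x * u) := by rw [h]; group
  exact bb_congr e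

omit [Finite G] in
theorem bb_symm (x y : G) : bb x y = bb y x := by
  exact bb_congr eq_comm

theorem comm_eq {x y : G} (hx : x ∈ D.Γ) (hy : y ∈ D.Γ) : x * y = pw D.z (bb x y) * (y * x) := by
  unfold bb
  by_cases h : x * y = y * x
  · rw [if_pos h, pw_zero, one_mul, h]
  · rw [if_neg h, pw_one]
    exact (D.Γ_comm hx hy).resolve_left h

theorem sq_eq {x : G} (hx : x ∈ D.Γ) : x * x = pw D.z (kap x) := by
  unfold kap
  by_cases h : x * x = 1
  · rw [if_pos h, pw_zero, h]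
  · rw [if_neg h, pw_one]
    exact (D.Γ_sq hx).resolve_left h

omit [Finite G] in
theorem z_pw_cen {x : G} (hx : x ∈ D.Γ) (a : ZMod 2) : x * pw D.z a = pw D.z a * x :=
  D.Γ_cen hx (pw_mem D.res.z_U a)

theorem bb_mul {x y w : G} (hx : x ∈ D.Γ) (hy : y ∈ D.Γ) (hw : w ∈ D.Γ) :
    bb (x * y) w = bb x w + bb y w := by
  apply pw_inj D.res.z1
  apply mul_right_cancel (b := w * (x * y))
  rw [← D.comm_eq (mul_mem hx hy) hw, pw_add D.res.zz]
  calc x * y * w = x * (y * w) := by group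
    _ = (x * pw D.z (bb y w)) * (w * y) := by rw [D.comm_eq hy hw]; group
    _ = pw D.z (bb y w) * (x * w) * y := by rw [D.z_pw_cen hx]; group
    _ = (pw D.z (bb y w) * pw D.z (bb x w)) * (w * (x * y)) := by rw [D.comm_eq hx hw]; group
    _ = pw D.z (bb x w) * pw D.z (bb y w) * (w * (x * y)) := by
      rw [D.z_pw_cen (D.z_Γ |> fun h => (pw_mem h (bb y w) : pw D.z (bb y w) ∈ D.Γ))]

theorem kap_mul {x y : G} (hx : x ∈ D.Γ) (hy : y ∈ D.Γ) : kap (x * y) = kap x + kap y + bb y x := by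
  apply pw_inj D.res.z1
  rw [← D.sq_eq (mul_mem hx hy), pw_add D.res.zz, pw_add D.res.zz, ← D.sq_eq hx, ← D.sq_eq hy]
  calc x * y * (x * y) = x * (y * x) * y := by group
    _ = (x * pw D.z (bb y x)) * (x * y) * y := by rw [D.comm_eq hy hx]; group
    _ = pw D.z (bb y x) * (x * x * (y * y)) := by rw [D.z_pw_cen hx]; group
    _ = x * x * (y * y) * pw D.z (bb y x) := by
      rw [D.z_pw_cen (mul_mem (mul_mem hx hx) (mul_mem hy hy))]

/-- a representative -/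
noncomputable def rp (s : D.S) : G := (D.cl_surj s).choose

theorem rp_mem (s : D.S) : D.rp s ∈ D.Γ := (D.cl_surj s).choose_spec.1

theorem rp_cl (s : D.S) : D.cl (D.rp s) = s := (D.cl_surj s).choose_spec.2

theorem kap_cl {x y : G} (hx : x ∈ D.Γ) (hy : y ∈ D.Γ) (h : D.cl x = D.cl y) : kap x = kap y := by
  have h1 := (D.cl_eq_iff hx hy).1 h
  have e : y = x * (x⁻¹ * y) := by group
  rw [e, D.kap_U hx h1]

theorem bb_cl {x y w : G} (hx : x ∈ D.Γ) (hy : y ∈ D.Γ) (hw : w ∈ D.Γ) (h : D.cl x = D.cl y) : bb x w = bb y w := by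
  have h1 := (D.cl_eq_iff hx hy).1 h
  have e : y = x * (x⁻¹ * y) := by group
  rw [e, D.bb_U hw h1]

/-- **(19)**: rank 4 and `|Σ_q| = 4`: `Γ` is abelian -/
theorem dead (hU : Nat.card D.U = 2 * 4 ^ 2) (hS : Nat.card (D.T (ve (D.res.Δ_U _ D.r_Δ))).range = 4) :
    ∀ x ∈ D.Γ, ∀ y ∈ D.Γ, x * y = y * x := by
  obtain ⟨p, q, r, r', hpq, hpr, hqr, hpr', hqr', hrr⟩ := D.ops.hyp_two D.R (fun c => D.mem_R) (n := 0)
    (by rw [card_R, card_E, hU]; norm_num)
  have hcq : Nat.card (D.T q).range = 4 := by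
    obtain ⟨q', hq', h1⟩ := D.res.exists_q1 D.r_Δ
    have h2 : D.F (ve (D.res.Δ_U q' hq')) (ve (D.res.Δ_U _ D.r_Δ)) = 1 := by
      show D.f q' D.r = 1
      rw [D.res.f_symm q' (D.res.Δ_U q' hq') _ (D.res.Δ_U _ D.r_Δ)]; exact h1
    have h3 := D.ops.card_S D.gen h2
    rw [hS, D.ops.card_S D.gen hpq] at h3
    exact Nat.pow_left_injective (n := 2) (by norm_num) h3
  have hz := D.ops.dead_two hpq hpr hqr hpr' hqr' hrr (D.ops.sum D.gen hpq)
    (fun s t => bb (D.rp t) (D.rp s)) ?_ ?_ (fun s => kap (D.rp s)) ?_ ?_ ?_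
  · intro x hx y hy
    have h1 := hz (D.cl y) (D.cl x)
    have h2 : bb x y = 0 := by
      have e1 := D.bb_cl (D.rp_mem (D.cl x)) hx (D.rp_mem (D.cl y)) (D.rp_cl _)
      have e2 := D.bb_cl (D.rp_mem (D.cl y)) hy hx (D.rp_cl _)
      rw [bb_symm x y, ← e2, bb_symm, ← e1]
      exact h1
    have h3 := D.comm_eq hx hy
    rwa [h2, pw_zero, one_mul] at h3
  · intro s t w
    have e1 := D.bb_cl (D.rp_mem (s + t)) (mul_mem (D.rp_mem s) (D.rp_mem t)) (D.rp_mem w)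
      (by rw [D.rp_cl, D.cl_mul (D.rp_mem s) (D.rp_mem t), D.rp_cl, D.rp_cl])
    show bb (D.rp w) (D.rp (s + t)) = bb (D.rp w) (D.rp s) + bb (D.rp w) (D.rp t)
    rw [bb_symm _ (D.rp (s + t)), e1, D.bb_mul (D.rp_mem s) (D.rp_mem t) (D.rp_mem w), bb_symm _ (D.rp s),
      bb_symm _ (D.rp t)]
  · intro s t w
    have e1 := D.bb_cl (D.rp_mem (s + t)) (mul_mem (D.rp_mem s) (D.rp_mem t)) (D.rp_mem w)
      (by rw [D.rp_cl, D.cl_mul (D.rp_mem s) (D.rp_mem t), D.rp_cl, D.rp_cl])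
    show bb (D.rp (s + t)) (D.rp w) = bb (D.rp s) (D.rp w) + bb (D.rp t) (D.rp w)
    rw [e1, D.bb_mul (D.rp_mem s) (D.rp_mem t) (D.rp_mem w)]
  · intro s t
    have e1 := D.kap_cl (D.rp_mem (s + t)) (mul_mem (D.rp_mem s) (D.rp_mem t))
      (by rw [D.rp_cl, D.cl_mul (D.rp_mem s) (D.rp_mem t), D.rp_cl, D.rp_cl])
    show kap (D.rp (s + t)) = kap (D.rp s) + kap (D.rp t) + bb (D.rp t) (D.rp s)
    rw [e1, D.kap_mul (D.rp_mem s) (D.rp_mem t)]
  · intro v s hs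
    have hs' : s ∈ (D.TT (el v)).range := hs
    rcases D.cases (el_mem v) with ⟨-, h, -⟩ | ⟨p', hp', -, h2, -⟩
    · rw [h] at hs'
      obtain ⟨t, rfl⟩ := hs'
      have e1 := D.kap_cl (D.rp_mem (0 : D.S)) (one_mem _) (by rw [D.rp_cl, D.cl_one])
      show kap (D.rp (0 : D.S)) = 0
      rw [e1, kap, if_pos (mul_one 1)]
    · have h3 : s ∈ (D.T (ve (D.res.Δ_U p' hp'))).range := by
        show s ∈ (D.TT p').range
        rw [D.TT_Δ hp', ← h2]; exact hs'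
      obtain ⟨n, hn, hns⟩ := (D.mem_range hp' s).1 h3
      have e1 := D.kap_cl (D.rp_mem s) (D.NU_Γ hp' hn) (by rw [D.rp_cl, hns])
      show kap (D.rp s) = 0
      rw [e1, kap, if_pos (D.res.N_sq p' hp' n hn.1)]
  · -- `|T_r Σ_q| ≤ 2`
    intro a hpa hqa x hx y hy hx0 hy0
    by_contra hne
    have h1 := D.ops.card_W_le hqa
    rw [hcq] at h1
    have h2 : 3 ≤ Nat.card ((D.T q).range.map (D.T a)) := by
      have hsub : ({0, D.T a x, D.T a y} : Set D.S) ⊆ ((D.T q).range.map (D.T a) : Set D.S) := by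
        rintro s (h | h | h)
        · rw [h]; exact AddSubgroup.zero_mem _
        · rw [h]; exact ⟨x, hx, rfl⟩
        · rw [Set.mem_singleton_iff] at h; rw [h]; exact ⟨y, hy, rfl⟩
      have h3 := Set.ncard_le_ncard hsub (Set.toFinite _)
      have h4 : ({0, D.T a x, D.T a y} : Set D.S).ncard = 3 := by
        rw [Set.ncard_eq_three]
        exact ⟨0, D.T a x, D.T a y, hx0.symm, hy0.symm, hne, rfl⟩
      rw [h4] at h3
      exact h3
    nlinarith

end OpD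

end Cfsg.Agent.Omega.HOneTwo.OpInst

end

section


/-!
# The cardinality of a finite `F₂`-group with an alternating form: `|L| = 4 ^ n |rad|`
-/

set_option autoImplicit false

namespace Cfsg.Agent.Omega.HOneTwo.FormPow

theorem z2 (c : ZMod 2) : c = 0 ∨ c = 1 := by
  revert c; decide

variable {L : Type*} [AddCommGroup L] {g : L → L → ZMod 2}

theorem form_step (add : ∀ u v w, g (u + v) w = g u w + g v w) (symm : ∀ v w, g v w = g w v)
    (alt : ∀ v, g v v = 0) (R : AddSubgroup L) (hR : ∀ c ∈ R, ∀ e, g e c = 0) (D : AddSubgroup L)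
    (hD : ∀ d ∈ D, d ∉ R → ∃ d' ∈ D, g d d' = 1) (hRD : R ≤ D) (hne : D ≠ R) :
    ∃ D' : AddSubgroup L, (∀ d ∈ D', d ∉ R → ∃ d' ∈ D', g d d' = 1) ∧ R ≤ D' ∧
      Nat.card D = 4 * Nat.card D' := by
  have addr : ∀ u v w, g w (u + v) = g w u + g w v := fun u v w => by
    rw [symm, add, symm u, symm v]
  have hne' : ∃ d ∈ D, d ∉ R := by
    by_contra hcon
    push Not at hcon
    exact hne (le_antisymm hcon hRD)
  obtain ⟨r, hrD, hrR⟩ := hne'
  obtain ⟨r', hrD', hrr⟩ := hD r hrD hrR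
  have hrr' : g r' r = 1 := by rw [symm]; exact hrr
  let φ : D →+ ZMod 2 × ZMod 2 :=
    { toFun := fun d => (g r d, g r' d)
      map_zero' := by
        have z1 : g r 0 = 0 := by
          have := addr 0 0 r; simp at this; exact this
        have z2 : g r' 0 = 0 := by
          have := addr 0 0 r'; simp at this; exact this
        simp [z1, z2]
      map_add' := by
        intro x y
        simp [addr] }
  have hφ : Function.Surjective φ := by
    have e1 : φ ⟨r, hrD⟩ = (0, 1) := by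
      show (g r r, g r' r) = (0, 1); rw [alt, hrr']
    have e2 : φ ⟨r', hrD'⟩ = (1, 0) := by
      show (g r r', g r' r') = (1, 0); rw [alt, hrr]
    rintro ⟨a, b⟩
    rcases z2 a with rfl | rfl <;> rcases z2 b with rfl | rfl
    · exact ⟨0, map_zero φ⟩
    · exact ⟨_, e1⟩
    · exact ⟨_, e2⟩
    · refine ⟨⟨r, hrD⟩ + ⟨r', hrD'⟩, ?_⟩
      rw [map_add, e1, e2]; rfl
  let D' : AddSubgroup L := φ.ker.map D.subtype
  have memD' : ∀ d, d ∈ D' ↔ d ∈ D ∧ g r d = 0 ∧ g r' d = 0 := by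
    intro d
    constructor
    · rintro ⟨⟨e, he⟩, hk, rfl⟩
      have hk' : φ ⟨e, he⟩ = 0 := hk
      exact ⟨he, congrArg Prod.fst hk', congrArg Prod.snd hk'⟩
    · rintro ⟨hd, h1, h2⟩
      refine ⟨⟨d, hd⟩, ?_, rfl⟩
      show φ ⟨d, hd⟩ = 0
      exact Prod.ext h1 h2
  have cD' : Nat.card D = 4 * Nat.card D' := by
    have c1 : Nat.card D' = Nat.card φ.ker :=
      Nat.card_congr (φ.ker.equivMapOfInjective D.subtype D.subtype_injective).symm.toEquiv
    have c2 : Nat.card D = Nat.card (D ⧸ φ.ker) * Nat.card φ.ker :=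
      AddSubgroup.card_eq_card_quotient_mul_card_addSubgroup φ.ker
    have c3 : Nat.card (D ⧸ φ.ker) = 4 := by
      rw [Nat.card_congr (QuotientAddGroup.quotientKerEquivOfSurjective φ hφ).toEquiv]
      simp
    rw [c2, c3, c1]
  refine ⟨D', ?_, fun c hcR => (memD' c).2 ⟨hRD hcR, hR c hcR r, hR c hcR r'⟩, cD'⟩
  intro d hd hdR
  obtain ⟨hdD, hrd, hrd'⟩ := (memD' d).1 hd
  obtain ⟨e, he, hde⟩ := hD d hdD hdR
  have hdr : g d r = 0 := by rw [symm]; exact hrd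
  have hdr' : g d r' = 0 := by rw [symm]; exact hrd'
  rcases z2 (g r e) with a | a <;> rcases z2 (g r' e) with b | b
  · exact ⟨e, (memD' e).2 ⟨he, a, b⟩, hde⟩
  · refine ⟨e + r, (memD' _).2 ⟨D.add_mem he hrD, ?_, ?_⟩, ?_⟩
    · rw [addr, a, alt, add_zero]
    · rw [addr, b, hrr']; decide
    · rw [addr, hde, hdr, add_zero]
  · refine ⟨e + r', (memD' _).2 ⟨D.add_mem he hrD', ?_, ?_⟩, ?_⟩
    · rw [addr, a, hrr]; decide
    · rw [addr, b, alt, add_zero]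
    · rw [addr, hde, hdr', add_zero]
  · refine ⟨e + r + r', (memD' _).2 ⟨D.add_mem (D.add_mem he hrD) hrD', ?_, ?_⟩, ?_⟩
    · rw [addr, addr, a, alt, hrr]; decide
    · rw [addr, addr, b, alt, hrr']; decide
    · rw [addr, addr, hde, hdr, hdr', add_zero, add_zero]

/-- `|L| = 4 ^ n |rad|` -/
theorem form_pow [Finite L] (add : ∀ u v w, g (u + v) w = g u w + g v w) (symm : ∀ v w, g v w = g w v)
    (alt : ∀ v, g v v = 0) (R : AddSubgroup L) (hR : ∀ c, c ∈ R ↔ ∀ e, g e c = 0) :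
    ∃ n, Nat.card L = 4 ^ n * Nat.card R := by
  have key : ∀ k, ∀ D : AddSubgroup L, Nat.card D = k → (∀ d ∈ D, d ∉ R → ∃ d' ∈ D, g d d' = 1) → R ≤ D →
      ∃ n, Nat.card D = 4 ^ n * Nat.card R := by
    intro k
    induction k using Nat.strong_induction_on with
    | _ k ih =>
      intro D hk hD hRD
      by_cases hne : D = R
      · exact ⟨0, by rw [hne, pow_zero, one_mul]⟩
      · obtain ⟨D', h1, h2, h3⟩ := form_step add symm alt R (fun c hc => (hR c).1 hc) D hD hRD hne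
        have h4 : 0 < Nat.card D' := Nat.card_pos
        obtain ⟨n, hn⟩ := ih (Nat.card D') (by omega) D' rfl h1 h2
        exact ⟨n + 1, by rw [h3, hn, pow_succ]; ring⟩
  obtain ⟨n, hn⟩ := key _ ⊤ rfl (by
    intro d _ hd
    rw [hR] at hd
    push Not at hd
    obtain ⟨e, he⟩ := hd
    exact ⟨e, trivial, by rw [symm]; exact (z2 _).resolve_left he⟩) le_top
  exact ⟨n, by rw [← hn]; simp⟩

end Cfsg.Agent.Omega.HOneTwo.FormPow

end

section


/-!
# II.0h1, `q = 2`, F4-type: `TS` gives `OpD`, and the end of (17)-(20) of #16429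

* `Inp D` : `OM D (O₂ M)`, `Bz D`, `[O₂ M, Γ] ≤ ⟨z⟩`;  `Inp.op : OpD G`;
* `Inp.two_three` : (18);
* `Inp.f4` : `|U| = 2⁷`, `|NO r| = 2⁶`, `O₂(M) = Γ`, `|O₂(M)| = 2¹⁵`.
-/

set_option autoImplicit false
set_option linter.unusedSectionVars false

namespace Cfsg.Agent.Omega.HOneTwo.OpInst

open Subgroup Cfsg.Agent.Omega.BTwo Cfsg.Agent.Omega.HTwo.Eight Cfsg.Agent.Omega.HOneTwo.OpSys

universe u

variable {G : Type u} [Group G]

namespace OpD

variable (D : OpD G) [Finite G]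

/-- `M` permutes the operators -/
theorem TT_conj {m u : G} (hm : m ∈ D.M) (hu : u ∈ D.U) (s : D.S) :
    D.act m (D.TT u s) = D.TT (m * u * m⁻¹) (D.act m s) := by
  have hz := D.res.conj_z hm
  have key : ∀ p ∈ D.Δ, D.act m (D.T₀ p s) = D.T₀ (m * p * m⁻¹) (D.act m s) := by
    intro p hp
    have htM := D.res.t_M hp
    have hN : m * D.t p * m⁻¹ ∈ Np D.z (m * p * m⁻¹) := by
      rw [← cj_Np (D.res.M_z hm)]
      exact conj_mem_cj (D.res.t_N hp)
    have h1 := D.act_mv (D.res.Δ_M m hm p hp) hN (D.res.conj_mv hm (D.res.t_mv hp)) (D.act m s)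
    have hM : m * D.t p * m⁻¹ ∈ D.M := D.M.mul_mem (D.M.mul_mem hm htM) (D.M.inv_mem hm)
    have e : m * D.t p * m⁻¹ * m = m * D.t p := by group
    rw [D.T₀_eq, D.T₀_eq, map_add, ← h1, ← D.act_mul hM hm, e, D.act_mul hm htM]
  have hzz : ∀ u, m * (u * D.z) * m⁻¹ = m * u * m⁻¹ * D.z := by
    intro u
    calc m * (u * D.z) * m⁻¹ = m * u * m⁻¹ * (m * D.z * m⁻¹) := by group
      _ = _ := by rw [hz]
  rcases D.cases hu with ⟨h1, h2, -⟩ | ⟨p, hp, h1, h2, -⟩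
  · rw [h2]
    rcases h1 with rfl | rfl
    · have e : m * 1 * m⁻¹ = 1 := by group
      rw [e, D.TT_one]
      show D.act m 0 = 0
      rw [map_zero]
    · rw [hz, D.TT_z]
      show D.act m 0 = 0
      rw [map_zero]
  · rw [h2, key p hp]
    have hp' := D.res.Δ_M m hm p hp
    rcases h1 with rfl | rfl
    · rw [D.TT_Δ hp']
    · rw [hzz, D.TT_pz hp']

end OpD

end Cfsg.Agent.Omega.HOneTwo.OpInst

namespace Cfsg.Agent.Omega.HOneTwo.Trans

open Subgroup Cfsg.Agent.Omega.BTwo Cfsg.Agent.Omega.HTwo.Eight Cfsg.Agent.Omega.HOneTwo.OpSys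
  Cfsg.Agent.Omega.HOneTwo.OpInst
open Cfsg.Agent.Omega.HOneTwo.OpInst.OpD (el ve el_mem)

universe u

variable {G : Type u} [Group G]

namespace TS

/-- the inputs -/
structure Inp (D : TS G) : Prop where
  hQ : ∀ p, D.Q p = Qp p
  F : OM D (O2 D.M)
  B : Bz D
  hOG : ∀ o ∈ O2 D.M, ∀ g ∈ D.Gam, o * g = g * o ∨ o * g = D.z * (g * o)

theorem Gam_eq (D : TS G) : OpInst.Gam D.z D.U D.Δ = D.Gam := by
  unfold OpInst.Gam Gam
  congr 1
  ext n
  constructor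
  · rintro ⟨p, hp, h1, h2⟩
    rw [Np_eq] at h1
    exact ⟨p, hp, D.mem_NO.2 ⟨h1, h2⟩⟩
  · rintro ⟨p, hp, h1⟩
    rw [D.mem_NO] at h1
    exact ⟨p, hp, by rw [Np_eq]; exact h1.1, h1.2⟩

variable {D : TS G}

theorem U_N {p u : G} (hp : p ∈ D.Δ) (hu : u ∈ D.U) (hn : u ∈ gen p D.z) :
    u = 1 ∨ u = p ∨ u = D.z ∨ u = p * D.z := by
  obtain ⟨m, hm, rfl⟩ := hp
  have hm' := D.M.inv_mem hm
  have h1 : m⁻¹ * u * m ∈ D.U := by
    have := gn_inv (r := D.r 0) hm' hu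
    rwa [inv_inv] at this
  have h2 : m⁻¹ * u * m ∈ gen (D.r 0) D.z := by
    have := gen_conj m⁻¹ hn
    rw [D.m_z' hm, inv_inv] at this
    have e : m⁻¹ * (m * D.r 0 * m⁻¹) * m = D.r 0 := by group
    rwa [e] at this
  have hz := D.m_z hm
  have e : u = m * (m⁻¹ * u * m) * m⁻¹ := by group
  rcases D.U_zt h1 (D.N_le_zt 0 h2) with h | h | h | h
  · left; rw [e, h]; group
  · right; right; left
    rw [e, h, hz]
  · right; left
    rw [e, h]
  · right; right; right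
    rw [e, h]
    calc m * (D.r 0 * D.z) * m⁻¹ = m * D.r 0 * m⁻¹ * (m * D.z * m⁻¹) := by group
      _ = _ := by rw [hz]

namespace Inp

variable (I : Inp D)

/-- **the instance** -/
noncomputable def op [Finite G] (I : Inp D) : OpD G where
  z := D.z
  M := D.M
  U := D.U
  Δ := D.Δ
  f := D.f
  t := D.tz
  r := D.r 0
  res := D.res I.hQ I.F.O_U I.F.U_O
  r_Δ := D.r0_Δ
  OG := by
    rw [D.Gam_eq]
    exact I.hOG
  NN := by
    intro p hp q hq h1 n hn hn'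
    rw [Np_eq] at hn hn'
    have h2 : D.φ p q = 1 := by rw [← D.f_Δ hp]; exact h1
    exact I.B.cen n fun s hs => D.BN_BB (D.N_inf hp hq h2 hn hn') s hs
  UN := by
    intro p hp u hu hn
    rw [Np_eq] at hn
    exact U_N hp hu hn
  C14 := by
    intro x hx h
    refine I.F.fourteen I.B hx fun p hp n hn => h p hp n ?_
    rw [Np_eq]
    exact hn

theorem NU_iff [Finite G] {p n : G} : I.op.NU p n ↔ n ∈ D.NO p := by
  rw [D.mem_NO]
  show n ∈ Np D.z p ∧ _ ↔ _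
  rw [Np_eq]
  exact Iff.rfl

end Inp

/-! ### the space `L = NO (r 0)` -/

/-- the group `NO (r 0)` -/
@[reducible] def NOCG (D : TS G) : CommGroup (D.NO (D.r 0)) :=
  { (inferInstance : Group (D.NO (D.r 0))) with
    mul_comm := fun a b => Subtype.ext (D.N_comm D.r0_Δ (D.mem_NO.1 a.2).1 (D.mem_NO.1 b.2).1) }

/-- `L` -/
def L (D : TS G) : Type u := Additive (D.NO (D.r 0))

noncomputable instance (D : TS G) : AddCommGroup D.L := @Additive.addCommGroup _ D.NOCG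

/-- the element -/
def le (x : D.L) : G := (Additive.toMul (α := D.NO (D.r 0)) x).1

/-- the vector -/
def lv {n : G} (hn : n ∈ D.NO (D.r 0)) : D.L := Additive.ofMul (⟨n, hn⟩ : D.NO (D.r 0))

theorem le_mem (x : D.L) : le x ∈ D.NO (D.r 0) := (Additive.toMul (α := D.NO (D.r 0)) x).2

theorem le_add (x y : D.L) : le (x + y) = le x * le y := rfl

theorem le_lv {n : G} (hn : n ∈ D.NO (D.r 0)) : le (lv hn : D.L) = n := rfl

theorem le_zero : le (0 : D.L) = 1 := rfl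

theorem le_inj {x y : D.L} (h : le x = le y) : x = y := Additive.toMul.injective (Subtype.ext h)

instance [Finite G] : Finite D.L := inferInstanceAs (Finite (Additive (D.NO (D.r 0))))

/-- the form -/
noncomputable def g (x y : D.L) : ZMod 2 := D.Hs.f (le x) (le y)

theorem le_U (x : D.L) : le x ∈ D.Hs.U := (D.mem_NO.1 (le_mem x)).1

theorem le_z (x : D.L) : D.Hs.φ D.z (le x) = 0 := (TB.mem_NO_r.1 (le_mem x)).2

section form

variable (hF : D.Hs.IsFull)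

theorem g_two (x : D.L) : x + x = 0 := le_inj (by rw [le_add, le_zero]; exact D.Hs.U_sq _ (le_U x))

theorem g_add (hF : D.Hs.IsFull) (x y w : D.L) : g (x + y) w = g x w + g y w :=
  hF.f_mul_left (le_U x) (le_U y) (le_U w)

theorem g_symm (hF : D.Hs.IsFull) (x y : D.L) : g x y = g y x := hF.f_symm (le_U x) (le_U y)

theorem g_alt (hF : D.Hs.IsFull) (x : D.L) : g x x = 0 := hF.f_self (le_U x)

theorem f_zn (n : G) : D.Hs.f D.z n = D.Hs.φ D.z n := Side.f_Δ D.zHs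

theorem f_nz (hF : D.Hs.IsFull) {n : G} (hn : n ∈ D.Hs.U) : D.Hs.f n D.z = D.Hs.φ D.z n := by
  rw [hF.f_symm hn (D.Hs.Δ_le D.zHs), f_zn]

/-- elements of `U` are in the radical -/
theorem g_U (hF : D.Hs.IsFull) {x : D.L} (hx : le x ∈ D.U) (y : D.L) : g x y = 0 := by
  have hx' := U_N D.r0_Δ hx (le_U x)
  show D.Hs.f (le x) (le y) = 0
  have hz : D.z ∈ D.Hs.U := D.Hs.Δ_le D.zHs
  have h1 : D.Hs.f D.z (le y) = 0 := by rw [f_zn]; exact le_z y
  have h2 : D.Hs.f (D.r 0) (le y) = 0 := hF.f_z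
  rcases hx' with h | h | h | h <;> rw [h]
  · exact hF.f_one
  · exact h2
  · exact h1
  · have h3 : D.Hs.f (D.r 0 * D.z) (le y) = D.Hs.f (D.r 0) (le y) + D.Hs.f D.z (le y) :=
      hF.f_mul_left D.Hs.z_mem hz (le_U y)
    rw [h3, h1, h2, add_zero]

/-- the radical of `g` is `U ∩ NO r` -/
theorem g_ker (hF : D.Hs.IsFull) {x : D.L} (hx : le x ∉ D.U) : ∃ y, g x y = 1 := by
  by_contra hcon
  push Not at hcon
  have h0 : ∀ y : D.L, g x y = 0 := fun y => (zmod_cases _).resolve_right (hcon y)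
  have hz : D.z ∈ D.Hs.U := D.Hs.Δ_le D.zHs
  obtain ⟨w, hw, hw1⟩ := D.Hs.exists_nbr D.zHs
  have hwU := D.Hs.Δ_le hw
  -- the claim for `x'` with `f x' w = 0`
  have key : ∀ x', x' ∈ D.Hs.U → (∀ y ∈ D.Hs.U, D.Hs.φ D.z y = 0 → D.Hs.f x' y = 0) → D.Hs.f x' w = 0 →
      x' = 1 ∨ x' = D.r 0 := by
    intro x' hx' h1 h2
    refine hF.rad hx' fun v hv => ?_
    have hvU := D.Hs.Δ_le hv
    rcases zmod_cases (D.Hs.φ D.z v) with h3 | h3
    · exact h1 v hvU h3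
    · have h4 := h1 (v * w) (Subgroup.mul_mem _ hvU hwU) (by
        rw [D.Hs.φ_mul D.zHs hvU hwU, h3, hw1]; decide)
      rwa [hF.f_mul_right hvU hwU hx', h2, add_zero] at h4
  have hx0 : ∀ y ∈ D.Hs.U, D.Hs.φ D.z y = 0 → D.Hs.f (le x) y = 0 := fun y hy h1 =>
    h0 (lv (TB.mem_NO_r.2 ⟨hy, h1⟩))
  rcases zmod_cases (D.Hs.f (le x) w) with h1 | h1
  · rcases key _ (le_U x) hx0 h1 with h2 | h2 <;> apply hx <;> rw [h2]
    · exact one_mem _
    · exact D.r_mem 0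
  · have h2 := key (le x * D.z) (Subgroup.mul_mem _ (le_U x) hz) (fun y hy h3 => by
      rw [hF.f_mul_left (le_U x) hz hy, hx0 y hy h3, f_zn, h3, add_zero])
      (by rw [hF.f_mul_left (le_U x) hz hwU, h1, f_zn, hw1]; decide)
    apply hx
    have e : le x = le x * D.z * D.z := by rw [mul_assoc, D.z_sq, mul_one]
    rw [e]
    rcases h2 with h2 | h2 <;> rw [h2]
    · exact Subgroup.mul_mem _ (one_mem _) D.z_mem
    · exact Subgroup.mul_mem _ (D.r_mem 0) D.z_mem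

end form

namespace Inp

variable [Finite G] (I : Inp D)

/-- `n ↦ n U` -/
noncomputable def iota : D.L →+ I.op.S where
  toFun x := I.op.cl (le x)
  map_zero' := I.op.cl_one
  map_add' x y := I.op.cl_mul (I.op.NU_Γ D.r0_Δ (I.NU_iff.2 (le_mem x))) (I.op.NU_Γ D.r0_Δ (I.NU_iff.2 (le_mem y)))

theorem NO_Γ {n : G} (hn : n ∈ D.NO (D.r 0)) : n ∈ I.op.Γ := I.op.NU_Γ D.r0_Δ (I.NU_iff.2 hn)

theorem iota_eq_zero {x : D.L} : I.iota x = 0 ↔ le x ∈ D.U := I.op.cl_eq_zero (I.NO_Γ (le_mem x))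

/-- the vector of `r` -/
noncomputable abbrev q : I.op.E := ve (I.op.res.Δ_U _ I.op.r_Δ)

theorem iota_range : I.iota.range = (I.op.T I.q).range := by
  ext s
  rw [I.op.mem_range I.op.r_Δ s]
  constructor
  · rintro ⟨x, rfl⟩
    exact ⟨le x, I.NU_iff.2 (le_mem x), rfl⟩
  · rintro ⟨n, hn, rfl⟩
    exact ⟨lv (I.NU_iff.1 hn), rfl⟩

include I in
theorem conj_NO {m n : G} (hm : m ∈ D.M) (hr : m * D.r 0 = D.r 0 * m) (hn : n ∈ D.NO (D.r 0)) :
    m * n * m⁻¹ ∈ D.NO (D.r 0) := by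
  have := D.NO_conj (D.mem_A.2 hm) hn
  rwa [conj_of_comm hr] at this

/-- `g` is invariant under `C_M(r)` -/
theorem g_conj {m : G} (hm : m ∈ D.M) (hr : m * D.r 0 = D.r 0 * m) {x y x' y' : D.L}
    (hx : I.iota x' = I.op.act m (I.iota x)) (hy : I.iota y' = I.op.act m (I.iota y)) : g x' y' = g x y := by
  have hF := I.B.full
  -- replace `x'` by `m x m⁻¹`
  have key : ∀ x x' : D.L, I.iota x' = I.op.act m (I.iota x) → ∀ w,
      g x' w = g (lv (I.conj_NO hm hr (le_mem x))) w := by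
    intro x x' hx w
    have h1 : I.iota (x' + lv (I.conj_NO hm hr (le_mem x))) = 0 := by
      have h2 : I.op.act m (I.iota x) = I.iota (lv (I.conj_NO hm hr (le_mem x))) :=
        I.op.act_cl hm (I.NO_Γ (le_mem x))
      rw [map_add, hx, h2, I.op.twoS]
    have h3 := g_U hF (I.iota_eq_zero.1 h1) w
    rw [g_add hF] at h3
    rcases zmod_cases (g x' w) with c | c <;>
      rcases zmod_cases (g (lv (I.conj_NO hm hr (le_mem x))) w) with d | d <;> rw [c, d] at h3 ⊢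
    · exact absurd h3 (by decide)
    · exact absurd h3 (by decide)
  rw [key x x' hx, g_symm hF, key y y' hy, g_symm hF]
  show D.Hs.f (m * le x * m⁻¹) (m * le y * m⁻¹) = D.Hs.f (le x) (le y)
  exact hF.f_conj (mem_centralizer_singleton_iff.2 hr) (le_U x) (le_U y)

include I in
theorem t_r {p : G} (hp : p ∈ D.Δ) (h : D.f (D.r 0) p = 0) : D.tz p * D.r 0 = D.r 0 * D.tz p := by
  refine I.op.res.t_0 p hp (D.r 0) (D.r_mem 0) ?_
  show D.f p (D.r 0) = 0
  rw [D.f_symm (D.Ms.Δ_le hp) (D.r_mem 0), h]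

/-- (iso) -/
theorem iso (s : I.op.E) (hs : I.op.F I.q s = 0) (x y x' y' : D.L) (hx : I.iota x' = I.op.T s (I.iota x))
    (hy : I.iota y' = I.op.T s (I.iota y)) : g (x + x') (y + y') = g x y := by
  have hF := I.B.full
  have hs' : D.f (D.r 0) (el s) = 0 := hs
  rcases I.op.cases (el_mem s) with ⟨-, h, -⟩ | ⟨p, hp, -, h2, h3⟩
  · have e : ∀ w, I.op.T s w = 0 := fun w => by
      show I.op.TT (el s) w = 0
      rw [h]; rfl
    rw [e] at hx hy
    have h1 := g_U hF (I.iota_eq_zero.1 hx)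
    have h2 := g_U hF (I.iota_eq_zero.1 hy)
    rw [g_add hF, h1, add_zero, g_symm hF, g_add hF, h2, add_zero, g_symm hF]
  · have hp' : D.f (D.r 0) p = 0 := by
      have h4 : D.f (el s) (D.r 0) = D.f p (D.r 0) := h3 _ (D.r_mem 0)
      rw [D.f_symm (D.r_mem 0) (D.Ms.Δ_le hp), ← h4, D.f_symm (el_mem s) (D.r_mem 0)]
      exact hs'
    have e : ∀ w, I.op.T s w = w + I.op.act (D.tz p) w := fun w => by
      show I.op.TT (el s) w = _
      rw [h2]; rfl
    rw [e] at hx hy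
    refine I.g_conj (I.op.res.t_M hp) (I.t_r hp hp') ?_ ?_
    · rw [map_add, hx, ← add_assoc, I.op.twoS, zero_add]; rfl
    · rw [map_add, hy, ← add_assoc, I.op.twoS, zero_add]; rfl

/-- `T s` and `C_M(r)` -/
theorem act_W {m : G} (hm : m ∈ D.M) (hr : m * D.r 0 = D.r 0 * m) {s : I.op.E} (hs : I.op.F I.q s = 0) :
    ∃ s', I.op.F I.q s' = 0 ∧ ∀ w ∈ (I.op.T I.q).range.map (I.op.T s),
      I.op.act m w ∈ (I.op.T I.q).range.map (I.op.T s') := by
  have hr' : m * D.r 0 * m⁻¹ = D.r 0 := conj_of_comm hr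
  have hsU := el_mem s
  have hm' : m * el s * m⁻¹ ∈ D.U := I.op.res.U_M m hm _ hsU
  refine ⟨ve hm', ?_, ?_⟩
  · have h1 : D.f (m * D.r 0 * m⁻¹) (m * el s * m⁻¹) = D.f (D.r 0) (el s) := I.op.res.f_M m hm _ (D.r_mem 0) _ hsU
    rw [hr'] at h1
    show D.f (D.r 0) (m * el s * m⁻¹) = 0
    rw [h1]; exact hs
  · rintro _ ⟨_, ⟨w, rfl⟩, rfl⟩
    have e1 : I.op.act m (I.op.T s (I.op.T I.q w)) = I.op.TT (m * el s * m⁻¹) (I.op.act m (I.op.T I.q w)) :=
      I.op.TT_conj hm hsU _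
    have e2 : I.op.act m (I.op.T I.q w) = I.op.TT (m * D.r 0 * m⁻¹) (I.op.act m w) :=
      I.op.TT_conj hm (D.r_mem 0) _
    rw [hr'] at e2
    show I.op.act m (I.op.T s (I.op.T I.q w)) ∈ _
    rw [e1, e2]
    exact ⟨_, ⟨_, rfl⟩, rfl⟩

/-- (tv) -/
theorem tv (u : D.L) (s : I.op.E) (hs : I.op.F I.q s = 0) : ∃ s', I.op.F I.q s' = 0 ∧
    ∀ x, I.iota x ∈ (I.op.T I.q).range.map (I.op.T s) →
      I.iota (tau g u x) ∈ (I.op.T I.q).range.map (I.op.T s') := by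
  have hF := I.B.full
  rcases hF.cases (le_U u) with h | ⟨y, hy, huy⟩
  · refine ⟨s, hs, fun x hx => ?_⟩
    have h1 : g u x = 0 := by
      show D.Hs.f (le u) (le x) = 0
      rcases h with h | h <;> rw [h]
      · exact hF.f_one
      · exact hF.f_z
    rw [tau_zero h1]; exact hx
  · -- the transvection of `y`
    have hyU := D.Hs.Δ_le hy
    have h0 : D.Hs.φ D.z y = 0 := by
      have h1 := le_z u
      rcases huy with h | h <;> rw [h] at h1
      · exact h1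
      · have h2 : D.Hs.φ D.z (y * D.Hs.z) = D.Hs.φ D.z y := hF.φ_mul_z D.zHs hyU
        rwa [h2] at h1
    have h0' : D.Hs.φ y D.z = 0 := (D.Hs.symm hy D.zHs).trans h0
    have hN := D.Hs.t_mem hy
    have hmr : D.Hs.t y * D.r 0 = D.r 0 * D.Hs.t y := mem_centralizer_singleton_iff.1 (D.Hs.t_A hy)
    have hmz : D.Hs.t y * D.z = D.z * D.Hs.t y := by
      have h1 := D.Hs.t_act hy (D.Hs.Δ_le D.zHs)
      rw [h0', pw_zero, mul_one] at h1
      exact comm_of_conj h1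
    have hm : D.Hs.t y ∈ D.M := D.M_r _ hmr hmz
    obtain ⟨s', hs', hW⟩ := I.act_W hm hmr hs
    refine ⟨s', hs', fun x hx => ?_⟩
    have e : I.iota (tau g u x) = I.op.act (D.Hs.t y) (I.iota x) := by
      have h1 : I.op.act (D.Hs.t y) (I.iota x) = I.op.cl (D.Hs.t y * le x * (D.Hs.t y)⁻¹) :=
        I.op.act_cl hm (I.NO_Γ (le_mem x))
      have h2 := D.Hs.t_act hy (le_U x)
      have h3 : g u x = D.Hs.φ y (le x) := by
        show D.Hs.f (le u) (le x) = _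
        rcases huy with h | h <;> rw [h]
        · exact Side.f_Δ hy
        · exact hF.f_pz hy
      rw [h1, h2, ← h3]
      rcases zmod_cases (g u x) with h4 | h4
      · rw [tau_zero h4, h4, pw_zero, mul_one]; rfl
      · rw [tau_one h4, h4, pw_one]
        have hrG : D.r 0 ∈ I.op.Γ := I.op.U_Γ (D.r_mem 0)
        have h5 : I.op.cl (le u) = I.op.cl (y * D.r 0) := by
          rcases huy with h | h
          · rw [h, I.op.cl_mul (by rw [← h]; exact I.NO_Γ (le_mem u)) hrG, (I.op.cl_eq_zero hrG).2 (D.r_mem 0),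
              add_zero]
          · rw [h]; rfl
        have hyG : y * D.r 0 ∈ I.op.Γ := by
          rcases huy with h | h
          · have h6 := I.NO_Γ (le_mem u)
            rw [h] at h6
            exact Subgroup.mul_mem _ h6 hrG
          · have h6 := I.NO_Γ (le_mem u)
            rw [h] at h6
            exact h6
        show I.op.cl (le x * le u) = I.op.cl (le x * (y * D.r 0))
        rw [I.op.cl_mul (I.NO_Γ (le_mem x)) (I.NO_Γ (le_mem u)), I.op.cl_mul (I.NO_Γ (le_mem x)) hyG, h5]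
    rw [e]
    exact hW _ hx

theorem q_perp : ∃ s s', I.op.F I.q s = 0 ∧ I.op.F I.q s' = 0 ∧ I.op.F s s' = 1 := by
  have h0 := D.r_mem 0
  have h1 := D.r_mem 1
  have f01 : D.f (D.r 0) (D.r 1) = 0 := by
    rw [D.f_Δ D.r0_Δ, D.φ_eq_zero_iff]; exact D.r_Q 1 0
  have key : ∃ v ∈ D.U, D.f (D.r 0) v = 0 ∧ D.f (D.r 1) v = 1 := by
    by_contra hcon
    push Not at hcon
    have hc : ∀ v ∈ D.U, D.f (D.r 0) v = 0 → D.f (D.r 1) v = 0 := fun v hv hv0 =>
      (zmod_cases _).resolve_right (hcon v hv hv0)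
    obtain ⟨w, hw, hw1⟩ := D.Ms.φ_ne D.r0_Δ
    have hw1' : D.f (D.r 0) w = 1 := by rw [D.f_Δ D.r0_Δ]; exact hw1
    have hr1 : D.r 1 ≠ 1 ∧ D.r 1 ≠ D.z := ⟨D.Ms.one_notin (D.r_Δ 1), D.Ms.z_notin (D.r_Δ 1)⟩
    have hr2 : D.r 2 ≠ 1 ∧ D.r 2 ≠ D.z := ⟨D.Ms.one_notin (D.r_Δ 2), D.Ms.z_notin (D.r_Δ 2)⟩
    rcases zmod_cases (D.f (D.r 1) w) with h2 | h2
    · have h3 := D.f_rad h1 (fun v hv => by
        rcases zmod_cases (D.f (D.r 0) v) with h4 | h4
        · exact hc v hv h4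
        · have h5 := hc (v * w) (Subgroup.mul_mem _ hv hw) (by
            rw [D.f_mul_right h0 hv hw, h4, hw1']; decide)
          rwa [D.f_mul_right h1 hv hw, h2, add_zero] at h5)
      rcases h3 with h3 | h3
      · exact hr1.1 h3
      · exact hr1.2 h3
    · have h3 := D.f_rad (Subgroup.mul_mem _ h0 h1) (fun v hv => by
        rw [D.f_mul_left h0 h1 hv]
        rcases zmod_cases (D.f (D.r 0) v) with h4 | h4
        · rw [h4, hc v hv h4, add_zero]
        · have h5 := hc (v * w) (Subgroup.mul_mem _ hv hw) (by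
            rw [D.f_mul_right h0 hv hw, h4, hw1']; decide)
          rw [D.f_mul_right h1 hv hw, h2] at h5
          rcases zmod_cases (D.f (D.r 1) v) with h6 | h6 <;> rw [h6] at h5 ⊢
          · exact absurd h5 (by decide)
          · rw [h4]; decide)
      have h4 : D.r 0 * D.r 1 = D.r 2 := by
        have h5 := D.r_prod
        rw [mul_eq_one_iff_eq_inv, D.Ms.U_inv (D.r_mem 2)] at h5
        exact h5
      rw [h4] at h3
      rcases h3 with h3 | h3
      · exact hr2.1 h3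
      · exact hr2.2 h3
  obtain ⟨v, hv, hv0, hv1⟩ := key
  exact ⟨ve h1, ve hv, f01, hv0, hv1⟩

theorem exists_q : ∃ p : I.op.E, I.op.F p I.q = 1 := by
  obtain ⟨w, hw, hw1⟩ := D.Ms.φ_ne D.r0_Δ
  refine ⟨ve hw, ?_⟩
  show D.f w (D.r 0) = 1
  rw [D.f_symm hw (D.r_mem 0), D.f_Δ D.r0_Δ]; exact hw1

include I in
/-- `|U| = 2 · 4 ^ m` -/
theorem card_U : ∃ m, Nat.card D.U = 4 ^ m * 2 := by
  obtain ⟨m, hm⟩ := FormPow.form_pow (L := I.op.E) (g := I.op.F) I.op.ops.add I.op.ops.symm I.op.ops.alt I.op.R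
    (fun c => I.op.mem_R)
  rw [I.op.card_R] at hm
  exact ⟨m, hm⟩

theorem ker_iota (c : D.L) : c ∈ I.iota.ker ↔ ∀ e, g e c = 0 := by
  have hF := I.B.full
  rw [AddMonoidHom.mem_ker, I.iota_eq_zero]
  constructor
  · intro h e
    rw [g_symm hF]; exact g_U hF h e
  · intro h
    by_contra hcon
    obtain ⟨y, hy⟩ := g_ker hF hcon
    rw [g_symm hF, h y] at hy
    exact zero_ne_one hy

theorem card_ker : Nat.card I.iota.ker = 4 := by
  have hzN : D.z ∈ D.NO (D.r 0) := D.mem_NO.2 ⟨self_mem_gen _ _, fun u hu => (D.U_z hu).symm⟩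
  have hrN : D.r 0 ∈ D.NO (D.r 0) := D.mem_NO.2 ⟨D.r_mem_N, fun u hu => (D.U_r hu).symm⟩
  have e : (I.iota.ker : Set D.L) = {0, lv hzN, lv hrN, lv hrN + lv hzN} := by
    ext x
    show I.iota x = 0 ↔ _
    rw [I.iota_eq_zero]
    constructor
    · intro h
      rcases U_N D.r0_Δ h (le_U x) with h | h | h | h
      · left; exact le_inj h
      · right; right; left; exact le_inj h
      · right; left; exact le_inj h
      · right; right; right; exact le_inj h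
    · rintro (h | h | h | h)
      · rw [h]; exact one_mem _
      · rw [h]; exact D.z_mem
      · rw [h]; exact D.r_mem 0
      · rw [Set.mem_singleton_iff] at h
        rw [h]; exact Subgroup.mul_mem _ (D.r_mem 0) D.z_mem
  have h1 : Nat.card I.iota.ker = (I.iota.ker : Set D.L).ncard := rfl
  have hz1 := D.z_ne
  have hr1 : D.r 0 ≠ 1 := D.Ms.one_notin D.r0_Δ
  have hrz : D.r 0 ≠ D.z := D.Ms.z_notin D.r0_Δ
  have n1 : (0 : D.L) ≠ lv hzN := fun h => hz1 (congrArg le h).symm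
  have n2 : (0 : D.L) ≠ lv hrN := fun h => hr1 (congrArg le h).symm
  have n3 : (0 : D.L) ≠ lv hrN + lv hzN := fun h => by
    have h2 : (1 : G) = D.r 0 * D.z := congrArg le h
    apply hrz
    have h3 : D.r 0 = D.z⁻¹ := eq_inv_of_mul_eq_one_left h2.symm
    rw [h3, inv_eq_of_mul_eq_one_left D.z_sq]
  have n4 : (lv hzN : D.L) ≠ lv hrN := fun h => hrz (congrArg le h).symm
  have n5 : (lv hzN : D.L) ≠ lv hrN + lv hzN := fun h => by
    have h2 : D.z = D.r 0 * D.z := congrArg le h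
    exact hr1 (right_eq_mul.1 h2)
  have n6 : (lv hrN : D.L) ≠ lv hrN + lv hzN := fun h => by
    have h2 : D.r 0 = D.r 0 * D.z := congrArg le h
    exact hz1 (left_eq_mul.1 h2)
  rw [h1, e, Set.ncard_insert_of_notMem, Set.ncard_insert_of_notMem, Set.ncard_pair n6]
  · rintro (h | h)
    · exact n4 h
    · exact n5 h
  · rintro (h | h | h)
    · exact n1 h
    · exact n2 h
    · exact n3 h

/-- `|NO r| = 4 |Σ_r|`, `|Σ_r| = 4 ^ n` -/
theorem card_range : ∃ n, Nat.card (I.op.T I.q).range = 4 ^ n ∧ Nat.card (D.NO (D.r 0)) = 4 ^ n * 4 := by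
  have hF := I.B.full
  obtain ⟨n, hn⟩ := FormPow.form_pow (L := D.L) (g := g) (g_add hF) (g_symm hF) (g_alt hF) I.iota.ker I.ker_iota
  have h1 : Nat.card D.L = Nat.card I.iota.range * Nat.card I.iota.ker := by
    rw [AddSubgroup.card_eq_card_quotient_mul_card_addSubgroup I.iota.ker]
    congr 1
    exact Nat.card_congr (QuotientAddGroup.quotientKerEquivRange I.iota).toEquiv
  rw [I.card_ker] at hn h1
  refine ⟨n, ?_, hn⟩
  rw [← I.iota_range]
  rw [hn] at h1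
  exact (Nat.eq_of_mul_eq_mul_right (by norm_num) h1).symm

/-- **(18)** -/
theorem two_three (hk : ∃ x ∈ D.NO (D.r 0), x ∉ D.U) :
    (Nat.card D.U = 2 * 4 ^ 2 ∧ Nat.card (I.op.T I.q).range = 4) ∨
    (Nat.card D.U = 2 * 4 ^ 3 ∧ Nat.card (I.op.T I.q).range = 4 ^ 2 ∧ Nat.card (D.NO (D.r 0)) = 2 ^ 6) := by
  have hF := I.B.full
  obtain ⟨m, hm⟩ := I.card_U
  obtain ⟨n, hn, hn'⟩ := I.card_range
  obtain ⟨p, hp⟩ := I.exists_q
  have hn1 : 1 ≤ n := by
    by_contra hcon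
    have h0 : n = 0 := by omega
    rw [h0, pow_zero] at hn
    obtain ⟨x, hx, hxU⟩ := hk
    apply hxU
    have h1 : I.iota (lv hx) = 0 := by
      have h2 : I.iota (lv hx) ∈ (I.op.T I.q).range := by rw [← I.iota_range]; exact ⟨_, rfl⟩
      have h3 : Subsingleton (I.op.T I.q).range := (Nat.card_eq_one_iff_unique.1 hn).1
      have h4 := congrArg Subtype.val (Subsingleton.elim (⟨_, h2⟩ : (I.op.T I.q).range) ⟨0, AddSubgroup.zero_mem _⟩)
      exact h4
    exact I.iota_eq_zero.1 h1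
  rcases I.op.ops.final hp I.op.R (fun c => I.op.mem_R) (m := m) (n := n)
    (by rw [I.op.card_R]; exact hm) hn hn1 I.iota I.iota_range g g_two (g_add hF) (g_symm hF) (g_alt hF)
    (fun x hx => g_ker hF (fun h => hx (I.iota_eq_zero.2 h)))
    (fun x hx => g_U hF (I.iota_eq_zero.1 hx)) I.iso I.tv I.q_perp with ⟨rfl, rfl⟩ | ⟨rfl, rfl⟩
  · left
    exact ⟨by rw [hm, mul_comm], by rw [hn]; norm_num⟩
  · right
    exact ⟨by rw [hm, mul_comm], hn, by rw [hn']; norm_num⟩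

include I in
/-- **the end of (18)-(20)** -/
theorem f4 (hk : ∃ x ∈ D.NO (D.r 0), x ∉ D.U) (hnab : ∃ g ∈ D.Gam, ∃ h ∈ D.Gam, g * h ≠ h * g) :
    Nat.card D.U = 2 ^ 7 ∧ Nat.card (D.NO (D.r 0)) = 2 ^ 6 ∧ O2 D.M = D.Gam ∧ Nat.card (O2 D.M) = 2 ^ 15 := by
  have hG : I.op.Γ = D.Gam := D.Gam_eq
  rcases I.two_three hk with ⟨h1, h2⟩ | ⟨h1, h2, h3⟩
  · exfalso
    obtain ⟨a, ha, b, hb, hne⟩ := hnab
    rw [← hG] at ha hb
    exact hne (I.op.dead h1 h2 a ha b hb)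
  · refine ⟨by rw [h1]; norm_num, h3, ?_, ?_⟩
    · rw [← hG]
      exact I.op.O_eq (n := 0) h1
    · have h4 := I.op.card_O (n := 0) h1
      have h5 : Nat.card (O2 D.M) = Nat.card (I.op.T I.q).range ^ 2 * Nat.card D.U := h4
      rw [h5, h1, h2]; norm_num

end Inp

end TS

end Cfsg.Agent.Omega.HOneTwo.Trans

end
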