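import Cfsg.Agent.Mrg.Omega.HOneTwo.TwoPerp
import Cfsg.Agent.Mrg.Omega.HOneTwo.TransMain
import Cfsg.Agent.Mrg.Omega.HOneTwo.OpInst
import Cfsg.Agent.Mrg.Omega.HTwo.EightTwo

section


/-!
# II.0h1, `q = 2`: `OM` from `O₂(M)`; (14)-(16) of #16429 in the language of `Eight.Res` (helper467)

* `OM.of_O2` : `O = O₂(M)`, `Q p = O₂(C(p))`;
* `Bz.of_TB` : `Bz D` from helper205's `TS.TB`;
* `OM.opD` : helper338's `OpInst.OpD` (the instance of `OpSys`) for `k ≥ 2`.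
-/

set_option autoImplicit false
set_option maxHeartbeats 400000
set_option linter.unusedSectionVars false

namespace Cfsg.Agent.Omega.HOneTwo.Trans

open Subgroup Cfsg.Agent Cfsg.Agent.Omega.BTwo Cfsg.Agent.Omega.HTwo.Eight

universe u

variable {G : Type u} [Group G]

/-- `OM` for `O = O₂(M)` -/
theorem OM.of_O2 [Finite G] {D : TS G} (hQ : ∀ p, D.Q p = Qp p) (hUO : ∀ o ∈ O2 D.M, ∀ u ∈ D.U, o * u = u * o)
    (hUle : D.U ≤ O2 D.M) : OM D (O2 D.M) where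
  two := O2_isPGroup _
  O_M := O2_le _
  O_conj := fun m hm x hx => conj_mem_of_normalizer (le_normalizer_O2 _ hm) hx
  O_U := hUO
  U_O := hUle
  O_Q := by
    intro x hx h
    have A := D.res hQ hUO hUle
    rw [hQ]
    apply A.O_inf_K D.r0_Δ hx
    rw [mem_centralizer_iff]
    intro n hn
    have hn' : n ∈ Np D.z (D.r 0) := hn
    rw [TS.Np_eq] at hn'
    exact (h n hn').symm
  Q_O := by
    intro x hx h
    -- `Q₁ ∩ C_M(U)` is a normal 2-subgroup of `C_M(U)`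
    have A := D.res hQ hUO hUle
    rw [hQ] at hx
    have h1 : Qp (D.r 0) ⊓ (D.M ⊓ centralizer (D.U : Set G)) ≤ O2 D.M := by
      refine le_O2_of_chain (B := D.M ⊓ centralizer (D.U : Set G)) (C := D.M) inf_le_right inf_le_left le_rfl
        ((O2_isPGroup _).to_le inf_le_left) ?_ ?_ ?_
      · rintro k ⟨hk1, hk2⟩ b ⟨hb1, hb2⟩
        refine ⟨?_, Subgroup.mul_mem _ (Subgroup.mul_mem _ ⟨hk1, hk2⟩ hb2) (Subgroup.inv_mem _ ⟨hk1, hk2⟩)⟩
        apply Q_normal _ hb1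
        rw [mem_Cp]
        exact ((mem_centralizer_iff.1 hk2) _ (D.r_mem 0)).symm
      · rintro m hm b ⟨hb1, hb2⟩
        refine ⟨D.M.mul_mem (D.M.mul_mem hm hb1) (D.M.inv_mem hm), ?_⟩
        have hb3 : b ∈ centralizer (D.U : Set G) := hb2
        show m * b * m⁻¹ ∈ centralizer (D.U : Set G)
        rw [mem_centralizer_iff] at hb3 ⊢
        intro u hu
        have h2 := hb3 _ (gn_inv' hm hu)
        calc u * (m * b * m⁻¹) = m * ((m⁻¹ * u * m) * b) * m⁻¹ := by group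
          _ = m * b * m⁻¹ * u := by rw [h2]; group
      · intro g hg c hc
        exact D.M.mul_mem (D.M.mul_mem hg hc) (D.M.inv_mem hg)
    have hr := D.Q_M (x := x) (by rw [hQ]; exact hx)
    exact h1 ⟨hx, hr, mem_centralizer_iff.2 fun u hu => (h u hu).symm⟩

/-- `Bz` from the Sylow data -/
theorem Bz.of_TB [Finite G] {D : TS G} {S : Subgroup G} (T : D.TB S) : Bz D where
  cen := fun _ hx => T.BB_eq hx
  full :=
    { full := by
        intro u hu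
        by_cases h1 : u = 1
        · exact Or.inl h1
        by_cases h2 : u = D.r 0
        · exact Or.inr (Or.inl h2)
        · exact Or.inr (Or.inr (T.ZZ_or hu h1 h2))
      inj := fun p hp => T.ZZ_not_both hp }

theorem Bz.trans [Finite G] {D : TS G} {S : Subgroup G} (T : D.TB S) :
    ∀ y ∈ D.Hs.Δ, ∀ y' ∈ D.Hs.Δ, D.Hs.φ D.z y = 1 → D.Hs.φ D.z y' = 1 → ∃ g ∈ D.Gam, g * y * g⁻¹ = y' :=
  fun _ hy _ hy' h1 h2 => T.Gam_trans hy hy' h1 h2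

/-- helper338's `Γ` is `Γ` -/
theorem Gam_eq (D : TS G) : OpInst.Gam D.z D.U D.Δ = D.Gam := by
  unfold OpInst.Gam TS.Gam
  congr 1
  ext x
  constructor
  · rintro ⟨p, hp, h1, h2⟩
    rw [TS.Np_eq] at h1
    exact ⟨p, hp, D.mem_NO.2 ⟨h1, h2⟩⟩
  · rintro ⟨p, hp, h1⟩
    have h2 := D.mem_NO.1 h1
    refine ⟨p, hp, ?_, h2.2⟩
    rw [TS.Np_eq]
    exact h2.1

/-- **the instance of helper338's `OpD`** -/
noncomputable def OM.opD [Finite G] {D : TS G} (hQ : ∀ p, D.Q p = Qp p)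
    (hUO : ∀ o ∈ O2 D.M, ∀ u ∈ D.U, o * u = u * o) (hUle : D.U ≤ O2 D.M) (B : Bz D) (hk : ¬ KOne D) :
    OpInst.OpD G where
  z := D.z
  M := D.M
  U := D.U
  Δ := D.Δ
  f := D.f
  t := D.tz
  r := D.r 0
  res := D.res hQ hUO hUle
  r_Δ := D.r0_Δ
  OG := by
    intro o ho g hg
    rw [Gam_eq] at hg
    have F := OM.of_O2 hQ hUO hUle
    rcases F.O_Gam B hk ho hg with h | h
    · exact Or.inl (comm_of_conj h)
    · right
      have h1 : D.z * g = g * D.z := (F.O_z (F.Gam_O hg)).symm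
      have h2 : D.z * o = o * D.z := (F.O_z ho).symm
      calc o * g = (o * g * o⁻¹) * o := by group
        _ = D.z * (g * o) := by rw [h, ← h1, mul_assoc]
  NN := by
    intro p hp q hq h1 n hn hn'
    rw [TS.Np_eq] at hn hn'
    rw [D.f_Δ hp] at h1
    exact B.BN_eq (D.N_inf hp hq h1 hn hn')
  UN := by
    rintro p ⟨m, hm, rfl⟩ u hu hn
    rw [TS.Np_eq] at hn
    have hm' := D.M.inv_mem hm
    have h1 := gen_conj m⁻¹ hn
    rw [show m⁻¹ * (m * D.r 0 * m⁻¹) * m⁻¹⁻¹ = D.r 0 by group, D.m_z' hm] at h1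
    have h2 := D.U_zt (gn_inv hm' hu) (D.N_le_zt 0 h1)
    have e : u = m * (m⁻¹ * u * m⁻¹⁻¹) * m⁻¹ := by group
    have hz := D.m_z hm
    rcases h2 with h | h | h | h
    · left; rw [e, h]; group
    · right; right; left; rw [e, h, hz]
    · right; left; rw [e, h]
    · right; right; right
      rw [e, h]
      calc m * (D.r 0 * D.z) * m⁻¹ = m * D.r 0 * m⁻¹ * (m * D.z * m⁻¹) := by group
        _ = _ := by rw [hz]
  C14 := by
    intro x hx h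
    have F := OM.of_O2 hQ hUO hUle
    apply F.fourteen B hx
    intro p hp n hn
    apply h p hp
    rw [TS.Np_eq]
    exact hn

/-! ### `k = 1` means `|N₁| = 8` -/

theorem Bz.NO_four {D : TS G} (hk : KOne D) {n : G} (hn : n ∈ D.NO (D.r 0)) :
    n = 1 ∨ n = D.z ∨ n = D.r 0 ∨ n = D.r 0 * D.z := D.U_zt (hk n hn) (D.N_le_zt 0 hn.1)

theorem Bz.three0 {D : TS G} (B : Bz D) (hk : KOne D) {t y : G} (ht : t ∈ D.Hs.Δ) (ht1 : D.Hs.φ D.z t = 1)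
    (hy : y ∈ D.Hs.Δ) : y = D.z ∨ y = t ∨ y = D.r 0 * D.z * t := by
  have hF := B.full
  have zΔ := D.zHΔ
  have htU := D.Hs.Δ_le ht
  have hyU := D.Hs.Δ_le hy
  have rU : D.r 0 ∈ D.Hs.U := D.Hs.z_mem
  have rz : D.r 0 * D.z ∉ D.Hs.Δ := by
    rw [← D.z_r]
    exact hF.inj D.z zΔ
  rcases zmod_cases (D.Hs.φ D.z y) with h | h
  · left
    rcases Bz.NO_four hk (D.NO_iff.2 ⟨hyU, h⟩) with h1 | h1 | h1 | h1
    · exact absurd h1 (D.Hs.one_notin hy)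
    · exact h1
    · exact absurd h1 (D.Hs.z_notin hy)
    · rw [h1] at hy; exact absurd hy rz
  · right
    have h2 : y * t ∈ D.NO (D.r 0) := D.NO_iff.2 ⟨D.Hs.U.mul_mem hyU htU, by
      rw [D.Hs.φ_mul zΔ hyU htU, h, ht1]; decide⟩
    have htt := D.Hs.U_sq t htU
    have e : y = y * t * t := by rw [mul_assoc, htt, mul_one]
    have h3 := D.Hs.mz1 zΔ ht ht1
    rcases Bz.NO_four hk h2 with h1 | h1 | h1 | h1
    · left; rw [e, h1, one_mul]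
    · exfalso
      rw [h1] at e
      rw [← e] at h3
      exact hF.inj y hy h3
    · exfalso
      rw [h1, D.Hs.U_comm rU htU] at e
      rw [e] at hy
      exact hF.inj t ht hy
    · right; rw [e, h1]

/-- `z^{C(p)} = {z, t_p, p z t_p}` -/
theorem Bz.three {D : TS G} (B : Bz D) (hk : KOne D) : Three D.z D.Δ D.tz := by
  rintro p hp h hh
  have hp' := hp
  obtain ⟨m, hm, rfl⟩ := hp
  have hm' := D.M.inv_mem hm
  have hmz := D.m_z hm
  have hmz' := D.m_z' hm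
  have back : ∀ k, k ∈ Cp (m * D.r 0 * m⁻¹) → m⁻¹ * (k * D.z * k⁻¹) * m⁻¹⁻¹ ∈ D.Hs.Δ := by
    intro k hk
    rw [mem_Cp] at hk
    refine ⟨m⁻¹ * k * m, ?_, ?_⟩
    · calc m⁻¹ * k * m * D.r 0 = m⁻¹ * (k * (m * D.r 0 * m⁻¹)) * m := by group
        _ = D.r 0 * (m⁻¹ * k * m) := by rw [hk]; group
    · calc m⁻¹ * (k * D.z * k⁻¹) * m⁻¹⁻¹ = m⁻¹ * k * m * (m⁻¹ * D.z * m⁻¹⁻¹) * (m⁻¹ * k * m)⁻¹ := by group
        _ = _ := by rw [hmz']
  obtain ⟨⟨k, hk1, hk2⟩, hact⟩ := D.tz_spec hp'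
  have ht : m⁻¹ * D.tz (m * D.r 0 * m⁻¹) * m⁻¹⁻¹ ∈ D.Hs.Δ := by
    rw [hk2]
    exact back k (mem_Cp.2 hk1)
  have htNC : D.Ms.NC (D.tz (m * D.r 0 * m⁻¹)) := by
    intro hall
    obtain ⟨v, hv, hv1⟩ := D.Ms.φ_ne hp'
    have h2 := hact v hv
    have h3 := hall v hv
    rw [h3, show D.φ (m * D.r 0 * m⁻¹) v = 1 from hv1, pw_one, left_eq_mul] at h2
    exact D.Ms.pz_ne hp' h2
  have ht1 : D.Hs.φ D.z (m⁻¹ * D.tz (m * D.r 0 * m⁻¹) * m⁻¹⁻¹) = 1 := by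
    rw [← D.NC_iff]
    exact Side.NC_conj (S := D.Ms) hm' htNC
  have e : h * D.z * h⁻¹ = m * (m⁻¹ * (h * D.z * h⁻¹) * m⁻¹⁻¹) * m⁻¹ := by group
  rcases B.three0 hk ht ht1 (back h hh) with h1 | h1 | h1
  · left
    rw [e, h1, hmz]
  · right; left
    rw [e, h1]; group
  · right; right
    rw [e, h1]
    calc m * (D.r 0 * D.z * (m⁻¹ * D.tz (m * D.r 0 * m⁻¹) * m⁻¹⁻¹)) * m⁻¹
        = m * D.r 0 * m⁻¹ * (m * D.z * m⁻¹) * D.tz (m * D.r 0 * m⁻¹) := by group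
      _ = _ := by rw [hmz]

/-- `|N₁| = 8` -/
theorem Bz.card_eight [Finite G] {D : TS G} (hk : KOne D) : Nat.card (gen (D.r 0) D.z) = 8 := by
  have zΔ := D.zHΔ
  have h1 : D.NO (D.r 0) ≤ gen (D.r 0) D.z := fun _ h => h.1
  have h2 : ((D.NO (D.r 0)).subgroupOf (gen (D.r 0) D.z)).index = 2 := by
    rw [Subgroup.index_eq_two_iff]
    obtain ⟨y, hy, hy1⟩ := D.Hs.exists_nbr zΔ
    have hyU := D.Hs.Δ_le hy
    refine ⟨⟨y, hyU⟩, fun b => ?_⟩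
    rw [mem_subgroupOf, mem_subgroupOf]
    have hb : (b : G) ∈ D.Hs.U := b.2
    rcases zmod_cases (D.Hs.φ D.z b) with h | h
    · right
      refine ⟨D.NO_iff.2 ⟨hb, h⟩, fun h3 => ?_⟩
      have h4 := (D.NO_iff.1 h3).2
      have h5 := D.Hs.φ_mul zΔ hb hyU
      rw [h, hy1] at h5
      have h6 : D.Hs.φ D.z ((b : G) * y) = 0 := h4
      rw [h5] at h6
      exact absurd h6 (by decide)
    · left
      refine ⟨D.NO_iff.2 ⟨D.Hs.U.mul_mem hb hyU, ?_⟩, fun h3 => ?_⟩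
      · show D.Hs.φ D.z ((b : G) * y) = 0
        rw [D.Hs.φ_mul zΔ hb hyU, h, hy1]; decide
      · have h4 := (D.NO_iff.1 h3).2
        rw [h] at h4
        exact one_ne_zero h4
  have r1 : D.r 0 ≠ 1 := D.Ms.one_notin D.r0_Δ
  have rz : D.r 0 ≠ D.z := D.Ms.z_notin D.r0_Δ
  have h3 : Nat.card (D.NO (D.r 0)) = 4 := by
    have e : ((D.NO (D.r 0) : Subgroup G) : Set G) = {1, D.z, D.r 0, D.r 0 * D.z} := by
      ext n
      constructor
      · intro hn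
        exact Bz.NO_four hk hn
      · intro hn
        have hz : D.z ∈ D.NO (D.r 0) := D.NO_iff.2 ⟨D.zN, D.Hs.φ_self zΔ⟩
        have hr : D.r 0 ∈ D.NO (D.r 0) := D.NO_iff.2 ⟨D.Hs.z_mem, D.Hs.φ_z zΔ⟩
        rcases hn with hn | hn | hn | hn
        · rw [hn]; exact Subgroup.one_mem _
        · rw [hn]; exact hz
        · rw [hn]; exact hr
        · rw [hn]; exact Subgroup.mul_mem _ hr hz
    have h4 : Nat.card (D.NO (D.r 0)) = Set.ncard ((D.NO (D.r 0) : Subgroup G) : Set G) := rfl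
    rw [h4, e]
    have n1 : (1 : G) ≠ D.z := fun h => D.z_ne h.symm
    have n2 : (1 : G) ≠ D.r 0 := fun h => r1 h.symm
    have n3 : (1 : G) ≠ D.r 0 * D.z := fun h => D.Ms.pz_ne D.r0_Δ h.symm
    have n4 : D.z ≠ D.r 0 := fun h => rz h.symm
    have n5 : D.z ≠ D.r 0 * D.z := fun h => r1 (right_eq_mul.1 h)
    have n6 : D.r 0 ≠ D.r 0 * D.z := fun h => D.z_ne (left_eq_mul.1 h)
    rw [Set.ncard_insert_of_notMem, Set.ncard_insert_of_notMem, Set.ncard_pair n6]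
    · rintro (h | h)
      · exact n4 h
      · exact n5 h
    · rintro (h | h | h)
      · exact n1 h
      · exact n2 h
      · exact n3 h
  have h5 := Subgroup.card_mul_index ((D.NO (D.r 0)).subgroupOf (gen (D.r 0) D.z))
  rw [h2, Nat.card_congr (Subgroup.subgroupOfEquivOfLe h1).toEquiv, h3] at h5
  exact h5.symm

end Cfsg.Agent.Omega.HOneTwo.Trans

end

section


/-!
# II.0h1, `q = 2`, F4-type: the end of (16)-(20) of #16429

`TS.f4` : `¬ KOne D` ⇒ `|U| = |N₁| = 2⁷`, `|NO r| = 2⁶`, `O₂(M) = Γ` of order `2¹⁵`.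
-/

set_option autoImplicit false
set_option linter.unusedSectionVars false

namespace Cfsg.Agent.Omega.HOneTwo.Trans

open Subgroup Cfsg.Agent.Omega.BTwo Cfsg.Agent.Omega.HTwo.Eight

universe u

variable {G : Type u} [Group G]

namespace TS

variable {D : TS G}

/-- the inputs of (17)-(20) from (16) -/
theorem Inp.of [Finite G] (hQ : ∀ p, D.Q p = Qp p) (F : OM D (O2 D.M)) (B : Bz D) (hk : ¬ KOne D) : D.Inp where
  hQ := hQ
  F := F
  B := B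
  hOG := by
    intro o ho g hg
    have hoz : o * D.z = D.z * o := F.O_z ho
    have hgz : g * D.z = D.z * g := F.O_z (F.Gam_O hg)
    rcases F.O_Gam B hk ho hg with h | h
    · exact Or.inl (comm_of_conj h)
    · right
      rw [mul_inv_eq_iff_eq_mul] at h
      rw [h, hgz, mul_assoc]

theorem hnab [Finite G] (F : OM D (O2 D.M)) (B : Bz D) (hk : ¬ KOne D) :
    ∃ g ∈ D.Gam, ∃ h ∈ D.Gam, g * h ≠ h * g := by
  obtain ⟨n, hn, g, hg, e⟩ := F.Gam_nab B hk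
  refine ⟨g, hg, n, D.NO_le_Gam D.r0_Δ hn, fun h => ?_⟩
  rw [h, mul_inv_cancel_right] at e
  exact D.z_ne (left_eq_mul.1 e)

theorem hk' (hk : ¬ KOne D) : ∃ x ∈ D.NO (D.r 0), x ∉ D.U := by
  unfold KOne at hk
  push Not at hk
  exact hk

theorem card_N [Finite G] : Nat.card (gen (D.r 0) D.z) = 2 * Nat.card (D.NO (D.r 0)) := by
  have h1 : D.NO (D.r 0) ≤ gen (D.r 0) D.z := fun _ h => h.1
  have h2 : ((D.NO (D.r 0)).subgroupOf (gen (D.r 0) D.z)).index = 2 := by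
    rw [Subgroup.index_eq_two_iff]
    obtain ⟨y, hy, hy1⟩ := D.Hs.exists_nbr D.zHs
    have hyU : y ∈ gen (D.r 0) D.z := D.Hs.Δ_le hy
    refine ⟨⟨y, hyU⟩, fun b => ?_⟩
    obtain ⟨b, hb⟩ := b
    rw [mem_subgroupOf, mem_subgroupOf]
    show Xor (b * y ∈ D.NO (D.r 0)) (b ∈ D.NO (D.r 0))
    have hb1 : D.Hs.φ D.z (b * y) = D.Hs.φ D.z b + 1 := by
      rw [D.Hs.φ_mul D.zHs hb hyU, hy1]
    rw [TB.mem_NO_r, TB.mem_NO_r, hb1]
    rcases zmod_cases (D.Hs.φ D.z b) with h | h <;> rw [h]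
    · right
      refine ⟨⟨hb, rfl⟩, fun h' => ?_⟩
      exact absurd h'.2 (by decide)
    · left
      refine ⟨⟨Subgroup.mul_mem _ hb hyU, by decide⟩, fun h' => ?_⟩
      exact absurd h'.2 (by decide)
  have h3 := Subgroup.index_mul_card ((D.NO (D.r 0)).subgroupOf (gen (D.r 0) D.z))
  rw [h2, Nat.card_congr (subgroupOfEquivOfLe h1).toEquiv] at h3
  exact h3.symm

/-- **(16)-(20)** -/
theorem f4 [Finite G] (hQ : ∀ p, D.Q p = Qp p) (F : OM D (O2 D.M)) (B : Bz D) (hk : ¬ KOne D) :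
    Nat.card D.U = 2 ^ 7 ∧ Nat.card (D.NO (D.r 0)) = 2 ^ 6 ∧ Nat.card (gen (D.r 0) D.z) = 2 ^ 7 ∧
      O2 D.M = D.Gam ∧ Nat.card (O2 D.M) = 2 ^ 15 := by
  obtain ⟨h1, h2, h3, h4⟩ := (Inp.of hQ F B hk).f4 (hk' hk) (hnab F B hk)
  exact ⟨h1, h2, by rw [card_N, h2]; norm_num, h3, h4⟩

end TS

end Cfsg.Agent.Omega.HOneTwo.Trans

end

section


/-!
# II.0h1, `q = 2`, F4-type: the intersections `N_p ∩ N_q`, `N_p ∩ N_q ∩ N_e` ((21) of #16429)

* `OpSys.mem_inf2`, `mem_inf3` : `Σ_q ∩ Σ_r = T_r Σ_q`, `Σ_q ∩ Σ_r ∩ Σ_e = T_e T_r Σ_q`; `card_inf2`, `card_inf3`;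
* `OpD.card_two`, `card_three` : `|N_p ∩ N_q| = 2 |T_q Σ_p|`, `|N_p ∩ N_q ∩ N_e| = 2 |T_e T_q Σ_p|`;
* `TS.F4.card_two` (`= 8`), `TS.F4.card_three` (`= 4`), `TS.Inp.ti` : total isotropy.
-/

set_option autoImplicit false
set_option linter.unusedSectionVars false
set_option linter.dupNamespace false

namespace Cfsg.Agent.Omega.HOneTwo.OpSys

namespace OpSys

variable {E S : Type*} [AddCommGroup E] [AddCommGroup S] {f : E → E → ZMod 2} {T : E → S →+ S}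

theorem mem_inf2 (h : OpSys f T) {q r r' : E} (hr : f q r = 0) (hr' : f q r' = 0) (hrr : f r r' = 1) {x : S} :
    x ∈ (T q).range.map (T r) ↔ x ∈ (T q).range ∧ x ∈ (T r).range := by
  constructor
  · rintro ⟨y, hy, rfl⟩
    exact ⟨h.mem_of_comm hr hy, ⟨y, rfl⟩⟩
  · rintro ⟨h1, h2⟩
    have h3 := h.split hr hr' hrr h1
    rw [h.zero_of_mem h2, map_zero, add_zero] at h3
    exact ⟨T r' x, h.mem_of_comm hr' h1, h3.symm⟩

theorem mem_inf3 (h : OpSys f T) {q r r' e e' : E} (hr : f q r = 0) (hr' : f q r' = 0) (hrr : f r r' = 1)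
    (he : f q e = 0) (he' : f q e' = 0) (hee : f e e' = 1) (hre : f r e = 0) (hre' : f r e' = 0) {x : S} :
    x ∈ ((T q).range.map (T r)).map (T e) ↔ x ∈ (T q).range ∧ x ∈ (T r).range ∧ x ∈ (T e).range := by
  constructor
  · rintro ⟨_, ⟨y, hy, rfl⟩, rfl⟩
    refine ⟨h.mem_of_comm he (h.mem_of_comm hr hy), ?_, ⟨_, rfl⟩⟩
    rw [← h.comm r e hre]
    exact ⟨_, rfl⟩
  · rintro ⟨h1, h2, h3⟩
    have h4 := h.split hr hr' hrr h1
    rw [h.zero_of_mem h2, map_zero, add_zero] at h4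
    have h5 := h.split he he' hee h1
    rw [h.zero_of_mem h3, map_zero, add_zero] at h5
    refine ⟨T e' x, ⟨T e' (T r' x), h.mem_of_comm he' (h.mem_of_comm hr' h1), ?_⟩, h5.symm⟩
    rw [h.comm r e' hre', ← h4]

theorem card_inf2 (h : OpSys f T) {q r r' : E} (hr : f q r = 0) (hr' : f q r' = 0) (hrr : f r r' = 1) :
    Nat.card (T q).range = Nat.card ((T q).range.map (T r)) ^ 2 :=
  h.card_sq hr hr' hrr (T q).range le_rfl (fun _ hx => h.mem_of_comm hr hx) (fun _ hx => h.mem_of_comm hr' hx)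

theorem card_inf3 (h : OpSys f T) {q r e e' : E} (hr : f q r = 0)
    (he : f q e = 0) (he' : f q e' = 0) (hee : f e e' = 1) (hre : f r e = 0) (hre' : f r e' = 0) :
    Nat.card ((T q).range.map (T r)) = Nat.card (((T q).range.map (T r)).map (T e)) ^ 2 := by
  refine h.card_sq he he' hee ((T q).range.map (T r)) ?_ ?_ ?_
  · rintro _ ⟨y, hy, rfl⟩
    exact h.mem_of_comm hr hy
  · rintro _ ⟨y, hy, rfl⟩
    exact ⟨T e y, h.mem_of_comm he hy, h.comm r e hre y⟩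
  · rintro _ ⟨y, hy, rfl⟩
    exact ⟨T e' y, h.mem_of_comm he' hy, h.comm r e' hre' y⟩

end OpSys

end Cfsg.Agent.Omega.HOneTwo.OpSys

namespace Cfsg.Agent.Omega.HOneTwo.OpInst

open Subgroup Cfsg.Agent.Omega.BTwo Cfsg.Agent.Omega.HTwo.Eight Cfsg.Agent.Omega.HOneTwo.OpSys

universe u

variable {G : Type u} [Group G]

namespace OpD

variable (D : OpD G)

/-- `N_p ∩ N_q ≤ C(U)` for `p ≠ q` -/
theorem N_inf_cen {p q n : G} (hp : p ∈ D.Δ) (hq : q ∈ D.Δ) (hne : p ≠ q) (hn : n ∈ Np D.z p)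
    (hn' : n ∈ Np D.z q) : ∀ u ∈ D.U, n * u = u * n := by
  rcases D.res.act_or hp hn with h | h
  · exact h
  rcases D.res.act_or hq hn' with h' | h'
  · exact h'
  exfalso
  obtain ⟨u, hu, h1⟩ := D.res.exists_f1 hp
  have e1 := h u hu
  have e2 := h' u hu
  rw [e1, h1, pw_one] at e2
  have e3 := mul_left_cancel e2
  rcases HTwo.Eight.z2 (D.f q u) with h2 | h2 <;> rw [h2] at e3
  · rw [pw_zero] at e3
    exact D.res.pz_ne_one hp e3
  · rw [pw_one] at e3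
    exact hne (mul_right_cancel e3)

variable [Finite G]

/-- `K → S` for `K ≤ Γ` -/
noncomputable def clH (K : Subgroup G) (hK : K ≤ D.Γ) : Additive K →+ D.S where
  toFun x := D.cl (Additive.toMul x).1
  map_zero' := D.cl_one
  map_add' x y := D.cl_mul (hK (Additive.toMul x).2) (hK (Additive.toMul y).2)

theorem card_clH (K : Subgroup G) (hK : K ≤ D.Γ) :
    Nat.card K = Nat.card (D.clH K hK).range * Nat.card (K ⊓ D.U : Subgroup G) := by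
  have h1 : Nat.card K = Nat.card (Additive K) := rfl
  rw [h1, AddSubgroup.card_eq_card_quotient_mul_card_addSubgroup (D.clH K hK).ker]
  congr 1
  · exact Nat.card_congr (QuotientAddGroup.quotientKerEquivRange (D.clH K hK)).toEquiv
  · refine Nat.card_congr ⟨fun x => ⟨(Additive.toMul x.1).1, (Additive.toMul x.1).2, ?_⟩,
      fun y => ⟨Additive.ofMul ⟨y.1, y.2.1⟩, ?_⟩, fun _ => rfl, fun _ => rfl⟩
    · have h2 : D.cl (Additive.toMul x.1).1 = 0 := x.2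
      exact (D.cl_eq_zero (hK (Additive.toMul x.1).2)).1 h2
    · show D.cl y.1 = 0
      exact (D.cl_eq_zero (hK y.2.1)).2 y.2.2

theorem mem_clH {K : Subgroup G} (hK : K ≤ D.Γ) {s : D.S} : s ∈ (D.clH K hK).range ↔ ∃ n ∈ K, D.cl n = s := by
  constructor
  · rintro ⟨x, rfl⟩
    exact ⟨_, (Additive.toMul x).2, rfl⟩
  · rintro ⟨n, hn, rfl⟩
    exact ⟨Additive.ofMul ⟨n, hn⟩, rfl⟩

theorem two_le {p q : G} (hp : p ∈ D.Δ) (hq : q ∈ D.Δ) (hne : p ≠ q) : Np D.z p ⊓ Np D.z q ≤ D.Γ :=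
  fun _ hn => D.NU_Γ hp ⟨hn.1, D.N_inf_cen hp hq hne hn.1 hn.2⟩

/-- `N_p ∩ N_q ∩ U = ⟨z⟩` -/
theorem N_inf_U {p q u : G} (hp : p ∈ D.Δ) (hq : q ∈ D.Δ) (hne : p ≠ q) (hn : u ∈ Np D.z p)
    (hn' : u ∈ Np D.z q) (hu : u ∈ D.U) : u = 1 ∨ u = D.z := by
  have hpq : p * D.z ≠ q := fun h => D.res.inj p hp (h ▸ hq)
  rcases D.UN p hp u hu hn with h | h | h | h
  · exact Or.inl h
  · exfalso
    rcases D.UN q hq u hu hn' with h' | h' | h' | h'
    · exact D.res.p_ne_one hp (h.symm.trans h')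
    · exact hne (h.symm.trans h')
    · exact D.res.p_ne_z hp (h.symm.trans h')
    · have h2 : p = q * D.z := h.symm.trans h'
      apply hpq
      rw [h2, mul_assoc, D.res.zz, mul_one]
  · exact Or.inr h
  · exfalso
    rcases D.UN q hq u hu hn' with h' | h' | h' | h'
    · exact D.res.pz_ne_one hp (h.symm.trans h')
    · exact hpq (h.symm.trans h')
    · have h2 : p * D.z = D.z := h.symm.trans h'
      exact D.res.p_ne_one hp (mul_eq_right.1 h2)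
    · exact hne (mul_right_cancel (h.symm.trans h'))

theorem card_z (K : Subgroup G) (hz : D.z ∈ K) (hK : ∀ u ∈ K, u ∈ D.U → u = 1 ∨ u = D.z) :
    Nat.card (K ⊓ D.U : Subgroup G) = 2 := by
  have e : ((K ⊓ D.U : Subgroup G) : Set G) = {1, D.z} := by
    ext u
    constructor
    · rintro ⟨h1, h2⟩
      rcases hK u h1 h2 with h | h
      · exact Or.inl h
      · exact Or.inr h
    · rintro (h | h)
      · rw [h]; exact one_mem _
      · rw [Set.mem_singleton_iff] at h; rw [h]; exact ⟨hz, D.res.z_U⟩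
  have h1 : Nat.card (K ⊓ D.U : Subgroup G) = ((K ⊓ D.U : Subgroup G) : Set G).ncard := rfl
  rw [h1, e, Set.ncard_pair (fun h => D.res.z1 h.symm)]

theorem tq_comm {p q : G} (hp : p ∈ D.Δ) (hq : q ∈ D.Δ) (h0 : D.f p q = 0) : D.t q ∈ Cp p :=
  mem_Cp.2 (D.res.t_0 q hq p (D.res.Δ_U p hp) (by
    rw [D.res.f_symm q (D.res.Δ_U q hq) p (D.res.Δ_U p hp)]; exact h0))

/-- `[n, t_q] ∈ N_p` for `n ∈ N_p`, `q ⟂ p` -/
theorem br_mem {p q n : G} (hp : p ∈ D.Δ) (hq : q ∈ D.Δ) (h0 : D.f p q = 0) (hn : n ∈ Np D.z p) :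
    n * D.t q * n⁻¹ * (D.t q)⁻¹ ∈ Np D.z p := by
  have e : n * D.t q * n⁻¹ * (D.t q)⁻¹ = n * (D.t q * n⁻¹ * (D.t q)⁻¹) := by group
  rw [e]
  exact mul_mem hn (N_normal (D.tq_comm hp hq h0) (inv_mem hn))

theorem T_eq {p : G} (hp : p ∈ D.Δ) (s : D.S) : D.T (ve (D.res.Δ_U p hp)) s = D.T₀ p s := by
  show D.TT p s = _
  rw [D.TT_Δ hp]

/-- `|N_p ∩ N_q| = 2 |T_q Σ_p|` -/
theorem card_two {p q : G} (hp : p ∈ D.Δ) (hq : q ∈ D.Δ) (hne : p ≠ q) (h0 : D.f p q = 0)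
    (hr : ∃ r ∈ D.U, D.f p r = 0 ∧ D.f q r = 1) :
    Nat.card (Np D.z p ⊓ Np D.z q : Subgroup G) =
      Nat.card ((D.T (ve (D.res.Δ_U p hp))).range.map (D.T (ve (D.res.Δ_U q hq)))) * 2 := by
  obtain ⟨r, hrU, h1, h2⟩ := hr
  have hle := D.two_le hp hq hne
  rw [D.card_clH _ hle, D.card_z (Np D.z p ⊓ Np D.z q) ⟨z_N _ _, z_N _ _⟩
    fun u hu hU => D.N_inf_U hp hq hne hu.1 hu.2 hU]
  suffices hr : (D.clH _ hle).range =
      (D.T (ve (D.res.Δ_U p hp))).range.map (D.T (ve (D.res.Δ_U q hq))) by rw [hr]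
  ext s
  rw [D.mem_clH hle]
  constructor
  · rintro ⟨n, hn, rfl⟩
    refine (D.ops.mem_inf2 (q := ve (D.res.Δ_U p hp)) (r := ve (D.res.Δ_U q hq)) (r' := ve hrU) h0 h1 h2).2 ⟨?_, ?_⟩
    · exact (D.mem_range hp _).2 ⟨n, ⟨hn.1, D.N_inf_cen hp hq hne hn.1 hn.2⟩, rfl⟩
    · exact (D.mem_range hq _).2 ⟨n, ⟨hn.2, D.N_inf_cen hp hq hne hn.1 hn.2⟩, rfl⟩
  · rintro ⟨_, hs, rfl⟩
    obtain ⟨n, hn, rfl⟩ := (D.mem_range hp _).1 hs
    have hnG := D.NU_Γ hp hn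
    refine ⟨_, ⟨D.br_mem hp hq h0 hn.1, (D.br_NU hq (D.Γ_O hnG)).1⟩, ?_⟩
    rw [D.T_eq hq, D.T₀_cl hq hnG]

/-- `|N_p ∩ N_q ∩ N_e| = 2 |T_e T_q Σ_p|` -/
theorem card_three {p q e : G} (hp : p ∈ D.Δ) (hq : q ∈ D.Δ) (he : e ∈ D.Δ) (hne : p ≠ q) (h0 : D.f p q = 0)
    (hpe : D.f p e = 0) (hqe : D.f q e = 0) (hr : ∃ r ∈ D.U, D.f p r = 0 ∧ D.f q r = 1)
    (hr' : ∃ r ∈ D.U, D.f p r = 0 ∧ D.f q r = 0 ∧ D.f e r = 1) :
    Nat.card (Np D.z p ⊓ Np D.z q ⊓ Np D.z e : Subgroup G) =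
      Nat.card (((D.T (ve (D.res.Δ_U p hp))).range.map (D.T (ve (D.res.Δ_U q hq)))).map
        (D.T (ve (D.res.Δ_U e he)))) * 2 := by
  obtain ⟨r, hrU, h1, h2⟩ := hr
  obtain ⟨r', hrU', h1', h2', h3'⟩ := hr'
  have hle : Np D.z p ⊓ Np D.z q ⊓ Np D.z e ≤ D.Γ := inf_le_left.trans (D.two_le hp hq hne)
  rw [D.card_clH _ hle, D.card_z (Np D.z p ⊓ Np D.z q ⊓ Np D.z e) ⟨⟨z_N _ _, z_N _ _⟩, z_N _ _⟩
    fun u hu hU => D.N_inf_U hp hq hne hu.1.1 hu.1.2 hU]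
  suffices hr : (D.clH _ hle).range =
      ((D.T (ve (D.res.Δ_U p hp))).range.map (D.T (ve (D.res.Δ_U q hq)))).map (D.T (ve (D.res.Δ_U e he))) by rw [hr]
  ext s
  rw [D.mem_clH hle]
  constructor
  · rintro ⟨n, hn, rfl⟩
    have hc := D.N_inf_cen hp hq hne hn.1.1 hn.1.2
    refine (D.ops.mem_inf3 (q := ve (D.res.Δ_U p hp)) (r := ve (D.res.Δ_U q hq)) (r' := ve hrU)
      (e := ve (D.res.Δ_U e he)) (e' := ve hrU')
      h0 h1 h2 hpe h1' h3' hqe h2').2 ⟨?_, ?_, ?_⟩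
    · exact (D.mem_range hp _).2 ⟨n, ⟨hn.1.1, hc⟩, rfl⟩
    · exact (D.mem_range hq _).2 ⟨n, ⟨hn.1.2, hc⟩, rfl⟩
    · exact (D.mem_range he _).2 ⟨n, ⟨hn.2, hc⟩, rfl⟩
  · rintro ⟨_, ⟨_, hs, rfl⟩, rfl⟩
    obtain ⟨n, hn, rfl⟩ := (D.mem_range hp _).1 hs
    have hnG := D.NU_Γ hp hn
    have hk := D.br_NU hq (D.Γ_O hnG)
    have hkG := D.NU_Γ hq hk
    have hkp := D.br_mem hp hq h0 hn.1
    obtain ⟨k, hk'⟩ : ∃ k, k = n * D.t q * n⁻¹ * (D.t q)⁻¹ := ⟨_, rfl⟩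
    rw [← hk'] at hk hkG hkp
    refine ⟨k * D.t e * k⁻¹ * (D.t e)⁻¹, ⟨⟨D.br_mem hp he hpe hkp, D.br_mem hq he hqe hk.1⟩,
      (D.br_NU he (D.Γ_O hkG)).1⟩, ?_⟩
    rw [D.T_eq hq, D.T₀_cl hq hnG, ← hk', D.T_eq he, D.T₀_cl he hkG]

end OpD

end Cfsg.Agent.Omega.HOneTwo.OpInst

namespace Cfsg.Agent.Omega.HOneTwo.Trans

open Subgroup Cfsg.Agent.Omega.BTwo Cfsg.Agent.Omega.HTwo.Eight Cfsg.Agent.Omega.HOneTwo.OpSys
  Cfsg.Agent.Omega.HOneTwo.OpInst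
open Cfsg.Agent.Omega.HOneTwo.OpInst.OpD (el ve el_mem)

universe u

variable {G : Type u} [Group G]

namespace TS

variable {D : TS G}

/-- `u ∉ ⟨p, z⟩`-independence: a functional on `U` -/
theorem exists_sep {p q : G} (hp : p ∈ D.Δ) (hq : q ∈ D.Δ) (hne : p ≠ q) :
    ∃ v ∈ D.U, D.f p v = 0 ∧ D.f q v = 1 := by
  have hpU := D.ΔU hp
  have hqU := D.ΔU hq
  by_contra hcon
  push Not at hcon
  have hc : ∀ v ∈ D.U, D.f p v = 0 → D.f q v = 0 := fun v hv hv0 =>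
    (zmod_cases _).resolve_right (hcon v hv hv0)
  obtain ⟨w, hw, hw1⟩ := D.Ms.φ_ne hp
  have hw1' : D.f p w = 1 := by rw [D.f_Δ hp]; exact hw1
  rcases zmod_cases (D.f q w) with h2 | h2
  · have h3 := D.f_rad hqU (fun v hv => by
      rcases zmod_cases (D.f p v) with h4 | h4
      · exact hc v hv h4
      · have h5 := hc (v * w) (Subgroup.mul_mem _ hv hw) (by
          rw [D.f_mul_right hpU hv hw, h4, hw1']; decide)
        rwa [D.f_mul_right hqU hv hw, h2, add_zero] at h5)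
    rcases h3 with h3 | h3
    · exact D.Ms.one_notin hq h3
    · exact D.Ms.z_notin hq h3
  · have h3 := D.f_rad (Subgroup.mul_mem _ hpU hqU) (fun v hv => by
      rw [D.f_mul_left hpU hqU hv]
      rcases zmod_cases (D.f p v) with h4 | h4
      · rw [h4, hc v hv h4, add_zero]
      · have h5 := hc (v * w) (Subgroup.mul_mem _ hv hw) (by
          rw [D.f_mul_right hpU hv hw, h4, hw1']; decide)
        rw [D.f_mul_right hqU hv hw, h2] at h5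
        rcases zmod_cases (D.f q v) with h6 | h6 <;> rw [h6] at h5 ⊢
        · exact absurd h5 (by decide)
        · rw [h4]; decide)
    rcases h3 with h3 | h3
    · apply hne
      rw [mul_eq_one_iff_eq_inv, D.Ms.U_inv hqU] at h3
      exact h3
    · have h4 : p = D.z * q := by
        have h5 := D.mul_self hqU
        calc p = p * (q * q) := by rw [h5, mul_one]
          _ = D.z * q := by rw [← mul_assoc, h3]
      rw [h4, D.U_comm D.z_mem hqU] at hp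
      exact D.zz_mem hq hp

/-- independence of three points -/
theorem exists_sep3 {p q e : G} (hp : p ∈ D.Δ) (hq : q ∈ D.Δ) (he : e ∈ D.Δ) (hne : p ≠ q) (hpe : e ≠ p)
    (hqe : e ≠ q) (h0 : D.f p q = 0) (hpq : e ≠ p * q) :
    ∃ v ∈ D.U, D.f p v = 0 ∧ D.f q v = 0 ∧ D.f e v = 1 := by
  have hpU := D.ΔU hp
  have hqU := D.ΔU hq
  have heU := D.ΔU he
  have hpqΔ : p * q ∈ D.Δ := D.mul_mem hp hq hne (by rw [← D.f_Δ hp]; exact h0)
  obtain ⟨a, ha, ha1, ha2⟩ := exists_sep hp he hpe.symm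
  obtain ⟨b, hb, hb1, hb2⟩ := exists_sep hq he hqe.symm
  obtain ⟨c, hc, hc1, hc2⟩ := exists_sep hpqΔ he (Ne.symm hpq)
  rw [D.f_mul_left hpU hqU hc] at hc1
  rcases zmod_cases (D.f q a) with h1 | h1
  · exact ⟨a, ha, ha1, h1, ha2⟩
  rcases zmod_cases (D.f p b) with h2 | h2
  · exact ⟨b, hb, h2, hb1, hb2⟩
  rcases zmod_cases (D.f p c) with h3 | h3
  · refine ⟨c, hc, h3, ?_, hc2⟩
    rwa [h3, zero_add] at hc1
  · have h4 : D.f q c = 1 := by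
      rcases zmod_cases (D.f q c) with h | h
      · rw [h3, h] at hc1; exact absurd hc1 (by decide)
      · exact h
    refine ⟨a * b * c, Subgroup.mul_mem _ (Subgroup.mul_mem _ ha hb) hc, ?_, ?_, ?_⟩
    · rw [D.f_mul_right hpU (Subgroup.mul_mem _ ha hb) hc, D.f_mul_right hpU ha hb, ha1, h2, h3]; decide
    · rw [D.f_mul_right hqU (Subgroup.mul_mem _ ha hb) hc, D.f_mul_right hqU ha hb, h1, hb1, h4]; decide
    · rw [D.f_mul_right heU (Subgroup.mul_mem _ ha hb) hc, D.f_mul_right heU ha hb, ha2, hb2, hc2]; decide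

namespace Inp

variable [Finite G] (I : Inp D)

include I in
/-- all `Σ_p` have the same order -/
theorem card_rg {p : G} (hp : p ∈ D.Δ) : Nat.card (I.op.T (ve (I.op.res.Δ_U p hp))).range =
    Nat.card (I.op.T I.q).range := by
  obtain ⟨q, hq, h1⟩ := I.op.res.exists_q1 hp
  obtain ⟨q', hq', h1'⟩ := I.op.res.exists_q1 (p := D.r 0) I.op.r_Δ
  have e1 := I.op.ops.card_S I.op.gen (p := ve (I.op.res.Δ_U q hq)) (q := ve (I.op.res.Δ_U p hp)) (by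
    show D.f q p = 1
    rw [D.f_symm (D.ΔU hq) (D.ΔU hp)]; exact h1)
  have e2 := I.op.ops.card_S I.op.gen (p := ve (I.op.res.Δ_U q' hq')) (q := I.q) (by
    show D.f q' (D.r 0) = 1
    rw [D.f_symm (D.ΔU hq') (D.r_mem 0)]; exact h1')
  rw [e1] at e2
  exact Nat.pow_left_injective (n := 2) (by norm_num) e2

/-- total isotropy of `T_s Σ_r` -/
theorem ti (s : I.op.E) (hs : I.op.F I.q s = 0) {x y : D.L} (hx : I.iota x ∈ (I.op.T I.q).range.map (I.op.T s))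
    (hy : I.iota y ∈ (I.op.T I.q).range.map (I.op.T s)) : g x y = 0 := by
  have hF := I.B.full
  obtain ⟨a, ha, hax⟩ := hx
  obtain ⟨b, hb, hby⟩ := hy
  have hb' : b ∈ I.iota.range := by rw [I.iota_range]; exact hb
  obtain ⟨b', rfl⟩ := hb'
  have e1 := I.iso s hs x b' 0 y (by rw [map_zero, ← hax, I.op.ops.sq]) hby.symm
  rw [add_zero, g_symm hF, g_add hF, g_symm hF b', g_symm hF y] at e1
  exact left_eq_add.1 e1.symm

end Inp

/-- `|N_p ∩ N_q| = 8` -/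
theorem F4_two [Finite G] (hQ : ∀ p, D.Q p = Qp p) (F : OM D (O2 D.M)) (B : Bz D) (hk : ¬ KOne D) {p q : G}
    (hp : p ∈ D.Δ) (hq : q ∈ D.Δ) (hne : p ≠ q) (h0 : D.f p q = 0) :
    Nat.card (gen p D.z ⊓ gen q D.z : Subgroup G) = 8 := by
  have I := Inp.of hQ F B hk
  have h1 := I.op.card_two hp hq hne h0 (exists_sep hp hq hne)
  obtain ⟨r, hrU, h2, h3⟩ := exists_sep hp hq hne
  have h4 := I.op.ops.card_inf2 (q := ve (I.op.res.Δ_U p hp)) (r := ve (I.op.res.Δ_U q hq)) (r' := ve hrU) h0 h2 h3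
  have h5 : Nat.card (I.op.T (ve (I.op.res.Δ_U p hp))).range = 4 ^ 2 := by
    rw [I.card_rg hp]
    rcases I.two_three (hk' hk) with ⟨h6, h7⟩ | ⟨-, h7, -⟩
    · exfalso
      obtain ⟨a, ha, b, hb, hne'⟩ := hnab F B hk
      rw [← D.Gam_eq] at ha hb
      exact hne' (I.op.dead h6 h7 a ha b hb)
    · exact h7
  rw [h5] at h4
  have h6 := Nat.pow_left_injective (n := 2) (by norm_num) h4.symm
  have h7 : Nat.card (Np D.z p ⊓ Np D.z q : Subgroup G) = 8 := by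
    have h8 : Nat.card (Np D.z p ⊓ Np D.z q : Subgroup G) = _ := h1
    rw [h8, show Nat.card ((I.op.T (ve (I.op.res.Δ_U p hp))).range.map (I.op.T (ve (I.op.res.Δ_U q hq)))) = 4 from h6]
  rwa [Np_eq, Np_eq] at h7

/-- `|N_p ∩ N_q ∩ N_e| = 4` -/
theorem F4_three [Finite G] (hQ : ∀ p, D.Q p = Qp p) (F : OM D (O2 D.M)) (B : Bz D) (hk : ¬ KOne D) {p q e : G}
    (hp : p ∈ D.Δ) (hq : q ∈ D.Δ) (he : e ∈ D.Δ) (hne : p ≠ q) (hpe : e ≠ p) (hqe : e ≠ q) (hpq : e ≠ p * q)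
    (h0 : D.f p q = 0) (h1 : D.f p e = 0) (h2 : D.f q e = 0) :
    Nat.card (gen p D.z ⊓ gen q D.z ⊓ gen e D.z : Subgroup G) = 4 := by
  have I := Inp.of hQ F B hk
  have k1 := I.op.card_three hp hq he hne h0 h1 h2 (exists_sep hp hq hne)
    (exists_sep3 hp hq he hne hpe hqe h0 hpq)
  have k2 := I.op.card_two hp hq hne h0 (exists_sep hp hq hne)
  obtain ⟨r, hrU, k3, k4, k5⟩ := exists_sep3 hp hq he hne hpe hqe h0 hpq
  have k6 := I.op.ops.card_inf3 (q := ve (I.op.res.Δ_U p hp)) (r := ve (I.op.res.Δ_U q hq))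
    (e := ve (I.op.res.Δ_U e he)) (e' := ve hrU) h0 h1 k3 k5 h2 k4
  have k7 : Nat.card (Np D.z p ⊓ Np D.z q : Subgroup G) = 8 := by
    have := F4_two hQ F B hk hp hq hne h0
    rwa [← Np_eq, ← Np_eq] at this
  have k8 : Nat.card (Np D.z p ⊓ Np D.z q : Subgroup G) = _ := k2
  rw [k7] at k8
  have k9 : Nat.card ((I.op.T (ve (I.op.res.Δ_U p hp))).range.map (I.op.T (ve (I.op.res.Δ_U q hq)))) = 2 ^ 2 := by
    omega
  rw [k9] at k6
  have k10 := Nat.pow_left_injective (n := 2) (by norm_num) k6.symm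
  have k11 : Nat.card (Np D.z p ⊓ Np D.z q ⊓ Np D.z e : Subgroup G) = _ := k1
  have k12 : Nat.card (((I.op.T (ve (I.op.res.Δ_U p hp))).range.map (I.op.T (ve (I.op.res.Δ_U q hq)))).map
      (I.op.T (ve (I.op.res.Δ_U e he)))) = 2 := k10
  rw [k12, Np_eq, Np_eq, Np_eq] at k11
  exact k11

/-- `N_p ∩ N_q ≤ C(U)` -/
theorem N_inf_NO [Finite G] (I : Inp D) {p q n : G} (hp : p ∈ D.Δ) (hq : q ∈ D.Δ) (hne : p ≠ q)
    (hn : n ∈ gen p D.z) (hn' : n ∈ gen q D.z) : n ∈ D.NO p := by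
  rw [D.mem_NO]
  refine ⟨hn, I.op.N_inf_cen hp hq hne ?_ ?_⟩
  · show n ∈ Np D.z p
    rwa [Np_eq]
  · show n ∈ Np D.z q
    rwa [Np_eq]

/-- `N_r ∩ N_p` is totally isotropic for the form of `N_r` -/
theorem F4_ti [Finite G] (hQ : ∀ p, D.Q p = Qp p) (F : OM D (O2 D.M)) (B : Bz D) (hk : ¬ KOne D) {p : G}
    (hp : p ∈ D.Δ) (hne : D.r 0 ≠ p) (h0 : D.f (D.r 0) p = 0) {x y : G} (hx : x ∈ gen (D.r 0) D.z)
    (hx' : x ∈ gen p D.z) (hy : y ∈ gen (D.r 0) D.z) (hy' : y ∈ gen p D.z) : D.Hs.f x y = 0 := by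
  have I := Inp.of hQ F B hk
  obtain ⟨r, hrU, h2, h3⟩ := exists_sep D.r0_Δ hp hne
  have key : ∀ x, x ∈ gen (D.r 0) D.z → x ∈ gen p D.z → ∃ h : x ∈ D.NO (D.r 0),
      I.iota (lv h) ∈ (I.op.T I.q).range.map (I.op.T (ve (I.op.res.Δ_U p hp))) := by
    intro x hx hx'
    have h1 := N_inf_NO I D.r0_Δ hp hne hx hx'
    have h4 := N_inf_NO I hp D.r0_Δ hne.symm hx' hx
    refine ⟨h1, (I.op.ops.mem_inf2 (q := I.q) (r := ve (I.op.res.Δ_U p hp)) (r' := ve hrU) h0 h2 h3).2 ⟨?_, ?_⟩⟩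
    · exact (I.op.mem_range I.op.r_Δ _).2 ⟨x, I.NU_iff.2 h1, rfl⟩
    · exact (I.op.mem_range hp _).2 ⟨x, I.NU_iff.2 h4, rfl⟩
  obtain ⟨k1, k2⟩ := key x hx hx'
  obtain ⟨k3, k4⟩ := key y hy hy'
  exact I.ti (ve (I.op.res.Δ_U p hp)) h0 k2 k4

end TS

end Cfsg.Agent.Omega.HOneTwo.Trans

end

section


/-!
# II.0h1, `q = 2`, F4-type, (21) of #16429: the groups `N_p ∩ N_q`, `p, q ∈ Δ` orthogonal

* `TS.N_inf_mul` : `N_p ∩ N_q ≤ N_{pq}`;
* `TS.exists_a` : a third `a ∈ Δ` orthogonal to `p, q`, `a ∉ {p, q, pq}`;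
* `TS.inf_O`, `TS.inf_U` : `N_p ∩ N_q ≤ O₂(M)`, `N_p ∩ N_q ∩ U = {1, z}`;
* `TS.F4_ZZ` : `N_r ∩ N_p ≤ {1} ∪ z^{C(r)}`.
-/

set_option autoImplicit false
set_option linter.unusedSectionVars false

namespace Cfsg.Agent.Omega.HOneTwo.Trans

open Subgroup Cfsg.Agent.Omega.BTwo Cfsg.Agent.Omega.HTwo.Eight Cfsg.Agent.Omega.HOneTwo.OpSys
  Cfsg.Agent.Omega.HOneTwo.OpInst
open Cfsg.Agent.Omega.HOneTwo.OpInst.OpD (el ve el_mem)

universe u

variable {G : Type u} [Group G]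

namespace TS

variable {D : TS G}

/-- `[N_p, Q_p] = 1` -/
theorem N_Q_comm {p n g : G} (hp : p ∈ D.Δ) (hn : n ∈ gen p D.z) (hg : g ∈ D.Q p) : g * n = n * g := by
  obtain ⟨m, hm, rfl⟩ := hp
  have e : m⁻¹ * (m * D.r 0 * m⁻¹) * m⁻¹⁻¹ = D.r 0 := by group
  have h1 := gen_conj m⁻¹ hn
  rw [e, D.m_z' hm] at h1
  have h2 := D.Q_conj m⁻¹ _ _ hg
  rw [e] at h2
  have h3 := (mem_zt.1 (D.N_le_zt 0 h1)).2 _ h2
  calc g * n = m * ((m⁻¹ * g * m⁻¹⁻¹) * (m⁻¹ * n * m⁻¹⁻¹)) * m⁻¹ := by group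
    _ = n * g := by rw [← h3]; group

theorem z_gen (p : G) : D.z ∈ gen p D.z := self_mem_gen p D.z

/-- `N_p ∩ N_q ≤ N_{qp}` -/
theorem N_inf_mul {p q n : G} (hp : p ∈ D.Δ) (hq : q ∈ D.Δ) (hne : p ≠ q) (h0 : D.f p q = 0)
    (hn : n ∈ gen p D.z) (hn' : n ∈ gen q D.z) : n ∈ gen (q * p) D.z := by
  rw [D.f_Δ hp] at h0
  obtain ⟨g, hg, h1⟩ := D.Q_mv hp hq hne h0
  have h2 := gen_conj g hn'
  rw [conj_of_comm (N_Q_comm hp hn hg), conj_of_comm (N_Q_comm hp (z_gen p) hg), h1] at h2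
  exact h2

theorem inf_O [Finite G] (hQ : ∀ p, D.Q p = Qp p) (F : OM D (O2 D.M)) (B : Bz D) (hk : ¬ KOne D) {p q n : G}
    (hp : p ∈ D.Δ) (hq : q ∈ D.Δ) (hne : p ≠ q) (hn : n ∈ gen p D.z) (hn' : n ∈ gen q D.z) : n ∈ O2 D.M := by
  have I := Inp.of hQ F B hk
  exact F.NO_O hp (N_inf_NO I hp hq hne hn hn')

theorem inf_U [Finite G] (hQ : ∀ p, D.Q p = Qp p) (F : OM D (O2 D.M)) (B : Bz D) (hk : ¬ KOne D) {p q n : G}
    (hp : p ∈ D.Δ) (hq : q ∈ D.Δ) (hne : p ≠ q) (hn : n ∈ gen p D.z) (hn' : n ∈ gen q D.z) (hU : n ∈ D.U) :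
    n = 1 ∨ n = D.z := by
  have I := Inp.of hQ F B hk
  rw [← Np_eq] at hn hn'
  exact I.op.N_inf_U hp hq hne hn hn' hU

/-- a third point of `Δ` orthogonal to `p` and `q` -/
theorem exists_a [Finite G] (hU : 32 < Nat.card D.U) {p q : G} (hp : p ∈ D.Δ) (hq : q ∈ D.Δ) (hne : p ≠ q) :
    ∃ a ∈ D.Δ, D.f p a = 0 ∧ D.f q a = 0 ∧ a ≠ p ∧ a ≠ q ∧ a ≠ p * q := by
  have hpU := D.ΔU hp
  have hqU := D.ΔU hq
  have hzU := D.z_mem
  obtain ⟨v, hv, v0, v1⟩ := exists_sep hp hq hne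
  obtain ⟨w, hw, w0, w1⟩ := exists_sep hq hp hne.symm
  by_contra hcon
  push Not at hcon
  let Φ : ZMod 2 × ZMod 2 × ZMod 2 × ZMod 2 × ZMod 2 → G := fun c =>
    pw p c.1 * pw q c.2.1 * pw D.z c.2.2.1 * pw v c.2.2.2.1 * pw w c.2.2.2.2
  have hK : ∀ u ∈ D.U, D.f p u = 0 → D.f q u = 0 → ∃ a b c : ZMod 2, u = pw p a * pw q b * pw D.z c := by
    have key : ∀ u ∈ D.Δ, D.f p u = 0 → D.f q u = 0 → ∃ a b : ZMod 2, u = pw p a * pw q b := by
      intro u hu h1 h2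
      by_cases h3 : u = p
      · exact ⟨1, 0, by rw [pw_one, pw_zero, mul_one, h3]⟩
      by_cases h4 : u = q
      · exact ⟨0, 1, by rw [pw_one, pw_zero, one_mul, h4]⟩
      · exact ⟨1, 1, by rw [pw_one, pw_one]; exact hcon u hu h1 h2 h3 h4⟩
    intro u hu h1 h2
    rcases D.mem_U_iff.1 hu with h | h | h | h
    · exact ⟨0, 0, 0, by rw [h]; simp⟩
    · exact ⟨0, 0, 1, by rw [h]; simp⟩
    · obtain ⟨a, b, h3⟩ := key u h h1 h2
      exact ⟨a, b, 0, by rw [pw_zero, mul_one]; exact h3⟩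
    · obtain ⟨a, b, h3⟩ := key (u * D.z) h
        (by rw [D.f_mul_right hpU hu hzU, h1, D.f_zr hpU, add_zero])
        (by rw [D.f_mul_right hqU hu hzU, h2, D.f_zr hqU, add_zero])
      refine ⟨a, b, 1, ?_⟩
      rw [pw_one, ← h3, mul_assoc, D.z_sq, mul_one]
  have hcov : (D.U : Set G) ⊆ Set.range Φ := by
    intro u hu
    have hu' : u ∈ D.U := hu
    -- `u v^{f q u} w^{f p u} ∈ K`
    have hvc : pw v (D.f q u) ∈ D.U := D.Ms.pw_mem hv _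
    have hwc : pw w (D.f p u) ∈ D.U := D.Ms.pw_mem hw _
    have fpw : ∀ x ∈ D.U, ∀ y ∈ D.U, ∀ c : ZMod 2, D.f x (pw y c) = c * D.f x y := by
      intro x hx y hy c
      rcases zmod_cases c with rfl | rfl
      · rw [pw_zero, D.f_oner hx, zero_mul]
      · rw [pw_one, one_mul]
    obtain ⟨a, b, c, h1⟩ := hK (u * (pw v (D.f q u) * pw w (D.f p u)))
      (D.U.mul_mem hu' (D.U.mul_mem hvc hwc))
      (by
        rw [D.f_mul_right hpU hu' (D.U.mul_mem hvc hwc), D.f_mul_right hpU hvc hwc, fpw p hpU v hv, fpw p hpU w hw,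
          v0, w1, mul_zero, zero_add, mul_one]
        generalize D.f p u = x
        revert x; decide)
      (by
        rw [D.f_mul_right hqU hu' (D.U.mul_mem hvc hwc), D.f_mul_right hqU hvc hwc, fpw q hqU v hv, fpw q hqU w hw,
          v1, w0, mul_zero, add_zero, mul_one]
        generalize D.f q u = x
        revert x; decide)
    refine ⟨(a, b, c, D.f q u, D.f p u), ?_⟩
    show pw p a * pw q b * pw D.z c * pw v (D.f q u) * pw w (D.f p u) = u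
    rw [← h1]
    have h2 := D.U_sq _ (D.U.mul_mem hvc hwc)
    calc u * (pw v (D.f q u) * pw w (D.f p u)) * pw v (D.f q u) * pw w (D.f p u)
        = u * (pw v (D.f q u) * pw w (D.f p u) * (pw v (D.f q u) * pw w (D.f p u))) := by group
      _ = u := by rw [h2, mul_one]
  have h1 : Nat.card D.U ≤ (Set.range Φ).ncard := by
    rw [show Nat.card D.U = (D.U : Set G).ncard from rfl]
    exact Set.ncard_le_ncard hcov (Set.finite_range _)
  have h2 : (Set.range Φ).ncard ≤ 32 := by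
    have h3 : (Set.range Φ).ncard ≤ Nat.card (ZMod 2 × ZMod 2 × ZMod 2 × ZMod 2 × ZMod 2) := by
      rw [← Set.image_univ, ← Set.ncard_univ]
      exact Set.ncard_image_le Set.finite_univ
    refine h3.trans (le_of_eq ?_)
    simp
  omega

/-- **`N_r ∩ N_p ≤ {1} ∪ z^{C(r)}`** -/
theorem F4_ZZ [Finite G] (hQ : ∀ p, D.Q p = Qp p) (F : OM D (O2 D.M)) (B : Bz D) (hk : ¬ KOne D) {p : G}
    (hp : p ∈ D.Δ) (hne : D.r 0 ≠ p) (h0 : D.f (D.r 0) p = 0) {n : G} (hn : n ∈ gen (D.r 0) D.z)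
    (hn' : n ∈ gen p D.z) (hn1 : n ≠ 1) : n ∈ D.Hs.Δ := by
  have I := Inp.of hQ F B hk
  have hO := F.Hs_orth B hk
  have hr := D.r0_Δ
  have hrU : D.r 0 ∈ D.Hs.U := D.Hs.z_mem
  have hrr : D.r 0 * D.r 0 = 1 := D.r_sq 0
  -- `good`
  have hA : ∀ x y, x ∈ gen (D.r 0) D.z → x ∈ gen p D.z → y ∈ gen (D.r 0) D.z → y ∈ gen p D.z →
      (x = 1 ∨ x ∈ D.Hs.Δ) → (y = 1 ∨ y ∈ D.Hs.Δ) → (x * y = 1 ∨ x * y ∈ D.Hs.Δ) := by
    intro x y hx hx' hy hy' gx gy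
    rcases gx with rfl | gx
    · rw [one_mul]; exact gy
    rcases gy with rfl | gy
    · rw [mul_one]; exact Or.inr gx
    by_cases hxy : x = y
    · left; rw [hxy]; exact D.N_sq hy
    · right
      refine hO.mm x gx y gy hxy ?_
      have := F4_ti hQ F B hk hp hne h0 hx hx' hy hy'
      rwa [Side.f_Δ gx] at this
  -- the commutator with `t_a`
  have hB : ∀ a ∈ D.Δ, D.f (D.r 0) a = 0 → D.f p a = 0 → ∀ x, x ∈ gen (D.r 0) D.z → x ∈ gen p D.z →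
      (x * D.tz a * x⁻¹ * (D.tz a)⁻¹ ∈ gen (D.r 0) D.z ∧ x * D.tz a * x⁻¹ * (D.tz a)⁻¹ ∈ gen p D.z) ∧
      (x * D.tz a * x⁻¹ * (D.tz a)⁻¹ = 1 ∨ x * D.tz a * x⁻¹ * (D.tz a)⁻¹ ∈ D.Hs.Δ) := by
    intro a ha h1 h2 x hx hx'
    have k1 : x * D.tz a * x⁻¹ * (D.tz a)⁻¹ ∈ gen (D.r 0) D.z := by
      rw [← Np_eq] at hx ⊢
      exact I.op.br_mem hr ha h1 hx
    have k2 : x * D.tz a * x⁻¹ * (D.tz a)⁻¹ ∈ gen p D.z := by
      rw [← Np_eq] at hx' ⊢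
      exact I.op.br_mem hp ha h2 hx'
    refine ⟨⟨k1, k2⟩, ?_⟩
    have htA : D.tz a ∈ D.Hs.A := D.mem_HA.2 (mem_Cp.1 (I.op.tq_comm hr ha h1))
    have hxi : x⁻¹ = x := D.Hs.U_inv hx
    have e : x * D.tz a * x⁻¹ * (D.tz a)⁻¹ = x * (D.tz a * x * (D.tz a)⁻¹) := by rw [hxi]; group
    obtain ⟨y, hy⟩ : ∃ y, y = D.tz a * x * (D.tz a)⁻¹ := ⟨_, rfl⟩
    have hyN : y ∈ gen (D.r 0) D.z := by rw [hy]; exact D.Hs.U_conj _ htA x hx
    have hyx : x * y ∈ gen p D.z := by rw [hy, ← e]; exact k2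
    have hyp : y ∈ gen p D.z := by
      have := Subgroup.mul_mem _ (Subgroup.inv_mem _ hx') hyx
      rwa [inv_mul_cancel_left] at this
    rw [e, ← hy]
    rcases hO.full x hx with h3 | h3 | h3 | h3
    · left
      rw [h3, one_mul, hy, h3]; group
    · left
      have h4 : D.Hs.z = D.r 0 := rfl
      rw [h4] at h3
      rw [hy, h3, conj_of_comm (D.mem_HA.1 htA)]
      exact hrr
    · have h4 : y ∈ D.Hs.Δ := by rw [hy]; exact D.Hs.Δ_conj _ htA x h3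
      exact hA x y hx hx' hyN hyp (Or.inr h3) (Or.inr h4)
    · have h4 : D.Hs.z = D.r 0 := rfl
      rw [h4] at h3
      have h5 : y * D.r 0 ∈ D.Hs.Δ := by
        have := D.Hs.Δ_conj _ htA _ h3
        have e2 : D.tz a * (x * D.r 0) * (D.tz a)⁻¹ = y * D.r 0 := by
          calc D.tz a * (x * D.r 0) * (D.tz a)⁻¹ = (D.tz a * x * (D.tz a)⁻¹) * (D.tz a * D.r 0 * (D.tz a)⁻¹) := by
                group
            _ = y * D.r 0 := by rw [← hy, conj_of_comm (D.mem_HA.1 htA)]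
        rwa [e2] at this
      have hry : D.r 0 * y = y * D.r 0 := D.Hs.U_comm hrU hyN
      have e3 : x * D.r 0 * (y * D.r 0) = x * y := by
        calc x * D.r 0 * (y * D.r 0) = x * (D.r 0 * y) * D.r 0 := by group
          _ = x * y * (D.r 0 * D.r 0) := by rw [hry]; group
          _ = x * y := by rw [hrr, mul_one]
      by_cases hxy : x * D.r 0 = y * D.r 0
      · left
        rw [← e3, hxy]
        exact D.Hs.U_sq _ (D.Hs.Δ_le h5)
      · right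
        rw [← e3]
        refine hO.mm _ h3 _ h5 hxy ?_
        have h6 := F4_ti hQ F B hk hp hne h0 hx hx' hyN hyp
        have hF := B.full
        have h7 : D.Hs.f x y = D.Hs.φ (x * D.Hs.z) y := hF.f_Δz h3
        rw [h7] at h6
        have h8 := hF.φ_mul_z (p := x * D.Hs.z) h3 hyN
        exact h8.trans h6
  -- `a`, `a'`
  have hU := (f4 hQ F B hk).1
  obtain ⟨a, ha, a1, a2, a3, a4, a5⟩ := exists_a (by rw [hU]; norm_num) hr hp hne
  obtain ⟨a', ha', b1, b2, b3⟩ : ∃ a' ∈ D.Δ, D.f (D.r 0) a' = 0 ∧ D.f p a' = 0 ∧ D.f a a' = 1 := by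
    obtain ⟨v, hv, c1, c2, c3⟩ := exists_sep3 hr hp ha hne a3 a4 h0 a5
    have hrU' := D.ΔU hr
    have hpU := D.ΔU hp
    have haU := D.ΔU ha
    rcases D.mem_U_iff.1 hv with h | h | h | h
    · rw [h, D.f_oner haU] at c3
      exact absurd c3 (by decide)
    · rw [h, D.f_zr haU] at c3
      exact absurd c3 (by decide)
    · exact ⟨v, h, c1, c2, c3⟩
    · refine ⟨v * D.z, h, ?_, ?_, ?_⟩
      · rw [D.f_mul_right hrU' hv D.z_mem, c1, D.f_zr hrU', add_zero]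
      · rw [D.f_mul_right hpU hv D.z_mem, c2, D.f_zr hpU, add_zero]
      · rw [D.f_mul_right haU hv D.z_mem, c3, D.f_zr haU, add_zero]
  -- the decomposition
  obtain ⟨⟨k1, k2⟩, -⟩ := hB a' ha' b1 b2 n hn hn'
  obtain ⟨⟨k3, k4⟩, g3⟩ := hB a ha a1 a2 _ k1 k2
  obtain ⟨⟨l1, l2⟩, -⟩ := hB a ha a1 a2 n hn hn'
  obtain ⟨⟨l3, l4⟩, g4⟩ := hB a' ha' b1 b2 _ l1 l2
  have hnO := N_inf_NO I hr hp hne hn hn'
  have hΓ : ∀ {x : G}, x ∈ gen (D.r 0) D.z → x ∈ gen p D.z → x ∈ I.op.Γ := fun {x} h1 h2 =>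
    I.op.NU_Γ hr (I.NU_iff.2 (N_inf_NO I hr hp hne h1 h2))
  have hx : I.op.cl n ∈ (I.op.T I.q).range := (I.op.mem_range hr _).2 ⟨n, I.NU_iff.2 hnO, rfl⟩
  have h5 := I.op.ops.split (q := I.q) (r := ve (I.op.res.Δ_U a ha)) (r' := ve (I.op.res.Δ_U a' ha')) a1 b1 b3 hx
  rw [I.op.T_eq ha', I.op.T_eq ha, I.op.T_eq ha, I.op.T_eq ha'] at h5
  have hnΓ := hΓ hn hn'
  have e1 : I.op.T₀ a' (I.op.cl n) = I.op.cl (n * D.tz a' * n⁻¹ * (D.tz a')⁻¹) := I.op.T₀_cl ha' hnΓ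
  have e2 : I.op.T₀ a (I.op.cl n) = I.op.cl (n * D.tz a * n⁻¹ * (D.tz a)⁻¹) := I.op.T₀_cl ha hnΓ
  rw [e1, e2] at h5
  have e3 := I.op.T₀_cl ha (hΓ k1 k2)
  have e4 := I.op.T₀_cl ha' (hΓ l1 l2)
  rw [e3, e4] at h5
  have h6 : I.op.cl n = I.op.cl (_ * _) := h5.trans (I.op.cl_mul (hΓ k3 k4) (hΓ l3 l4)).symm
  have h7 := (I.op.cl_eq_iff hnΓ (Subgroup.mul_mem _ (hΓ k3 k4) (hΓ l3 l4))).1 h6
  have g5 := hA _ _ k3 k4 l3 l4 g3 g4
  have m1 := Subgroup.mul_mem _ k3 l3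
  have m2 := Subgroup.mul_mem _ k4 l4
  have h8 := inf_U hQ F B hk hr hp hne (Subgroup.mul_mem _ (Subgroup.inv_mem _ hn) m1)
    (Subgroup.mul_mem _ (Subgroup.inv_mem _ hn') m2) h7
  have h9 : n = 1 ∨ n ∈ D.Hs.Δ := by
    rcases h8 with h8 | h8
    · rw [inv_mul_eq_one] at h8
      rw [h8]; exact g5
    · have h10 := hA _ _ m1 m2 (z_gen (D.r 0)) (z_gen p) g5 (Or.inr D.zHΔ)
      rw [inv_mul_eq_iff_eq_mul] at h8
      rw [h8, mul_assoc, D.z_sq, mul_one] at h10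
      exact h10
  exact h9.resolve_left hn1

end TS

end Cfsg.Agent.Omega.HOneTwo.Trans

end
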