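import Cfsg.Agent.Mrg.Omega.HOneTwo.EndOp
import Cfsg.Agent.Mrg.Omega.HOneTwo.TwoOut
import Cfsg.Agent.Mrg.Omega.BTwo.Split


/-!
# II.0h1, `q = 2`, F4-type: the END of #16429, #17243

`FF D S` : the situation after (20): `TS`, `OM D (O₂ M)`, `Bz D`, `¬ KOne D`, `S ∈ Syl₂(G)`, characteristic 2.

* `FF.S_M`, `FF.KM` (`C_M(U) = O₂(M)`), `FF.K1_pow` (`C_{H₁}(N₁)` is a 2-group), `FF.irr`;
* `FF.O_z` : `O₂(C_G(z)) = O₂(M)`;  `FF.Z_O` : `Z(O₂(M)) ≤ U`.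
-/

set_option autoImplicit false
set_option linter.unusedSectionVars false

namespace Cfsg.Agent.Omega.HOneTwo.Trans

open Subgroup Cfsg.Agent.Omega.BTwo Cfsg.Agent.Omega.HTwo.Eight Cfsg.Agent.Omega.HOneTwo.OpSys
  Cfsg.Agent.Omega.HOneTwo.OpInst
open Cfsg.Agent.Omega.HOneTwo.OpInst.OpD (el ve el_mem)

universe u

variable {G : Type u} [Group G]

namespace TS

/-- the situation after (20) of #16429 -/
structure FF [Finite G] (D : TS G) (S : Sylow 2 G) : Prop where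
  hQ : ∀ p, D.Q p = Qp p
  F : OM D (O2 D.M)
  B : Bz D
  hk : ¬ KOne D
  S_r : ∀ s ∈ (S : Subgroup G), s * D.r 0 = D.r 0 * s
  S_z : ∀ s ∈ (S : Subgroup G), s * D.z = D.z * s
  S_V : ∀ s ∈ (S : Subgroup G), s * D.r 1 * s⁻¹ = D.r 1 ∨ s * D.r 1 * s⁻¹ = D.r 2
  cM : ∀ g ∈ D.M, (∀ o ∈ O2 D.M, g * o = o * g) → g ∈ O2 D.M
  cz : ∀ g, g * D.z = D.z * g → (∀ o ∈ O2 (centralizer {D.z}), g * o = o * g) → g ∈ O2 (centralizer {D.z})

namespace FF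

variable [Finite G] {D : TS G} {S : Sylow 2 G} (A : FF D S)

include A

theorem inp : D.Inp := Inp.of A.hQ A.F A.B A.hk

theorem card_U : Nat.card D.U = 2 ^ 7 := (f4 A.hQ A.F A.B A.hk).1

theorem card_NO : Nat.card (D.NO (D.r 0)) = 2 ^ 6 := (f4 A.hQ A.F A.B A.hk).2.1

theorem card_N : Nat.card (gen (D.r 0) D.z) = 2 ^ 7 := (f4 A.hQ A.F A.B A.hk).2.2.1

theorem O_eq : O2 D.M = D.Gam := (f4 A.hQ A.F A.B A.hk).2.2.2.1

theorem card_O : Nat.card (O2 D.M) = 2 ^ 15 := (f4 A.hQ A.F A.B A.hk).2.2.2.2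

theorem hU : Nat.card A.inp.op.U = 2 * 4 ^ 3 := by
  show Nat.card D.U = _
  rw [A.card_U]; norm_num

theorem hS : Nat.card A.inp.op.S = 256 := by
  have h1 := A.inp.op.card_Γ
  have h2 : A.inp.op.Γ = O2 D.M := (A.inp.op.O_eq (n := 0) A.hU).symm
  rw [h2, A.card_O] at h1
  have h3 : Nat.card A.inp.op.U = 2 ^ 7 := A.card_U
  rw [h3] at h1
  omega

theorem cop : ∀ g ∈ A.inp.op.M, (∀ o ∈ O2 A.inp.op.M, g * o = o * g) → g ∈ O2 A.inp.op.M := A.cM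

theorem S_M : (S : Subgroup G) ≤ D.M := fun s hs => D.M_r s (A.S_r s hs) (A.S_z s hs)

theorem M_cz : D.M ≤ centralizer {D.z} := fun m hm => mem_centralizer_singleton_iff.2 (D.M_z m hm)

theorem O_S : O2 D.M ≤ (S : Subgroup G) := HTwo.Par.O2_le_sylow S A.S_M

/-- `C_M(U) = O₂(M)` -/
theorem KM {k : G} (hk : k ∈ D.M) (hkU : ∀ u ∈ D.U, k * u = u * k) : k ∈ O2 D.M :=
  A.inp.op.KM_O A.hU A.hS A.cop hk hkU

/-- `M` is irreducible on `O₂(M) / U` -/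
theorem irr {K : Subgroup G} (hK : K ≤ O2 D.M) (hKM : ∀ m ∈ D.M, ∀ x ∈ K, m * x * m⁻¹ ∈ K) (hUK : D.U ≤ K)
    {x : G} (hx : x ∈ K) (hxU : x ∉ D.U) : K = O2 D.M :=
  A.inp.op.irrM A.hU A.hS hK hKM hUK hx hxU

/-- `Z(O₂(M)) ≤ U` -/
theorem Z_O {x : G} (hx : x ∈ O2 D.M) (hc : ∀ o ∈ O2 D.M, x * o = o * x) : x ∈ D.U := by
  by_contra hxU
  have h1 := A.irr (K := O2 D.M ⊓ centralizer (O2 D.M : Set G)) inf_le_left (by
    rintro m hm y ⟨hy1, hy2⟩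
    refine ⟨A.F.O_conj m hm y hy1, mem_centralizer_iff.2 fun o ho => ?_⟩
    have h2 := mem_centralizer_iff.1 hy2 _ (A.F.O_conj m⁻¹ (D.M.inv_mem hm) o ho)
    calc o * (m * y * m⁻¹) = m * ((m⁻¹ * o * m⁻¹⁻¹) * y) * m⁻¹ := by group
      _ = m * y * m⁻¹ * o := by rw [h2]; group)
    (fun u hu => mem_inf.2 ⟨A.F.U_O hu, mem_centralizer_iff.2 fun o ho => A.F.O_U o ho u hu⟩)
    (x := x) (mem_inf.2 ⟨hx, mem_centralizer_iff.2 fun o ho => (hc o ho).symm⟩) hxU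
  obtain ⟨g, hg, h, hh, hne⟩ := hnab A.F A.B A.hk
  apply hne
  rw [← A.O_eq] at hg hh
  rw [← h1] at hg
  exact (mem_centralizer_iff.1 hg.2 h hh).symm

/-- **`O₂(C_G(z)) = O₂(M)`** -/
theorem O_z : O2 (centralizer {D.z}) = O2 D.M := by
  have hSz : (S : Subgroup G) ≤ centralizer {D.z} := A.S_M.trans A.M_cz
  have h1 : O2 (centralizer {D.z}) ≤ (S : Subgroup G) := HTwo.Par.O2_le_sylow S hSz
  have hn : ∀ m ∈ D.M, ∀ x ∈ O2 (centralizer {D.z}), m * x * m⁻¹ ∈ O2 (centralizer {D.z}) := fun m hm x hx =>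
    conj_mem_of_normalizer (le_normalizer_O2 _ (A.M_cz hm)) hx
  have h2 : O2 (centralizer {D.z}) ≤ O2 D.M :=
    le_O2_of_normal (h1.trans A.S_M) (O2_isPGroup _) hn
  have hr : D.r 0 ∈ O2 (centralizer {D.z}) := by
    refine A.cz _ D.z_r.symm fun o ho => ?_
    exact (A.S_r o (h1 ho)).symm
  have hU : D.U ≤ O2 (centralizer {D.z}) := by
    unfold U gn
    rw [closure_le]
    rintro _ ⟨m, hm, rfl⟩
    exact hn m hm _ hr
  by_cases h : ∃ x ∈ O2 (centralizer {D.z}), x ∉ D.U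
  · obtain ⟨x, hx, hxU⟩ := h
    exact A.irr h2 hn hU hx hxU
  · exfalso
    push Not at h
    obtain ⟨n, hn1, hn2⟩ := hk' A.hk
    apply hn2
    apply h
    have h3 := D.mem_NO.1 hn1
    refine A.cz n (D.N_z h3.1) fun o ho => h3.2 o (h o ho)

/-- `C_{H₁}(N₁)` is a 2-group -/
theorem K1_pow {k : G} (hk : k * D.r 0 = D.r 0 * k) (hkN : ∀ n ∈ gen (D.r 0) D.z, k * n = n * k) :
    ∃ i : ℕ, k ^ 2 ^ i = 1 := by
  have hkz : k * D.z = D.z * k := hkN _ (self_mem_gen _ _)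
  have hkM : k ∈ D.M := D.M_r k hk hkz
  have hne : (A.inp.op.T (ve (A.inp.op.res.Δ_U _ A.inp.op.r_Δ))).range ≠ ⊥ := by
    intro hbot
    obtain ⟨n, hn1, hn2⟩ := hk' A.hk
    have hn3 : A.inp.op.NU (D.r 0) n := A.inp.NU_iff.2 hn1
    have h1 := (A.inp.op.mem_range A.inp.op.r_Δ (A.inp.op.cl n)).2 ⟨n, hn3, rfl⟩
    rw [hbot, AddSubgroup.mem_bot, A.inp.op.cl_eq_zero (A.inp.op.NU_Γ D.r0_Δ hn3)] at h1
    exact hn2 h1
  have h4 : ∀ u ∈ D.U, (k * k) * (k * k) * u = u * ((k * k) * (k * k)) := by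
    intro u hu
    refine A.inp.op.pow_four hne hkM hk (fun n hn => ?_) hu
    have h1 : n ∈ gen (D.r 0) D.z := (D.mem_NO.1 (A.inp.NU_iff.1 hn)).1
    have e : k * n * k⁻¹ * n⁻¹ = 1 := by rw [hkN n h1]; group
    rw [e]
    exact one_mem _
  have hk2 := D.M.mul_mem (D.M.mul_mem hkM hkM) (D.M.mul_mem hkM hkM)
  have h5 := A.KM hk2 h4
  obtain ⟨i, hi⟩ := O2_isPGroup D.M ⟨_, h5⟩
  have hi' : (k * k * (k * k)) ^ 2 ^ i = 1 := congrArg Subtype.val hi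
  refine ⟨i + 2, ?_⟩
  have e : k * k * (k * k) = k ^ 4 := by
    rw [pow_succ, pow_succ, pow_succ, pow_one]; group
  rw [e, ← pow_mul] at hi'
  rw [pow_add, mul_comm]
  exact hi'

end FF

end TS

end Cfsg.Agent.Omega.HOneTwo.Trans
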