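import Cfsg.Agent.Mrg.Omega.HOneTwo.OpInst


/-!
# II.0h1, `q = 2`, F4-type: consequences of (20) of #16429 on operator systems

* `OpSys.hyp_at`, `OpSys.frame` : orthogonal hyperbolic pairs through a given pair;
* `OpSys.card_two` : `|T_s T_r Σ_q| = 2` if `|Σ_q| = 16`;
* `OpSys.fix_of_comm` : a map commuting with all `T_v` is trivial;
* `OpSys.irr` : `S` is irreducible under the `T_v`;
* `OpD.KM_O` : `C_M(U) = O₂(M)`, `OpD.irrM` : `M` is irreducible on `O₂(M) / U`.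
-/

set_option autoImplicit false
set_option linter.unusedSectionVars false
set_option linter.dupNamespace false

namespace Cfsg.Agent.Omega.HOneTwo.OpSys

namespace OpSys

variable {E S : Type*} [AddCommGroup E] [AddCommGroup S] {f : E → E → ZMod 2} {T : E → S →+ S}

/-- one step of the descent, at a given hyperbolic pair -/
theorem hyp_at [Finite E] (h : OpSys f T) (R : AddSubgroup E) (hR : ∀ c ∈ R, ∀ e, f e c = 0) (n : ℕ)
    (D : AddSubgroup E) (hD : ∀ d ∈ D, d ∉ R → ∃ d' ∈ D, f d d' = 1) (hRD : R ≤ D)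
    (hc : Nat.card D = 4 ^ (n + 1) * Nat.card R) {r r' : E} (hrD : r ∈ D) (hrD' : r' ∈ D) (hrr : f r r' = 1) :
    ∃ D' : AddSubgroup E, D' ≤ D ∧ (∀ d ∈ D', f r d = 0 ∧ f r' d = 0) ∧
      (∀ d ∈ D', d ∉ R → ∃ d' ∈ D', f d d' = 1) ∧ R ≤ D' ∧ Nat.card D' = 4 ^ n * Nat.card R := by
  have hrr' : f r' r = 1 := by rw [h.symm]; exact hrr
  let φ : D →+ ZMod 2 × ZMod 2 :=
    { toFun := fun d => (f r d, f r' d)
      map_zero' := by
        have z1 : f r 0 = 0 := by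
          have := h.addr 0 0 r; simp at this; exact this
        have z2 : f r' 0 = 0 := by
          have := h.addr 0 0 r'; simp at this; exact this
        simp [z1, z2]
      map_add' := by
        intro x y
        simp [h.addr] }
  have hφ : Function.Surjective φ := by
    have e1 : φ ⟨r, hrD⟩ = (0, 1) := by
      show (f r r, f r' r) = (0, 1); rw [h.alt, hrr']
    have e2 : φ ⟨r', hrD'⟩ = (1, 0) := by
      show (f r r', f r' r') = (1, 0); rw [h.alt, hrr]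
    rintro ⟨a, b⟩
    rcases z2 a with rfl | rfl <;> rcases z2 b with rfl | rfl
    · exact ⟨0, map_zero φ⟩
    · exact ⟨_, e1⟩
    · exact ⟨_, e2⟩
    · refine ⟨⟨r, hrD⟩ + ⟨r', hrD'⟩, ?_⟩
      rw [map_add, e1, e2]; rfl
  let D' : AddSubgroup E := φ.ker.map D.subtype
  have memD' : ∀ d, d ∈ D' ↔ d ∈ D ∧ f r d = 0 ∧ f r' d = 0 := by
    intro d
    constructor
    · rintro ⟨⟨e, he⟩, hk, rfl⟩
      have hk' : φ ⟨e, he⟩ = 0 := hk
      exact ⟨he, congrArg Prod.fst hk', congrArg Prod.snd hk'⟩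
    · rintro ⟨hd, h1, h2⟩
      refine ⟨⟨d, hd⟩, ?_, rfl⟩
      show φ ⟨d, hd⟩ = 0
      exact Prod.ext h1 h2
  have cD' : Nat.card D' = 4 ^ n * Nat.card R := by
    have c1 : Nat.card D' = Nat.card φ.ker :=
      Nat.card_congr (φ.ker.equivMapOfInjective D.subtype D.subtype_injective).symm.toEquiv
    have c2 : Nat.card D = Nat.card (D ⧸ φ.ker) * Nat.card φ.ker :=
      AddSubgroup.card_eq_card_quotient_mul_card_addSubgroup φ.ker
    have c3 : Nat.card (D ⧸ φ.ker) = 4 := by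
      rw [Nat.card_congr (QuotientAddGroup.quotientKerEquivOfSurjective φ hφ).toEquiv]
      simp
    rw [c3, hc, pow_succ] at c2
    rw [c1]
    have : 4 * Nat.card φ.ker = 4 * (4 ^ n * Nat.card R) := by rw [← c2]; ring
    exact Nat.eq_of_mul_eq_mul_left (by norm_num) this
  refine ⟨D', fun d hd => ((memD' d).1 hd).1, fun d hd => ((memD' d).1 hd).2, ?_,
    fun c hcR => (memD' c).2 ⟨hRD hcR, hR c hcR r, hR c hcR r'⟩, cD'⟩
  intro d hd hdR
  obtain ⟨hdD, hrd, hrd'⟩ := (memD' d).1 hd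
  obtain ⟨e, he, hde⟩ := hD d hdD hdR
  have hdr : f d r = 0 := by rw [h.symm]; exact hrd
  have hdr' : f d r' = 0 := by rw [h.symm]; exact hrd'
  rcases z2 (f r e) with a | a <;> rcases z2 (f r' e) with b | b
  · exact ⟨e, (memD' e).2 ⟨he, a, b⟩, hde⟩
  · refine ⟨e + r, (memD' _).2 ⟨D.add_mem he hrD, ?_, ?_⟩, ?_⟩
    · rw [h.addr, a, h.alt, add_zero]
    · rw [h.addr, b, hrr']; decide
    · rw [h.addr, hde, hdr, add_zero]
  · refine ⟨e + r', (memD' _).2 ⟨D.add_mem he hrD', ?_, ?_⟩, ?_⟩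
    · rw [h.addr, a, hrr]; decide
    · rw [h.addr, b, h.alt, add_zero]
    · rw [h.addr, hde, hdr', add_zero]
  · refine ⟨e + r + r', (memD' _).2 ⟨D.add_mem (D.add_mem he hrD) hrD', ?_, ?_⟩, ?_⟩
    · rw [h.addr, h.addr, a, h.alt, hrr]; decide
    · rw [h.addr, h.addr, b, h.alt, hrr']; decide
    · rw [h.addr, h.addr, hde, hdr, hdr', add_zero, add_zero]

/-- two orthogonal hyperbolic pairs, orthogonal to `q` -/
theorem frame [Finite E] (h : OpSys f T) (R : AddSubgroup E) (hR : ∀ c, c ∈ R ↔ ∀ e, f e c = 0)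
    (hc : Nat.card E = 4 ^ 3 * Nat.card R) {p q : E} (hpq : f p q = 1) : ∃ r r' s s', f q r = 0 ∧ f q r' = 0 ∧
      f r r' = 1 ∧ f q s = 0 ∧ f q s' = 0 ∧ f s s' = 1 ∧ f r s = 0 ∧ f r s' = 0 ∧ f r' s = 0 ∧ f r' s' = 0 := by
  obtain ⟨D1, -, h1, h2, h3, h4⟩ := h.hyp_at R (fun c hc => (hR c).1 hc) 2 ⊤ (h.top_props R hR) le_top
    (by rw [← hc]; simp) trivial trivial hpq
  obtain ⟨r, hr, r', hr', hrr, D2, hD2, k1, k2, k3, k4⟩ := h.hyp R (fun c hc => (hR c).1 hc) 1 D1 h2 h3 h4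
  obtain ⟨s, hs, s', hs', hss, -⟩ := h.hyp R (fun c hc => (hR c).1 hc) 0 D2 k2 k3 k4
  exact ⟨r, r', s, s', (h1 r hr).2, (h1 r' hr').2, hrr, (h1 s (hD2 hs)).2, (h1 s' (hD2 hs')).2, hss,
    (k1 s hs).1, (k1 s' hs').1, (k1 s hs).2, (k1 s' hs').2⟩

section two

variable (h : OpSys f T) {q r r' s s' : E} (hr : f q r = 0) (hr' : f q r' = 0) (hrr : f r r' = 1)
  (hs : f q s = 0) (hs' : f q s' = 0) (hss : f s s' = 1) (rs : f r s = 0) (rs' : f r s' = 0)

include h hr hr' hrr hs hs' hss rs rs'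

/-- `|T_s T_r Σ_q| = 2` -/
theorem card_two (h16 : Nat.card (T q).range = 16) :
    Nat.card (((T q).range.map (T r)).map (T s)) = 2 := by
  have e1 := h.card_sq hr hr' hrr (T q).range le_rfl (fun x hx => h.mem_of_comm hr hx)
    (fun x hx => h.mem_of_comm hr' hx)
  have hle : (T q).range.map (T r) ≤ (T q).range := by
    rintro _ ⟨x, hx, rfl⟩; exact h.mem_of_comm hr hx
  have e2 := h.card_sq hs hs' hss ((T q).range.map (T r)) hle
    (by
      rintro _ ⟨x, hx, rfl⟩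
      exact ⟨T s x, h.mem_of_comm hs hx, h.comm r s rs x⟩)
    (by
      rintro _ ⟨x, hx, rfl⟩
      exact ⟨T s' x, h.mem_of_comm hs' hx, h.comm r s' rs' x⟩)
  rw [h16] at e1
  have e3 : Nat.card ((T q).range.map (T r)) = 4 :=
    Nat.pow_left_injective (n := 2) (by norm_num) (show _ ^ 2 = 4 ^ 2 by rw [← e1])
  rw [e3] at e2
  exact Nat.pow_left_injective (n := 2) (by norm_num) (show _ ^ 2 = 2 ^ 2 by rw [← e2])

/-- the only nonzero vector -/
theorem eq_of_two (h16 : Nat.card (T q).range = 16) {x y : S} (hx : x ∈ (T q).range) (hy : y ∈ (T q).range)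
    (hx0 : T s (T r x) ≠ 0) (hy0 : T s (T r y) ≠ 0) : T s (T r x) = T s (T r y) := by
  have h2 := h.card_two hr hr' hrr hs hs' hss rs rs' h16
  by_contra hne
  have hfin : Finite (((T q).range.map (T r)).map (T s)) := Nat.finite_of_card_ne_zero (by rw [h2]; norm_num)
  have hsub : ({0, T s (T r x), T s (T r y)} : Set S) ⊆ (((T q).range.map (T r)).map (T s) : Set S) := by
    rintro w (hw | hw | hw)
    · rw [hw]; exact AddSubgroup.zero_mem _
    · rw [hw]; exact ⟨T r x, ⟨x, hx, rfl⟩, rfl⟩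
    · rw [Set.mem_singleton_iff] at hw; rw [hw]; exact ⟨T r y, ⟨y, hy, rfl⟩, rfl⟩
  have h3 := Set.ncard_le_ncard hsub (Set.toFinite _)
  have h4 : ({0, T s (T r x), T s (T r y)} : Set S).ncard = 3 := by
    rw [Set.ncard_eq_three]
    exact ⟨0, _, _, hx0.symm, hy0.symm, hne, rfl⟩
  rw [h4] at h3
  have h5 : (((T q).range.map (T r)).map (T s) : Set S).ncard = 2 := h2
  omega

/-- the vectors of `T_s T_r Σ_q` are fixed by every map commuting with the `T_v` -/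
theorem fix_two (h16 : Nat.card (T q).range = 16) {k : S →+ S} (hk0 : ∀ x, k x = 0 → x = 0)
    (hk : ∀ v x, k (T v x) = T v (k x)) {x : S} (hx : x ∈ (T q).range) :
    k (T s (T r x)) = T s (T r x) := by
  by_cases hx0 : T s (T r x) = 0
  · rw [hx0, map_zero]
  have hkx : k x ∈ (T q).range := by
    obtain ⟨y, rfl⟩ := hx
    exact ⟨k y, (hk q y).symm⟩
  have e : k (T s (T r x)) = T s (T r (k x)) := by rw [hk, hk]
  rw [e]
  refine h.eq_of_two hr hr' hrr hs hs' hss rs rs' h16 hkx hx ?_ hx0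
  rw [← e]
  exact fun h0 => hx0 (hk0 _ h0)

end two

/-- decomposition of `x ∈ Σ_q` along two orthogonal hyperbolic pairs -/
theorem split_two (h : OpSys f T) {q r r' s s' : E} (hr : f q r = 0) (hr' : f q r' = 0) (hrr : f r r' = 1)
    (hs : f q s = 0) (hs' : f q s' = 0) (hss : f s s' = 1) (rs : f r s = 0) (rs' : f r s' = 0) (rs1 : f r' s = 0)
    (rs1' : f r' s' = 0) {x : S} (hx : x ∈ (T q).range) :
    x = T s (T r (T s' (T r' x))) + T s' (T r (T s (T r' x))) +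
      (T s (T r' (T s' (T r x))) + T s' (T r' (T s (T r x)))) := by
  have a1 := h.mem_of_comm hr (h.mem_of_comm hr' hx)
  have a2 := h.mem_of_comm hr' (h.mem_of_comm hr hx)
  have e1 := h.split hr hr' hrr hx
  have e2 := h.split hs hs' hss a1
  have e3 := h.split hs hs' hss a2
  have c1 : T s (T s' (T r (T r' x))) = T s (T r (T s' (T r' x))) := by rw [h.comm r s' rs']
  have c2 : T s' (T s (T r (T r' x))) = T s' (T r (T s (T r' x))) := by rw [h.comm r s rs]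
  have c3 : T s (T s' (T r' (T r x))) = T s (T r' (T s' (T r x))) := by rw [h.comm r' s' rs1']
  have c4 : T s' (T s (T r' (T r x))) = T s' (T r' (T s (T r x))) := by rw [h.comm r' s rs1]
  rw [← c1, ← c2, ← c3, ← c4, ← e2, ← e3, ← e1]

/-- **a map commuting with all `T_v` is trivial** -/
theorem fix_of_comm [Finite E] (h : OpSys f T) (gen : ∀ W : AddSubgroup S, (∀ v, (T v).range ≤ W) → W = ⊤)
    (R : AddSubgroup E) (hR : ∀ c, c ∈ R ↔ ∀ e, f e c = 0) (hc : Nat.card E = 4 ^ 3 * Nat.card R)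
    (h256 : Nat.card S = 256) {k : S →+ S} (hk0 : ∀ x, k x = 0 → x = 0)
    (hk : ∀ v x, k (T v x) = T v (k x)) (x : S) : k x = x := by
  have key : ∀ q, ∀ x ∈ (T q).range, k x = x := by
    intro q x hx
    by_cases hq : ∀ w, f q w = 0
    · obtain ⟨y, rfl⟩ := hx
      rw [h.rad q hq, map_zero]
    push Not at hq
    obtain ⟨p, hp⟩ := hq
    have hpq : f p q = 1 := by rw [h.symm]; exact (z2 _).resolve_left hp
    have h16 : Nat.card (T q).range = 16 := by
      have e1 := h.card_S gen hpq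
      rw [h256] at e1
      exact Nat.pow_left_injective (n := 2) (by norm_num) (show _ ^ 2 = 16 ^ 2 by rw [← e1])
    obtain ⟨r, r', s, s', hr, hr', hrr, hs, hs', hss, rs, rs', rs1, rs1'⟩ := h.frame R hR hc hpq
    have hrr1 : f r' r = 1 := by rw [h.symm]; exact hrr
    have hss1 : f s' s = 1 := by rw [h.symm]; exact hss
    have b1 := h.fix_two hr hr' hrr hs hs' hss rs rs' h16 hk0 hk (h.mem_of_comm hs' (h.mem_of_comm hr' hx))
    have b2 := h.fix_two hr hr' hrr hs' hs hss1 rs' rs h16 hk0 hk (h.mem_of_comm hs (h.mem_of_comm hr' hx))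
    have b3 := h.fix_two hr' hr hrr1 hs hs' hss rs1 rs1' h16 hk0 hk (h.mem_of_comm hs' (h.mem_of_comm hr hx))
    have b4 := h.fix_two hr' hr hrr1 hs' hs hss1 rs1' rs1 h16 hk0 hk (h.mem_of_comm hs (h.mem_of_comm hr hx))
    have e := h.split_two hr hr' hrr hs hs' hss rs rs' rs1 rs1' hx
    conv_lhs => rw [e]
    rw [map_add, map_add, map_add, b1, b2, b3, b4, ← e]
  let W : AddSubgroup S :=
    { carrier := {x | k x = x}
      zero_mem' := map_zero k
      add_mem' := by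
        intro a b ha hb
        show k (a + b) = a + b
        rw [map_add, show k a = a from ha, show k b = b from hb]
      neg_mem' := by
        intro a ha
        show k (-a) = -a
        rw [map_neg, show k a = a from ha] }
  have hW := gen W (fun v x hx => key v x hx)
  have : x ∈ W := by rw [hW]; trivial
  exact this

/-- **`S` is irreducible** -/
theorem irr [Finite E] (h : OpSys f T) (gen : ∀ W : AddSubgroup S, (∀ v, (T v).range ≤ W) → W = ⊤)
    (R : AddSubgroup E) (hR : ∀ c, c ∈ R ↔ ∀ e, f e c = 0) (hc : Nat.card E = 4 ^ 3 * Nat.card R)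
    (h256 : Nat.card S = 256) (W : AddSubgroup S) (hW : ∀ v, ∀ x ∈ W, T v x ∈ W) {x : S} (hx : x ∈ W)
    (hx0 : x ≠ 0) : W = ⊤ := by
  have ex : ∃ q, T q x ≠ 0 := by
    by_contra hcon
    push Not at hcon
    exact hx0 (h.ker x hcon)
  obtain ⟨q, hq0⟩ := ex
  have hqr : ¬ ∀ w, f q w = 0 := fun hq => hq0 (h.rad q hq x)
  push Not at hqr
  obtain ⟨p, hp⟩ := hqr
  have hpq : f p q = 1 := by rw [h.symm]; exact (z2 _).resolve_left hp
  have h16 : Nat.card (T q).range = 16 := by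
    have e1 := h.card_S gen hpq
    rw [h256] at e1
    exact Nat.pow_left_injective (n := 2) (by norm_num) (show _ ^ 2 = 16 ^ 2 by rw [← e1])
  obtain ⟨r, r', s, s', hr, hr', hrr, hs, hs', hss, rs, rs', rs1, rs1'⟩ := h.frame R hR hc hpq
  have hrr1 : f r' r = 1 := by rw [h.symm]; exact hrr
  have hss1 : f s' s = 1 := by rw [h.symm]; exact hss
  have sr : f s r = 0 := by rw [h.symm]; exact rs
  have sr' : f s r' = 0 := by rw [h.symm]; exact rs1
  have sr1 : f s' r = 0 := by rw [h.symm]; exact rs'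
  have sr1' : f s' r' = 0 := by rw [h.symm]; exact rs1'
  -- a nonzero vector of `W ∩ Σ_q`
  have hy : T q x ∈ W := hW q x hx
  have hyq : T q x ∈ (T q).range := ⟨x, rfl⟩
  -- one of the four lines is in `W`
  have step1 : ∃ y ∈ W, y ∈ (T q).range ∧ T r y ≠ 0 := by
    by_cases h1 : T r (T q x) = 0
    · have h2 : T r' (T q x) ≠ 0 := fun h2 => hq0 (h.lemE hr hr' hrr hyq h1 h2)
      refine ⟨T r' (T q x), hW _ _ hy, h.mem_of_comm hr' hyq, fun h3 => h2 ?_⟩
      rw [← h.tri r' r hrr1, h3, map_zero]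
    · exact ⟨_, hy, hyq, h1⟩
  obtain ⟨y, hyW, hyq, hy0⟩ := step1
  have step2 : ∃ y ∈ W, y ∈ (T q).range ∧ T s (T r y) ≠ 0 := by
    have hyr := h.mem_of_comm hr hyq
    by_cases h1 : T s (T r y) = 0
    · have h2 : T s' (T r y) ≠ 0 := fun h2 => hy0 (h.lemE hs hs' hss hyr h1 h2)
      refine ⟨T s' y, hW _ _ hyW, h.mem_of_comm hs' hyq, fun h3 => h2 ?_⟩
      rw [h.comm r s' rs'] at h3
      rw [← h.tri s' s hss1, h3, map_zero]
    · exact ⟨_, hyW, hyq, h1⟩
  obtain ⟨y, hyW, hyq, hy0⟩ := step2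
  -- all four lines are in `W`
  have w1 : ∀ z ∈ (T q).range, T s (T r z) ∈ W := by
    intro z hz
    by_cases h0 : T s (T r z) = 0
    · rw [h0]; exact W.zero_mem
    · rw [h.eq_of_two hr hr' hrr hs hs' hss rs rs' h16 hz hyq h0 hy0]
      exact hW _ _ (hW _ _ hyW)
  have w2 : ∀ z ∈ (T q).range, T s' (T r z) ∈ W := by
    intro z hz
    have h1 := w1 _ (h.mem_of_comm hs' hz)
    have h2 := hW s' _ h1
    rwa [h.comm r s' rs', h.tri s' s hss1] at h2
  have w3 : ∀ z ∈ (T q).range, T s (T r' z) ∈ W := by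
    intro z hz
    have h1 := w1 _ (h.mem_of_comm hr' hz)
    have h2 := hW r' _ h1
    rwa [h.comm r' s rs1, h.tri r' r hrr1] at h2
  have w4 : ∀ z ∈ (T q).range, T s' (T r' z) ∈ W := by
    intro z hz
    have h1 := w2 _ (h.mem_of_comm hr' hz)
    have h2 := hW r' _ h1
    rwa [h.comm r' s' rs1', h.tri r' r hrr1] at h2
  have hSq : (T q).range ≤ W := by
    intro z hz
    rw [h.split_two hr hr' hrr hs hs' hss rs rs' rs1 rs1' hz]
    exact W.add_mem (W.add_mem (w1 _ (h.mem_of_comm hs' (h.mem_of_comm hr' hz)))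
      (w2 _ (h.mem_of_comm hs (h.mem_of_comm hr' hz))))
      (W.add_mem (w3 _ (h.mem_of_comm hs' (h.mem_of_comm hr hz)))
      (w4 _ (h.mem_of_comm hs (h.mem_of_comm hr hz))))
  have hqp : f q p = 1 := by rw [h.symm]; exact hpq
  have hSp : (T p).range ≤ W := by
    rintro _ ⟨z, rfl⟩
    rw [← h.tri p q hpq z]
    exact hW _ _ (hSq ⟨_, rfl⟩)
  have h1 := h.sum gen hpq
  rw [eq_top_iff, ← h1]
  exact sup_le hSp hSq

end OpSys

end Cfsg.Agent.Omega.HOneTwo.OpSys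

namespace Cfsg.Agent.Omega.HOneTwo.OpInst

open Subgroup Cfsg.Agent.Omega.BTwo Cfsg.Agent.Omega.HTwo.Eight Cfsg.Agent.Omega.HOneTwo.OpSys

universe u

variable {G : Type u} [Group G]

namespace OpD

variable (D : OpD G) [Finite G]

/-- elements of `C_M(p)` normalise `N_p`; `k ∈ M` maps `T_u` to `T_{k u k⁻¹}` -/
theorem act_TT {k u : G} (hk : k ∈ D.M) (hu : u ∈ D.U) (s : D.S) :
    D.act k (D.TT u s) = D.TT (k * u * k⁻¹) (D.act k s) := by
  have hz : k * D.z * k⁻¹ = D.z := by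
    have := D.res.M_z hk
    rw [mem_Cp] at this
    rw [this, mul_inv_cancel_right]
  have main : ∀ p ∈ D.Δ, D.act k (D.T₀ p s) = D.T₀ (k * p * k⁻¹) (D.act k s) := by
    intro p hp
    have htM := D.res.t_M hp
    have hkp := D.res.Δ_M k hk p hp
    rw [T₀_eq, T₀_eq, map_add]
    congr 1
    have h1 : k * D.t p * k⁻¹ ∈ Np D.z (k * p * k⁻¹) := by
      rw [← cj_Np (D.res.M_z hk)]
      exact conj_mem_cj (D.res.t_N hp)
    rw [← D.act_mv hkp h1 (D.res.conj_mv hk (D.res.t_mv hp)), ← D.act_mul hk htM,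
      ← D.act_mul (mul_mem (mul_mem hk htM) (inv_mem hk)) hk]
    congr 2
    group
  rcases D.res.cover u hu with rfl | rfl | h | h
  · rw [mul_one, mul_inv_cancel, D.TT_one]
    show D.act k 0 = 0
    rw [map_zero]
  · rw [hz, D.TT_z]
    show D.act k 0 = 0
    rw [map_zero]
  · rw [D.TT_Δ h, D.TT_Δ (D.res.Δ_M k hk u h), main u h]
  · have e : k * (u * D.z) * k⁻¹ = k * u * k⁻¹ * D.z := by
      calc k * (u * D.z) * k⁻¹ = k * u * k⁻¹ * (k * D.z * k⁻¹) := by group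
        _ = _ := by rw [hz]
    have h2 := main _ h
    rw [e] at h2
    have h3 := D.res.Δ_M k hk _ h
    rw [e] at h3
    rw [← D.TT_mulz hu, D.TT_Δ h, h2, ← D.TT_Δ h3, D.TT_mulz (D.res.U_M k hk u hu)]

theorem act_zero {k : G} (hk : k ∈ D.M) {s : D.S} (h : D.act k s = 0) : s = 0 := by
  have h1 := D.act_mul (inv_mem hk) hk s
  rw [inv_mul_cancel, D.act_one, h, map_zero] at h1
  exact h1

theorem R_E {n : ℕ} (hU : Nat.card D.U = 2 * n) : Nat.card D.E = n * Nat.card D.R := by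
  rw [card_R, card_E, hU]; ring

/-- `C_M(U)` acts trivially on `S` -/
theorem KM_act (hU : Nat.card D.U = 2 * 4 ^ 3) (hS : Nat.card D.S = 256) {k : G} (hk : k ∈ D.M)
    (hkU : ∀ u ∈ D.U, k * u = u * k) (s : D.S) : D.act k s = s := by
  refine D.ops.fix_of_comm D.gen D.R (fun c => D.mem_R) (D.R_E hU) hS (fun x hx => D.act_zero hk hx)
    (fun v x => ?_) s
  show D.act k (D.TT (el v) x) = D.TT (el v) (D.act k x)
  rw [D.act_TT hk (el_mem v), hkU _ (el_mem v), mul_inv_cancel_right]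

/-- **`C_M(U) = O₂(M)`** -/
theorem KM_O (hU : Nat.card D.U = 2 * 4 ^ 3) (hS : Nat.card D.S = 256)
    (hc : ∀ g ∈ D.M, (∀ o ∈ O2 D.M, g * o = o * g) → g ∈ O2 D.M) {k : G} (hk : k ∈ D.M)
    (hkU : ∀ u ∈ D.U, k * u = u * k) : k ∈ O2 D.M := by
  have hO : O2 D.M = D.Γ := D.O_eq (n := 0) hU
  -- the square of an element of `C_M(U)` centralises `O₂(M)`
  have sq : ∀ k ∈ D.M, (∀ u ∈ D.U, k * u = u * k) → k * k ∈ O2 D.M := by
    intro k hk hkU
    refine hc _ (mul_mem hk hk) fun o ho => ?_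
    rw [hO] at ho
    have h1 := D.KM_act hU hS hk hkU (D.cl o)
    rw [D.act_cl hk ho, D.cl_eq_iff (D.Γ_conj hk ho) ho] at h1
    have h2 := inv_mem h1
    have e : ((k * o * k⁻¹)⁻¹ * o)⁻¹ = o⁻¹ * (k * o * k⁻¹) := by group
    rw [e] at h2
    obtain ⟨a, ha⟩ : ∃ a, a = o⁻¹ * (k * o * k⁻¹) := ⟨_, rfl⟩
    rw [← ha] at h2
    have e1 : k * o * k⁻¹ = o * a := by rw [ha]; group
    have e3 : k * a * k⁻¹ = a := by rw [hkU a h2, mul_inv_cancel_right]
    have e2 : k * k * o * (k * k)⁻¹ = o := by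
      calc k * k * o * (k * k)⁻¹ = k * (k * o * k⁻¹) * k⁻¹ := by group
        _ = k * (o * a) * k⁻¹ := by rw [e1]
        _ = (k * o * k⁻¹) * (k * a * k⁻¹) := by group
        _ = o * (a * a) := by rw [e1, e3, mul_assoc]
        _ = o := by rw [D.res.U_sq a h2, mul_one]
    rwa [mul_inv_eq_iff_eq_mul] at e2
  have hK : D.M ⊓ centralizer (D.U : Set G) ≤ O2 D.M := by
    refine le_O2_of_normal inf_le_left ?_ ?_
    · intro x
      obtain ⟨hx1, hx2⟩ := x.2
      have h1 := sq _ hx1 (fun u hu => ((mem_centralizer_iff.1 hx2) u hu).symm)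
      obtain ⟨n, hn⟩ := O2_isPGroup D.M ⟨_, h1⟩
      refine ⟨n + 1, Subtype.ext ?_⟩
      have h2 := congrArg Subtype.val hn
      rw [pow_succ', pow_mul, pow_two]
      exact h2
    · rintro g hg a ⟨ha1, ha2⟩
      refine ⟨D.M.mul_mem (D.M.mul_mem hg ha1) (D.M.inv_mem hg), mem_centralizer_iff.2 fun u hu => ?_⟩
      exact (D.cen_conj hg (fun u hu => ((mem_centralizer_iff.1 ha2) u hu).symm) u hu).symm
  exact hK ⟨hk, mem_centralizer_iff.2 fun u hu => (hkU u hu).symm⟩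

/-- **`M` is irreducible on `O₂(M) / U`** -/
theorem irrM (hU : Nat.card D.U = 2 * 4 ^ 3) (hS : Nat.card D.S = 256) {K : Subgroup G} (hK : K ≤ O2 D.M)
    (hKM : ∀ m ∈ D.M, ∀ x ∈ K, m * x * m⁻¹ ∈ K) (hUK : D.U ≤ K) {x : G} (hx : x ∈ K) (hxU : x ∉ D.U) :
    K = O2 D.M := by
  have hO : O2 D.M = D.Γ := D.O_eq (n := 0) hU
  have hKG : K ≤ D.Γ := hO ▸ hK
  let W : AddSubgroup D.S :=
    { carrier := {s | ∃ x ∈ K, D.cl x = s}
      zero_mem' := ⟨1, one_mem _, D.cl_one⟩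
      add_mem' := by
        rintro _ _ ⟨a, ha, rfl⟩ ⟨b, hb, rfl⟩
        exact ⟨a * b, mul_mem ha hb, D.cl_mul (hKG ha) (hKG hb)⟩
      neg_mem' := by
        rintro _ ⟨a, ha, rfl⟩
        refine ⟨a, ha, ?_⟩
        exact (neg_eq_of_add_eq_zero_left (D.twoS (D.cl a))).symm }
  have hT : ∀ v, ∀ s ∈ W, D.T v s ∈ W := by
    rintro v _ ⟨a, ha, rfl⟩
    have h0 : ∀ p ∈ D.Δ, D.T₀ p (D.cl a) ∈ W := by
      intro p hp
      have htM := D.res.t_M hp
      rw [T₀_eq, D.act_cl htM (hKG ha)]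
      exact W.add_mem ⟨a, ha, rfl⟩ ⟨_, hKM _ htM a ha, rfl⟩
    show D.TT (el v) (D.cl a) ∈ W
    rcases D.cases (el_mem v) with ⟨-, h, -⟩ | ⟨p, hp, -, h2, -⟩
    · rw [h]; exact W.zero_mem
    · rw [h2]; exact h0 p hp
  have h1 := D.ops.irr D.gen D.R (fun c => D.mem_R) (D.R_E hU) hS W hT (x := D.cl x) ⟨x, hx, rfl⟩
    (fun h => hxU ((D.cl_eq_zero (hKG hx)).1 h))
  apply le_antisymm hK
  intro y hy
  rw [hO] at hy
  have h2 : D.cl y ∈ W := by rw [h1]; trivial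
  obtain ⟨a, ha, hay⟩ := h2
  have h3 := (D.cl_eq_iff (hKG ha) hy).1 hay
  have h4 := mul_mem ha (hUK h3)
  rwa [mul_inv_cancel_left] at h4

/-! ### `k` trivial on `Σ_r` -/

omit [Finite G] in
/-- `(p^⟂)^⟂ = ⟨p, z⟩` -/
theorem perp_perp {p w : G} (hp : p ∈ D.Δ) (hw : w ∈ D.U) (h : ∀ s ∈ D.U, D.f p s = 0 → D.f s w = 0) :
    w = 1 ∨ w = D.z ∨ w = p ∨ w = p * D.z := by
  have hpU := D.res.Δ_U p hp
  have key : ∀ w ∈ D.U, (∀ s ∈ D.U, D.f p s = 0 → D.f s w = 0) → (∃ q ∈ D.U, D.f p q = 1 ∧ D.f q w = 0) →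
      w = 1 ∨ w = D.z := by
    rintro w hw h ⟨q, hq, h1, h2⟩
    refine D.res.f_rad w hw fun v hv => ?_
    rw [D.res.f_symm w hw v hv]
    rcases OpSys.z2 (D.f p v) with h3 | h3
    · exact h v hv h3
    · have h4 := h (v * q) (mul_mem hv hq) (by
        rw [D.res.f_add' hpU hv hq, h3, h1]; decide)
      rwa [D.res.f_add v hv q hq w hw, h2, add_zero] at h4
  obtain ⟨q, hq, h1⟩ := D.res.exists_q1 hp
  have hqU := D.res.Δ_U q hq
  rcases OpSys.z2 (D.f q w) with h2 | h2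
  · rcases key w hw h ⟨q, hqU, h1, h2⟩ with h3 | h3
    · exact Or.inl h3
    · exact Or.inr (Or.inl h3)
  · have h5 := key (w * p) (mul_mem hw hpU) (fun s hs h3 => by
      rw [D.res.f_add' hs hw hpU, h s hs h3, D.res.f_symm s hs p hpU, h3, add_zero]) ⟨q, hqU, h1, by
      rw [D.res.f_add' hqU hw hpU, h2, D.res.f_symm q hqU p hpU, h1]; decide⟩
    have e : w = w * p * p := by rw [mul_assoc, D.res.U_sq p hpU, mul_one]
    rcases h5 with h5 | h5
    · right; right; left; rw [e, h5, one_mul]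
    · right; right; right; rw [e, h5, D.res.U_comm _ D.res.z_U _ hpU]

/-- `k` trivial on `Σ_r`: `[r^⟂, k] ≤ ⟨r, z⟩` -/
theorem conj_perp (hne : (D.T (ve (D.res.Δ_U _ D.r_Δ))).range ≠ ⊥) {k : G} (hk : k ∈ D.M) (hkr : k * D.r = D.r * k)
    (htr : ∀ n, D.NU D.r n → k * n * k⁻¹ * n⁻¹ ∈ D.U) {s : G} (hs : s ∈ D.U) (h0 : D.f D.r s = 0) :
    s * (k * s * k⁻¹) = 1 ∨ s * (k * s * k⁻¹) = D.z ∨ s * (k * s * k⁻¹) = D.r ∨ s * (k * s * k⁻¹) = D.r * D.z := by
  have hrU := D.res.Δ_U _ D.r_Δ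
  have hks := D.res.U_M k hk s hs
  have hkr' : k * D.r * k⁻¹ = D.r := by rw [hkr, mul_inv_cancel_right]
  have h0' : D.f D.r (k * s * k⁻¹) = 0 := by
    have := D.res.f_M k hk _ hrU s hs
    rw [hkr'] at this
    rw [this, h0]
  -- `k` is trivial on `Σ_r`
  have hact : ∀ x ∈ (D.T (ve hrU)).range, D.act k x = x := by
    intro x hx
    obtain ⟨n, hn, rfl⟩ := (D.mem_range D.r_Δ x).1 hx
    have hnG := D.NU_Γ D.r_Δ hn
    rw [D.act_cl hk hnG, D.cl_eq_iff (D.Γ_conj hk hnG) hnG]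
    have h1 := inv_mem (htr n hn)
    have e : (k * n * k⁻¹)⁻¹ * n = n⁻¹ * (k * n * k⁻¹ * n⁻¹)⁻¹ * n⁻¹⁻¹ := by group
    rw [e]
    exact D.res.U_M _ (inv_mem (D.Γ_M hnG)) _ h1
  refine D.perp_perp D.r_Δ (mul_mem hs hks) fun w hw h1 => ?_
  have h2 := D.ops.inj hne (q := ve hrU) (r := ve hs) (r' := ve hks) (s := ve hw) h0 h0' h1 (fun x hx => by
    have h3 := D.act_TT hk hs x
    have h4 : D.TT s x ∈ (D.T (ve hrU)).range := D.ops.mem_of_comm (q := ve hrU) (r := ve hs) h0 hx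
    rw [hact _ h4, hact x hx] at h3
    exact h3)
  have h3 : D.f w s = D.f w (k * s * k⁻¹) := h2
  rw [D.res.f_add' hw hs hks, h3]
  exact CharTwo.add_self_eq_zero _

/-- `k` trivial on `Σ_r`: `k⁴` centralises `U` -/
theorem pow_four (hne : (D.T (ve (D.res.Δ_U _ D.r_Δ))).range ≠ ⊥) {k : G} (hk : k ∈ D.M) (hkr : k * D.r = D.r * k)
    (htr : ∀ n, D.NU D.r n → k * n * k⁻¹ * n⁻¹ ∈ D.U) {u : G} (hu : u ∈ D.U) :
    (k * k) * (k * k) * u = u * ((k * k) * (k * k)) := by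
  have hrU := D.res.Δ_U _ D.r_Δ
  have hzU := D.res.z_U
  have hkr' : k * D.r * k⁻¹ = D.r := by rw [hkr, mul_inv_cancel_right]
  have hkz : k * D.z * k⁻¹ = D.z := by
    have := D.res.M_z hk
    rw [mem_Cp] at this
    rw [this, mul_inv_cancel_right]
  have hkrz : k * (D.r * D.z) * k⁻¹ = D.r * D.z := by
    calc k * (D.r * D.z) * k⁻¹ = (k * D.r * k⁻¹) * (k * D.z * k⁻¹) := by group
      _ = _ := by rw [hkr', hkz]
  have hsq := D.res.U_sq
  -- `a = [u, k]`
  obtain ⟨a, ha⟩ : ∃ a, a = u * (k * u * k⁻¹) := ⟨_, rfl⟩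
  have haU : a ∈ D.U := by rw [ha]; exact mul_mem hu (D.res.U_M k hk u hu)
  have e1 : k * u * k⁻¹ = u * a := by rw [ha, ← mul_assoc, hsq u hu, one_mul]
  have ha0 : D.f D.r a = 0 := by
    have h1 := D.res.f_M k hk _ hrU u hu
    rw [hkr'] at h1
    rw [ha, D.res.f_add' hrU hu (D.res.U_M k hk u hu), h1]
    exact CharTwo.add_self_eq_zero _
  obtain ⟨b, hb⟩ : ∃ b, b = a * (k * a * k⁻¹) := ⟨_, rfl⟩
  have hbU : b ∈ D.U := by rw [hb]; exact mul_mem haU (D.res.U_M k hk a haU)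
  have e2 : k * a * k⁻¹ = a * b := by rw [hb, ← mul_assoc, hsq a haU, one_mul]
  have e3 : k * b * k⁻¹ = b := by
    have h1 := D.conj_perp hne hk hkr htr haU ha0
    rw [← hb] at h1
    rcases h1 with h1 | h1 | h1 | h1 <;> rw [h1]
    · group
    · exact hkz
    · exact hkr'
    · exact hkrz
  have e4 : (k * k) * u * (k * k)⁻¹ = u * b := by
    calc (k * k) * u * (k * k)⁻¹ = k * (k * u * k⁻¹) * k⁻¹ := by group
      _ = k * (u * a) * k⁻¹ := by rw [e1]
      _ = (k * u * k⁻¹) * (k * a * k⁻¹) := by group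
      _ = u * (a * a) * b := by rw [e1, e2]; group
      _ = u * b := by rw [hsq a haU, mul_one]
  have e5 : (k * k) * b * (k * k)⁻¹ = b := by
    calc (k * k) * b * (k * k)⁻¹ = k * (k * b * k⁻¹) * k⁻¹ := by group
      _ = b := by rw [e3, e3]
  have e6 : (k * k) * (k * k) * u * ((k * k) * (k * k))⁻¹ = u := by
    calc (k * k) * (k * k) * u * ((k * k) * (k * k))⁻¹ = (k * k) * ((k * k) * u * (k * k)⁻¹) * (k * k)⁻¹ := by group
      _ = (k * k) * (u * b) * (k * k)⁻¹ := by rw [e4]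
      _ = ((k * k) * u * (k * k)⁻¹) * ((k * k) * b * (k * k)⁻¹) := by group
      _ = u * (b * b) := by rw [e4, e5]; group
      _ = u := by rw [hsq b hbU, mul_one]
  rwa [mul_inv_eq_iff_eq_mul] at e6

end OpD

end Cfsg.Agent.Omega.HOneTwo.OpInst
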