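import Cfsg.Agent.Mrg.Omega.HOneTwo.EndM
import Cfsg.Agent.Mrg.Omega.HOneTwo.TwoOut
import Cfsg.Agent.Mrg.Omega.HTwo.SevenSys
import Cfsg.Agent.Mrg.ParSys.Main
import Cfsg.Agent.Mrg.ParSys.RootEpsBD

section


/-!
# II.0h1, `q = 2`, F4-type: the flag of `M` ((21) of #16429)

* `Side.sdata` : a full side gives `SData`;
* `mem_ad`, `card_ad` : adjoining an involution in an elementary abelian group;
* `FF.exists_flag` : `⟨z⟩ < ⟨z, r₀⟩ < ⟨z, r₀, r₁⟩ < X 3 ≤ U`, `S` its full stabiliser in `M`.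
-/

set_option autoImplicit false
set_option linter.unusedSectionVars false

namespace Cfsg.Agent.Omega.HOneTwo.Trans

open Subgroup Cfsg.Agent.Omega.BTwo Cfsg.Agent.Omega.HTwo.Eight Cfsg.Agent.Omega.HTwo.SysSymp

universe u

variable {G : Type u} [Group G]

/-- a full side -/
theorem Side.sdata {D : Side G} (h : D.IsFull) : SData D.A D.U D.z D.f where
  zz := h.zz
  C_z := D.z_comm
  z_U := D.z_mem
  U_comm := fun _ hu _ hv => D.U_comm hu hv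
  U_sq := D.U_sq
  U_C := D.U_conj
  f_add := fun _ hu _ hv _ hw => h.f_mul_left hu hv hw
  f_symm := fun _ hu _ hv => h.f_symm hu hv
  f_self := fun _ hu => h.f_self hu
  f_C := fun _ hc _ hu _ hv => h.f_conj hc hu hv
  f_rad := fun u hu hv => h.rad hu fun p hp => hv p (D.Δ_le hp)
  f_z := fun _ _ => h.f_z
  tv := by
    have key : ∀ q ∈ D.Δ, ∀ u ∈ D.U, (D.f u q = 0 → D.t q * u * (D.t q)⁻¹ = u) ∧
        (D.f u q = 1 → D.t q * u * (D.t q)⁻¹ = u * (q * D.z)) := by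
      intro q hq u hu
      have h1 := D.t_act hq hu
      have h2 : D.f u q = D.φ q u := by rw [h.f_symm hu (D.Δ_le hq), Side.f_Δ hq]
      rw [h2]
      exact ⟨fun h3 => by rw [h1, h3, pw_zero, mul_one], fun h3 => by rw [h1, h3, pw_one]⟩
    intro p hp
    rcases h.cases hp with h1 | ⟨q, hq, h1⟩
    · refine ⟨1, D.A.one_mem, fun u hu => ⟨fun _ => Or.inl (by group), fun h2 => ?_⟩⟩
      exfalso
      rcases h1 with rfl | rfl
      · rw [h.f_right_one hu] at h2; exact zero_ne_one h2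
      · rw [h.f_right_z hu] at h2; exact zero_ne_one h2
    · refine ⟨D.t q, D.t_A hq, fun u hu => ?_⟩
      have hqz : D.U_comm D.z_mem (D.Δ_le hq) = D.U_comm D.z_mem (D.Δ_le hq) := rfl
      rcases h1 with rfl | rfl
      · refine ⟨fun h2 => Or.inl ((key _ hq u hu).1 h2), fun h2 => Or.inr ?_⟩
        rw [(key _ hq u hu).2 h2, mul_assoc]
      · have e : D.f u (q * D.z) = D.f u q := by
          rw [h.f_mul_right (D.Δ_le hq) D.z_mem hu, h.f_right_z hu, add_zero]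
        rw [e]
        refine ⟨fun h2 => Or.inl ((key _ hq u hu).1 h2), fun h2 => Or.inl ?_⟩
        rw [(key _ hq u hu).2 h2]

/-! ### adjoining an involution -/

section ad

variable {U A : Subgroup G} (hc : ∀ u ∈ U, ∀ v ∈ U, u * v = v * u) (hs : ∀ u ∈ U, u * u = 1) (hA : A ≤ U) {u : G}
  (hu : u ∈ U)

include hc hs hA hu

theorem mem_ad {x : G} : x ∈ A ⊔ zpowers u ↔ x ∈ A ∨ x * u ∈ A := by
  constructor
  · intro hx
    let K : Subgroup G :=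
      { carrier := {x | x ∈ U ∧ (x ∈ A ∨ x * u ∈ A)}
        one_mem' := ⟨U.one_mem, Or.inl A.one_mem⟩
        mul_mem' := by
          rintro a b ⟨ha, ha'⟩ ⟨hb, hb'⟩
          refine ⟨U.mul_mem ha hb, ?_⟩
          rcases ha' with ha' | ha' <;> rcases hb' with hb' | hb'
          · exact Or.inl (A.mul_mem ha' hb')
          · right
            rw [mul_assoc]
            exact A.mul_mem ha' hb'
          · right
            have e : a * b * u = (a * u) * b := by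
              rw [mul_assoc, hc b hb u hu, ← mul_assoc]
            rw [e]
            exact A.mul_mem ha' hb'
          · left
            have e : a * b = (a * u) * (b * u) := by
              calc a * b = a * (u * u) * b := by rw [hs u hu, mul_one]
                _ = (a * u) * (u * b) := by group
                _ = _ := by rw [hc u hu b hb]
            rw [e]
            exact A.mul_mem ha' hb'
        inv_mem' := by
          rintro a ⟨ha, ha'⟩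
          have e : a⁻¹ = a := inv_eq_of_mul_eq_one_left (hs a ha)
          rw [e]
          exact ⟨ha, ha'⟩ }
    have h1 : A ⊔ zpowers u ≤ K := sup_le (fun a ha => ⟨hA ha, Or.inl ha⟩)
      (zpowers_le.2 ⟨hu, Or.inr (by rw [hs u hu]; exact A.one_mem)⟩)
    exact (h1 hx).2
  · rintro (h | h)
    · exact mem_sup_left h
    · have e : x = x * u * u := by rw [mul_assoc, hs u hu, mul_one]
      rw [e]
      exact Subgroup.mul_mem _ (mem_sup_left h) (mem_sup_right (mem_zpowers u))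

theorem card_ad [Finite G] (hn : u ∉ A) : Nat.card (A ⊔ zpowers u : Subgroup G) = 2 * Nat.card A := by
  have h1 : A ≤ A ⊔ zpowers u := le_sup_left
  have h2 : (A.subgroupOf (A ⊔ zpowers u)).index = 2 := by
    rw [Subgroup.index_eq_two_iff]
    refine ⟨⟨u, mem_sup_right (mem_zpowers u)⟩, fun b => ?_⟩
    rw [mem_subgroupOf, mem_subgroupOf]
    rcases (mem_ad hc hs hA hu).1 b.2 with h | h
    · right
      refine ⟨h, fun h3 => hn ?_⟩
      have h4 := A.mul_mem (A.inv_mem h) h3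
      have e : (b : G)⁻¹ * ((b : G) * u) = u := by group
      change (b : G)⁻¹ * ((b : G) * u) ∈ A at h4
      rwa [e] at h4
    · left
      refine ⟨h, fun h3 => hn ?_⟩
      have h4 := A.mul_mem (A.inv_mem h3) h
      have e : (b : G)⁻¹ * ((b : G) * u) = u := by group
      rwa [e] at h4
  have h3 := Subgroup.card_mul_index (A.subgroupOf (A ⊔ zpowers u))
  rw [h2, Nat.card_congr (Subgroup.subgroupOfEquivOfLe h1).toEquiv] at h3
  rw [← h3, mul_comm]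

end ad

theorem conj_ad {A : Subgroup G} {u g : G} (hA : ∀ a ∈ A, g * a * g⁻¹ ∈ A ⊔ zpowers u)
    (hu : g * u * g⁻¹ ∈ A ⊔ zpowers u) : ∀ x ∈ A ⊔ zpowers u, g * x * g⁻¹ ∈ A ⊔ zpowers u := by
  have h : A ⊔ zpowers u ≤ (A ⊔ zpowers u).comap (MulAut.conj g).toMonoidHom := by
    refine sup_le (fun a ha => ?_) (zpowers_le.2 ?_)
    · exact hA a ha
    · exact hu
  exact fun x hx => h hx

theorem mem_zp {u x : G} (hu : u * u = 1) : x ∈ zpowers u ↔ x = 1 ∨ x = u := by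
  constructor
  · intro hx
    obtain ⟨k, rfl⟩ := mem_zpowers_iff.1 hx
    rcases Int.even_or_odd' k with ⟨c, hc | hc⟩
    · left
      rw [hc, zpow_mul, zpow_two, hu, one_zpow]
    · right
      rw [hc, zpow_add, zpow_mul, zpow_two, hu, one_zpow, one_mul, zpow_one]
  · rintro (rfl | rfl)
    · exact Subgroup.one_mem _
    · exact mem_zpowers _

theorem card_zp [Finite G] {u : G} (hu : u * u = 1) (h1 : u ≠ 1) : Nat.card (zpowers u) = 2 := by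
  rw [Nat.card_zpowers, orderOf_eq_prime (by rw [pow_two]; exact hu) h1]

namespace TS

/-- the partial flag -/
def Yf (D : TS G) : ℕ → Subgroup G
  | 0 => zpowers D.z
  | 1 => zpowers D.z ⊔ zpowers (D.r 0)
  | _ => zpowers D.z ⊔ zpowers (D.r 0) ⊔ zpowers (D.r 1)

variable {D : TS G}

theorem zz : D.z * D.z = 1 := D.z_sq

theorem zp_U : zpowers D.z ≤ D.U := zpowers_le.2 D.z_mem

theorem zr_U : zpowers D.z ⊔ zpowers (D.r 0) ≤ D.U := sup_le zp_U (zpowers_le.2 (D.r_mem 0))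

theorem Y2_U : zpowers D.z ⊔ zpowers (D.r 0) ⊔ zpowers (D.r 1) ≤ D.U := sup_le zr_U (zpowers_le.2 (D.r_mem 1))

theorem cU (u : G) (hu : u ∈ D.U) (v : G) (hv : v ∈ D.U) : u * v = v * u := D.U_comm hu hv

theorem mem_Y0 {x : G} : x ∈ zpowers D.z ↔ x = 1 ∨ x = D.z := mem_zp D.z_sq

theorem mem_Y1 {x : G} : x ∈ zpowers D.z ⊔ zpowers (D.r 0) ↔
    x = 1 ∨ x = D.z ∨ x = D.r 0 ∨ x = D.r 0 * D.z := by
  rw [mem_ad cU D.U_sq zp_U (D.r_mem 0), mem_Y0, mem_Y0]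
  have e : ∀ y, x * D.r 0 = y ↔ x = y * D.r 0 := by
    intro y
    constructor
    · intro h
      rw [← h, mul_assoc, D.r_sq, mul_one]
    · intro h
      rw [h, mul_assoc, D.r_sq, mul_one]
  rw [e, e, one_mul, D.z_r]
  tauto

theorem r2_eq : D.r 2 = D.r 0 * D.r 1 := by
  have h1 := D.r_prod
  have h2 := mul_eq_one_iff_eq_inv.1 h1
  have h3 : (D.r 2)⁻¹ = D.r 2 := inv_eq_of_mul_eq_one_left (D.r_sq 2)
  rw [← h3, ← h2]

theorem f_r {i j : Fin 3} : D.φ (D.r i) (D.r j) = 0 := D.φ_eq_zero_iff.2 (D.r_Q j i)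

/-- `Δ ∩ ⟨z, r₀, r₁⟩ = {r₀, r₁, r₀ r₁}` -/
theorem mem_Y2_Δ {x : G} (hx : x ∈ zpowers D.z ⊔ zpowers (D.r 0) ⊔ zpowers (D.r 1)) (hxΔ : x ∈ D.Δ) :
    x = D.r 0 ∨ x = D.r 1 ∨ x = D.r 0 * D.r 1 := by
  rw [mem_ad cU D.U_sq zr_U (D.r_mem 1), mem_Y1, mem_Y1] at hx
  have hz := D.z_Δ
  have h1 := D.one_Δ
  have e : ∀ y, x * D.r 1 = y → x = y * D.r 1 := by
    intro y h
    rw [← h, mul_assoc, D.r_sq, mul_one]
  have r2 : D.r 0 * D.r 1 ∈ D.Δ := by rw [← r2_eq]; exact D.r_Δ 2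
  rcases hx with (h | h | h | h) | (h | h | h | h)
  · rw [h] at hxΔ; exact absurd hxΔ h1
  · rw [h] at hxΔ; exact absurd hxΔ hz
  · exact Or.inl h
  · rw [h] at hxΔ; exact absurd hxΔ (D.zz_mem D.r0_Δ)
  · right; left
    rw [e _ h, one_mul]
  · exfalso
    rw [e _ h, cU _ D.z_mem _ (D.r_mem 1)] at hxΔ
    exact D.zz_mem (D.r_Δ 1) hxΔ
  · right; right
    exact e _ h
  · exfalso
    have e2 : D.r 0 * D.z * D.r 1 = D.r 0 * D.r 1 * D.z := by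
      rw [mul_assoc, cU _ D.z_mem _ (D.r_mem 1), ← mul_assoc]
    rw [e _ h, e2] at hxΔ
    exact D.zz_mem r2 hxΔ

theorem r1_nmem : D.r 1 ∉ zpowers D.z ⊔ zpowers (D.r 0) := by
  rw [mem_Y1]
  rintro (h | h | h | h)
  · exact D.one_Δ (h ▸ D.r_Δ 1)
  · exact D.z_Δ (h ▸ D.r_Δ 1)
  · exact D.r_r (i := 1) (j := 0) (by decide) h
  · exact D.zz_mem D.r0_Δ (h ▸ D.r_Δ 1)

theorem r0_nmem : D.r 0 ∉ zpowers D.z := by
  rw [mem_Y0]
  rintro (h | h)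
  · exact D.one_Δ (h ▸ D.r0_Δ)
  · exact D.z_Δ (h ▸ D.r0_Δ)

namespace FF

variable [Finite G] {S : Sylow 2 G} (A : FF D S)
include A

theorem Msd : SData D.M D.U D.z D.Ms.f := Side.sdata D.Ms_orth.toIsFull

theorem Hsd : SData (centralizer {D.r 0}) (gen (D.r 0) D.z) (D.r 0) D.Hs.f := Side.sdata A.B.full

theorem card_Y (d : ℕ) (hd : d ≤ 2) : Nat.card (D.Yf d) = 2 ^ (d + 1) := by
  have h0 : Nat.card (zpowers D.z) = 2 := card_zp D.z_sq D.z_ne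
  have h1 := card_ad (A := zpowers D.z) cU D.U_sq zp_U (D.r_mem 0) r0_nmem
  have h2 := card_ad (A := zpowers D.z ⊔ zpowers (D.r 0)) cU D.U_sq zr_U (D.r_mem 1) r1_nmem
  rw [h0] at h1
  rw [h1] at h2
  interval_cases d
  · exact h0
  · exact h1
  · exact h2

theorem S_Y (d : ℕ) (hd : d ≤ 2) : ∀ s ∈ (S : Subgroup G), ∀ y ∈ D.Yf d, s * y * s⁻¹ ∈ D.Yf d := by
  have h0 : ∀ s ∈ (S : Subgroup G), ∀ y ∈ zpowers D.z, s * y * s⁻¹ ∈ zpowers D.z := by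
    intro s hs y hy
    rw [mem_Y0] at hy ⊢
    rcases hy with rfl | rfl
    · left; group
    · right; exact conj_of_comm (A.S_z s hs)
  have h1 : ∀ s ∈ (S : Subgroup G), ∀ y ∈ zpowers D.z ⊔ zpowers (D.r 0),
      s * y * s⁻¹ ∈ zpowers D.z ⊔ zpowers (D.r 0) := fun s hs =>
    conj_ad (fun a ha => mem_sup_left (h0 s hs a ha)) (by
      rw [conj_of_comm (A.S_r s hs)]; exact mem_sup_right (mem_zpowers _))
  have h2 : ∀ s ∈ (S : Subgroup G), ∀ y ∈ zpowers D.z ⊔ zpowers (D.r 0) ⊔ zpowers (D.r 1),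
      s * y * s⁻¹ ∈ zpowers D.z ⊔ zpowers (D.r 0) ⊔ zpowers (D.r 1) := fun s hs =>
    conj_ad (fun a ha => mem_sup_left (h1 s hs a ha)) (by
      rcases A.S_V s hs with h | h <;> rw [h]
      · exact mem_sup_right (mem_zpowers _)
      · rw [r2_eq]
        exact Subgroup.mul_mem _ (mem_sup_left (mem_sup_right (mem_zpowers _))) (mem_sup_right (mem_zpowers _)))
  interval_cases d
  · exact h0
  · exact h1
  · exact h2

/-- `f = 0` on `⟨z, r₀, r₁⟩` -/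
theorem iso_Y : ∀ x ∈ D.Yf 2, ∀ y ∈ D.Yf 2, D.Ms.f x y = 0 := by
  have hF := D.Ms_orth.toIsFull
  have hle : D.Yf 2 ≤ D.U := Y2_U
  intro x hx y hy
  have key : ∀ p ∈ D.Δ, p ∈ D.Yf 2 → ∀ q ∈ D.Δ, q ∈ D.Yf 2 → D.Ms.f p q = 0 := by
    have a1 : ∀ i j, D.Ms.φ (D.r i) (D.r j) = 0 := fun i j => f_r
    have hr2 : D.r 0 * D.r 1 = D.r 2 := r2_eq.symm
    intro p hp hpY q hq hqY
    rw [Side.f_Δ hp]
    rcases mem_Y2_Δ hpY hp with rfl | rfl | rfl <;> rcases mem_Y2_Δ hqY hq with rfl | rfl | rfl <;>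
      (try rw [hr2]) <;> exact a1 _ _
  rcases hF.cases (hle hx) with (rfl | rfl) | ⟨p, hp, hp'⟩
  · exact hF.f_one
  · exact hF.f_z
  · change x = p ∨ x = p * D.z at hp'
    have hpY : p ∈ D.Yf 2 := by
      rcases hp' with rfl | rfl
      · exact hx
      · have h3 := Subgroup.mul_mem _ hx (show D.z ∈ D.Yf 2 from mem_sup_left (mem_sup_left (mem_zpowers _)))
        rwa [mul_assoc, D.z_sq, mul_one] at h3
    have e : D.Ms.f x y = D.Ms.f p y := by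
      rcases hp' with rfl | rfl
      · rfl
      · exact (hF.f_pz hp).trans (Side.f_Δ hp).symm
    rw [e]
    rcases hF.cases (hle hy) with (rfl | rfl) | ⟨q, hq, hq'⟩
    · exact hF.f_right_one (D.ΔU hp)
    · exact hF.f_right_z (D.ΔU hp)
    · change y = q ∨ y = q * D.z at hq'
      have hqY : q ∈ D.Yf 2 := by
        rcases hq' with rfl | rfl
        · exact hy
        · have h3 := Subgroup.mul_mem _ hy (show D.z ∈ D.Yf 2 from mem_sup_left (mem_sup_left (mem_zpowers _)))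
          rwa [mul_assoc, D.z_sq, mul_one] at h3
      rcases hq' with rfl | rfl
      · exact key p hp hpY _ hq hqY
      · have e2 : D.Ms.f p (q * D.z) = D.Ms.f p q + D.Ms.f p D.z :=
          hF.f_mul_right (D.ΔU hq) D.z_mem (D.ΔU hp)
        have e3 : D.Ms.f p D.z = 0 := hF.f_right_z (D.ΔU hp)
        rw [e2, e3, add_zero]
        exact key p hp hpY q hq hqY

theorem M_ker (c : G) (hc : c ∈ D.M) (h : ∀ u ∈ D.U, c * u = u * c) : ∃ n : ℕ, c ^ 2 ^ n = 1 := by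
  obtain ⟨n, hn⟩ := O2_isPGroup D.M ⟨c, A.KM hc h⟩
  exact ⟨n, congrArg Subtype.val hn⟩

theorem H_ker (c : G) (hc : c ∈ centralizer {D.r 0}) (h : ∀ u ∈ gen (D.r 0) D.z, c * u = u * c) :
    ∃ n : ℕ, c ^ 2 ^ n = 1 := A.K1_pow (mem_centralizer_singleton_iff.1 hc) h

theorem le_norm {Y : Subgroup G} {T : Subgroup G} (h : ∀ s ∈ T, ∀ y ∈ Y, s * y * s⁻¹ ∈ Y) :
    T ≤ normalizer (Y : Set G) := by
  intro s hs
  rw [Subgroup.mem_normalizer_iff]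
  intro y
  refine ⟨h s hs y, fun hy => ?_⟩
  have h1 := h s⁻¹ (T.inv_mem hs) _ hy
  have e : s⁻¹ * (s * y * s⁻¹) * s⁻¹⁻¹ = y := by group
  rwa [e] at h1

/-- **the flag of `M`** -/
theorem exists_flag : ∃ X : ℕ → Subgroup G, Flg D.U D.z D.Ms.f 3 X ∧ (∀ d ≤ 2, X d = D.Yf d) ∧
    PPs D.M 3 X ∅ = (S : Subgroup G) := by
  obtain ⟨m, X, h1, h2, h3, h4⟩ := exists_flg A.Msd D.z_ne S A.S_M A.M_ker (k := 2) (Y := D.Yf)
    (fun x => mem_Y0) (by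
      intro d hd
      interval_cases d
      · exact le_sup_left
      · exact le_sup_left) Y2_U A.card_Y A.iso_Y (fun d hd => A.le_norm (A.S_Y d hd))
  have h5 := h2.card_U
  rw [A.card_U] at h5
  have h6 := Nat.pow_right_injective (le_refl 2) h5
  have h7 : m = 3 := by
    have : 7 = 2 * m + 1 := h6
    omega
  subst h7
  exact ⟨X, h2, h3, h4⟩

end FF

end TS

end Cfsg.Agent.Omega.HOneTwo.Trans

end

section


/-!
# II.0h1, `q = 2`, F4-type: the flag of `C(r₀)` ((21) of #16429)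

`Ns K = ⋂ {N_p : p ∈ Δ ∩ K}`; `Zf X = ⟨r₀⟩ < ⟨r₀, z⟩ < Ns (X 3) ⟨r₀⟩ < Ns (X 2) ⟨r₀⟩`.

* `FF.exists_hflag` : `Zf X` is a flag, `S` its full stabiliser in `C(r₀)`.
-/

set_option autoImplicit false
set_option linter.unusedSectionVars false

namespace Cfsg.Agent.Omega.HOneTwo.Trans

open Subgroup Cfsg.Agent.Omega.BTwo Cfsg.Agent.Omega.HTwo.Eight Cfsg.Agent.Omega.HTwo.SysSymp

universe u

variable {G : Type u} [Group G]

namespace TS

/-- `⋂ {N_p : p ∈ Δ ∩ K}` -/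
def Ns (D : TS G) (K : Subgroup G) : Subgroup G where
  carrier := {n | ∀ p ∈ D.Δ, p ∈ K → n ∈ gen p D.z}
  one_mem' := fun _ _ _ => Subgroup.one_mem _
  mul_mem' := fun ha hb p hp hK => Subgroup.mul_mem _ (ha p hp hK) (hb p hp hK)
  inv_mem' := fun ha p hp hK => Subgroup.inv_mem _ (ha p hp hK)

variable {D : TS G}

theorem mem_Ns {K : Subgroup G} {n : G} : n ∈ D.Ns K ↔ ∀ p ∈ D.Δ, p ∈ K → n ∈ gen p D.z := Iff.rfl

theorem Ns_anti {K L : Subgroup G} (h : K ≤ L) : D.Ns L ≤ D.Ns K := fun _ hn p hp hK => hn p hp (h hK)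

theorem z_Ns (K : Subgroup G) : D.z ∈ D.Ns K := fun p _ _ => z_gen p

theorem Ns_conj {K : Subgroup G} {m : G} (hm : m ∈ D.M) (hK : m ∈ normalizer (K : Set G)) :
    ∀ n ∈ D.Ns K, m * n * m⁻¹ ∈ D.Ns K := by
  intro n hn p hp hpK
  have h1 := Dl_inv' hm hp
  have h2 : m⁻¹ * p * m ∈ K := by
    rw [Subgroup.mem_normalizer_iff] at hK
    rw [hK]
    have e : m * (m⁻¹ * p * m) * m⁻¹ = p := by group
    rwa [e]
  have h3 := gen_conj m (hn _ h1 h2)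
  have e : m * (m⁻¹ * p * m) * m⁻¹ = p := by group
  rwa [e, D.m_z hm] at h3

/-- the flag of `C(r₀)` -/
def Zf (D : TS G) (X : ℕ → Subgroup G) : ℕ → Subgroup G
  | 0 => zpowers (D.r 0)
  | 1 => zpowers (D.r 0) ⊔ zpowers D.z
  | 2 => D.Ns (X 3) ⊔ zpowers (D.r 0)
  | _ => D.Ns (X 2) ⊔ zpowers (D.r 0)

theorem cN (u : G) (hu : u ∈ gen (D.r 0) D.z) (v : G) (hv : v ∈ gen (D.r 0) D.z) : u * v = v * u :=
  D.Hs.U_comm hu hv

theorem sN (u : G) (hu : u ∈ gen (D.r 0) D.z) : u * u = 1 := D.Hs.U_sq u hu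

namespace FF

variable [Finite G] {S : Sylow 2 G} (A : FF D S) {X : ℕ → Subgroup G} (hX : Flg D.U D.z D.Ms.f 3 X)
  (hY : ∀ d ≤ 2, X d = D.Yf d)

omit [Finite G] in
theorem X2_eq (hY : ∀ d ≤ 2, X d = D.Yf d) : X 2 = zpowers D.z ⊔ zpowers (D.r 0) ⊔ zpowers (D.r 1) :=
  hY 2 le_rfl

omit [Finite G] in
theorem r0_X2 (hY : ∀ d ≤ 2, X d = D.Yf d) : D.r 0 ∈ X 2 := by
  rw [X2_eq hY]; exact mem_sup_left (mem_sup_right (mem_zpowers _))

omit [Finite G] in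
theorem r1_X2 (hY : ∀ d ≤ 2, X d = D.Yf d) : D.r 1 ∈ X 2 := by
  rw [X2_eq hY]; exact mem_sup_right (mem_zpowers _)

omit [Finite G] in
theorem f_X3 (hX : Flg D.U D.z D.Ms.f 3 X) {p q : G} (hp : p ∈ D.Δ) (hpX : p ∈ X 3) (hqX : q ∈ X 3) :
    D.f p q = 0 := by
  rw [D.f_Δ hp]
  exact (Side.f_Δ (D := D.Ms) hp).symm.trans (hX.iso p hpX q hqX)

omit [Finite G] in
theorem X23 (hX : Flg D.U D.z D.Ms.f 3 X) : X 2 ≤ X 3 := hX.mono 2 (by omega)

include hX in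
/-- the third point -/
theorem exists_e : ∃ e ∈ D.Δ, e ∈ X 3 ∧ e ∉ X 2 ∧ X 3 = X 2 ⊔ zpowers e := by
  have h1 : ∃ u ∈ X 3, u ∉ X 2 := by
    by_contra hcon
    push Not at hcon
    have h2 := Subgroup.card_le_of_le (show X 3 ≤ X 2 from hcon)
    rw [hX.card 3 le_rfl, hX.card 2 (by omega)] at h2
    norm_num at h2
  obtain ⟨u, hu, hu2⟩ := h1
  have hz2 : D.z ∈ X 2 := hX.z_mem (by omega)
  have key : ∀ e ∈ D.Δ, e ∈ X 3 → e ∉ X 2 → X 3 = X 2 ⊔ zpowers e := by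
    intro e he he3 he2
    have h3 := card_ad (A := X 2) cU D.U_sq (hX.le_U (by omega)) (D.ΔU he) he2
    rw [hX.card 2 (by omega)] at h3
    symm
    refine Subgroup.eq_of_le_of_card_ge (sup_le (X23 hX) (zpowers_le.2 he3)) ?_
    rw [h3, hX.card 3 le_rfl]
    norm_num
  rcases D.mem_U_iff.1 (hX.le_U (by omega) hu) with h | h | h | h
  · exact absurd (h ▸ Subgroup.one_mem _) hu2
  · exact absurd (h ▸ hz2) hu2
  · exact ⟨u, h, hu, hu2, key u h hu hu2⟩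
  · have h3 : u * D.z ∈ X 3 := Subgroup.mul_mem _ hu (X23 hX hz2)
    have h4 : u * D.z ∉ X 2 := fun h5 => hu2 (by
      have h6 := Subgroup.mul_mem _ h5 hz2
      rwa [mul_assoc, D.z_sq, mul_one] at h6)
    exact ⟨_, h, h3, h4, key _ h h3 h4⟩

omit [Finite G] in
theorem r01 : D.r 0 ≠ D.r 1 := D.r_r (by decide)

omit [Finite G] in
theorem fr01 : D.f (D.r 0) (D.r 1) = 0 := by
  rw [D.f_Δ D.r0_Δ]; exact f_r

omit [Finite G] in
/-- `Ns (X 2) = N₀ ∩ N₁` -/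
theorem Ns2_eq (hY : ∀ d ≤ 2, X d = D.Yf d) : D.Ns (X 2) = gen (D.r 0) D.z ⊓ gen (D.r 1) D.z := by
  apply le_antisymm
  · intro n hn
    exact ⟨hn _ D.r0_Δ (r0_X2 hY), hn _ (D.r_Δ 1) (r1_X2 hY)⟩
  · rintro n ⟨h1, h2⟩ p hp hpX
    rw [X2_eq hY] at hpX
    rcases mem_Y2_Δ hpX hp with rfl | rfl | rfl
    · exact h1
    · exact h2
    · exact N_inf_mul (D.r_Δ 1) D.r0_Δ r01.symm (by
        rw [D.f_symm (D.r_mem 1) (D.r_mem 0)]; exact fr01) h2 h1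

omit [Finite G] in
/-- `Ns (X 3) = N₀ ∩ N₁ ∩ N_e` -/
theorem Ns3_eq (hX : Flg D.U D.z D.Ms.f 3 X) (hY : ∀ d ≤ 2, X d = D.Yf d) {e : G} (he : e ∈ D.Δ) (he3 : e ∈ X 3)
    (he2 : e ∉ X 2) (hX3 : X 3 = X 2 ⊔ zpowers e) :
    D.Ns (X 3) = gen (D.r 0) D.z ⊓ gen (D.r 1) D.z ⊓ gen e D.z := by
  apply le_antisymm
  · intro n hn
    exact ⟨⟨hn _ D.r0_Δ (X23 hX (r0_X2 hY)), hn _ (D.r_Δ 1) (X23 hX (r1_X2 hY))⟩, hn e he he3⟩
  · rintro n ⟨h12, h3⟩ p hp hpX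
    have h2 : n ∈ D.Ns (X 2) := by rw [Ns2_eq hY]; exact h12
    have hpX' := hpX
    rw [hX3, mem_ad cU D.U_sq (hX.le_U (by omega)) (D.ΔU he)] at hpX
    rcases hpX with hpX | hpX
    · exact h2 p hp hpX
    · have hzU := D.z_mem
      have heU := D.ΔU he
      have epe : p = p * e * e := by rw [mul_assoc, D.U_sq e heU, mul_one]
      have main : ∀ y ∈ D.Δ, y ∈ X 2 → n ∈ gen (y * e) D.z ∧ y * e ∈ D.Δ := by
        intro y hy hyX
        have hne : e ≠ y := fun h => he2 (h ▸ hyX)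
        have h0 := f_X3 hX he he3 (X23 hX hyX)
        refine ⟨N_inf_mul he hy hne h0 h3 (h2 y hy hyX), ?_⟩
        have h4 := D.mul_mem hy he hne.symm (by
          rw [D.φ_symm hy he, ← D.f_Δ he]; exact h0)
        exact h4
      rcases D.mem_U_iff.1 (hX.le_U (by omega) hpX) with h | h | h | h
      · rw [epe, h, one_mul]; exact h3
      · exfalso
        rw [epe, h, cU _ hzU _ heU] at hp
        exact D.zz_mem he hp
      · rw [epe]
        exact (main _ h hpX).1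
      · exfalso
        have h5 := (main _ h (Subgroup.mul_mem _ hpX (hX.z_mem (by omega)))).2
        have e2 : p * e * D.z * e = p * D.z := by
          calc p * e * D.z * e = p * (e * D.z) * e := by group
            _ = p * (D.z * e) * e := by rw [cU _ heU _ hzU]
            _ = p * D.z * (e * e) := by group
            _ = p * D.z := by rw [D.U_sq e heU, mul_one]
        rw [e2] at h5
        exact D.zz_mem hp h5

include A

theorem card_Ns2 (hY : ∀ d ≤ 2, X d = D.Yf d) : Nat.card (D.Ns (X 2)) = 8 := by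
  rw [Ns2_eq hY]
  exact F4_two A.hQ A.F A.B A.hk D.r0_Δ (D.r_Δ 1) r01 fr01

include hX in
theorem card_Ns3 (hY : ∀ d ≤ 2, X d = D.Yf d) : Nat.card (D.Ns (X 3)) = 4 := by
  obtain ⟨e, he, he3, he2, h3⟩ := exists_e hX
  rw [Ns3_eq hX hY he he3 he2 h3]
  have h0 := r0_X2 hY
  have h1 := r1_X2 hY
  exact F4_three A.hQ A.F A.B A.hk D.r0_Δ (D.r_Δ 1) he r01 (fun h => he2 (h ▸ h0)) (fun h => he2 (h ▸ h1))
    (fun h => he2 (h ▸ Subgroup.mul_mem _ h0 h1)) fr01 (f_X3 hX D.r0_Δ (X23 hX h0) he3)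
    (f_X3 hX (D.r_Δ 1) (X23 hX h1) he3)

omit A [Finite G] in
theorem Ns2_N (hY : ∀ d ≤ 2, X d = D.Yf d) : D.Ns (X 2) ≤ gen (D.r 0) D.z := by
  rw [Ns2_eq hY]; exact inf_le_left

omit A [Finite G] in
theorem Ns3_N (hX : Flg D.U D.z D.Ms.f 3 X) (hY : ∀ d ≤ 2, X d = D.Yf d) : D.Ns (X 3) ≤ gen (D.r 0) D.z :=
  (Ns_anti (X23 hX)).trans (Ns2_N hY)

theorem r0_Ns2 (hY : ∀ d ≤ 2, X d = D.Yf d) : D.r 0 ∉ D.Ns (X 2) := by
  intro h
  rw [Ns2_eq hY] at h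
  rcases inf_U A.hQ A.F A.B A.hk D.r0_Δ (D.r_Δ 1) r01 h.1 h.2 (D.r_mem 0) with h1 | h1
  · exact D.one_Δ (h1 ▸ D.r0_Δ)
  · exact D.z_Δ (h1 ▸ D.r0_Δ)

theorem r0_Ns3 (hX : Flg D.U D.z D.Ms.f 3 X) (hY : ∀ d ≤ 2, X d = D.Yf d) : D.r 0 ∉ D.Ns (X 3) := fun h =>
  A.r0_Ns2 hY (Ns_anti (X23 hX) h)

omit A [Finite G] in
theorem zpr_N : zpowers (D.r 0) ≤ gen (D.r 0) D.z := zpowers_le.2 D.r_mem_N

theorem card_Z (hX : Flg D.U D.z D.Ms.f 3 X) (hY : ∀ d ≤ 2, X d = D.Yf d) (d : ℕ) (hd : d ≤ 3) :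
    Nat.card (D.Zf X d) = 2 ^ (d + 1) := by
  have r1 : D.r 0 ≠ 1 := fun h => D.one_Δ (h ▸ D.r0_Δ)
  have hzr : D.z ∉ zpowers (D.r 0) := by
    rw [mem_zp (D.r_sq 0)]
    rintro (h | h)
    · exact D.z_ne h
    · exact D.z_Δ (h ▸ D.r0_Δ)
  have h0 : Nat.card (zpowers (D.r 0)) = 2 := card_zp (D.r_sq 0) r1
  have h1 := card_ad (A := zpowers (D.r 0)) cN sN zpr_N (self_mem_gen _ _ : D.z ∈ gen (D.r 0) D.z) hzr
  have h2 := card_ad (A := D.Ns (X 3)) cN sN (Ns3_N hX hY) D.r_mem_N (A.r0_Ns3 hX hY)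
  have h3 := card_ad (A := D.Ns (X 2)) cN sN (Ns2_N hY) D.r_mem_N (A.r0_Ns2 hY)
  rw [h0] at h1
  rw [A.card_Ns3 hX hY] at h2
  rw [A.card_Ns2 hY] at h3
  interval_cases d
  · exact h0
  · exact h1
  · exact h2
  · exact h3

omit A [Finite G] in
theorem Z_N (hX : Flg D.U D.z D.Ms.f 3 X) (hY : ∀ d ≤ 2, X d = D.Yf d) : D.Zf X 3 ≤ gen (D.r 0) D.z :=
  sup_le (Ns2_N hY) zpr_N

omit A [Finite G] in
theorem Z_mono (hX : Flg D.U D.z D.Ms.f 3 X) (d : ℕ) (hd : d < 3) : D.Zf X d ≤ D.Zf X (d + 1) := by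
  interval_cases d
  · exact le_sup_left
  · exact sup_le le_sup_right (zpowers_le.2 (mem_sup_left (z_Ns _)))
  · exact sup_le_sup_right (Ns_anti (X23 hX)) _

theorem Z_iso (hY : ∀ d ≤ 2, X d = D.Yf d) : ∀ x ∈ D.Zf X 3, ∀ y ∈ D.Zf X 3, D.Hs.f x y = 0 := by
  have hF := A.B.full
  have hrN : D.r 0 ∈ gen (D.r 0) D.z := D.r_mem_N
  have hle : D.Zf X 3 ≤ gen (D.r 0) D.z := sup_le (Ns2_N hY) zpr_N
  have key : ∀ x ∈ D.Ns (X 2), ∀ y ∈ D.Ns (X 2), D.Hs.f x y = 0 := by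
    intro x hx y hy
    rw [Ns2_eq hY] at hx hy
    exact F4_ti A.hQ A.F A.B A.hk (D.r_Δ 1) r01 fr01 hx.1 hx.2 hy.1 hy.2
  have k2 : ∀ x ∈ D.Ns (X 2), ∀ y ∈ D.Zf X 3, D.Hs.f x y = 0 := by
    intro x hx y hy
    have hxN := Ns2_N hY hx
    rcases (mem_ad cN sN (Ns2_N hY) hrN).1 hy with h | h
    · exact key x hx y h
    · have h1 := key x hx _ h
      have h2 : D.Hs.f x (y * D.r 0) = D.Hs.f x y + D.Hs.f x (D.r 0) := hF.f_mul_right (hle hy) hrN hxN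
      have h3 : D.Hs.f x (D.r 0) = 0 := hF.f_right_z hxN
      rwa [h2, h3, add_zero] at h1
  intro x hx y hy
  rcases (mem_ad cN sN (Ns2_N hY) hrN).1 hx with h | h
  · exact k2 x h y hy
  · have h1 := k2 _ h y hy
    have h2 : D.Hs.f (x * D.r 0) y = D.Hs.f x y + D.Hs.f (D.r 0) y := hF.f_mul_left (hle hx) hrN (hle hy)
    have h3 : D.Hs.f (D.r 0) y = 0 := hF.f_z
    rwa [h2, h3, add_zero] at h1

omit A in
/-- elements of `M ∩ C(r₀)` normalising `X d` -/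
theorem Ns_Z {K : Subgroup G} {m : G} (hm : m ∈ D.M) (hr : m * D.r 0 = D.r 0 * m)
    (hK : m ∈ normalizer (K : Set G)) : ∀ x ∈ D.Ns K ⊔ zpowers (D.r 0), m * x * m⁻¹ ∈ D.Ns K ⊔ zpowers (D.r 0) :=
  conj_ad (fun a ha => mem_sup_left (Ns_conj hm hK a ha)) (by
    rw [conj_of_comm hr]; exact mem_sup_right (mem_zpowers _))

omit A in
theorem Z1_conj {m : G} (hm : m * D.z = D.z * m) (hr : m * D.r 0 = D.r 0 * m) :
    ∀ x ∈ zpowers (D.r 0) ⊔ zpowers D.z, m * x * m⁻¹ ∈ zpowers (D.r 0) ⊔ zpowers D.z :=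
  conj_ad (fun a ha => by
    refine mem_sup_left ?_
    rw [mem_zp (D.r_sq 0)] at ha ⊢
    rcases ha with rfl | rfl
    · left; group
    · right; exact conj_of_comm hr) (by
    rw [conj_of_comm hm]; exact mem_sup_right (mem_zpowers _))

omit A in
theorem Z0_conj {m : G} (hr : m * D.r 0 = D.r 0 * m) :
    ∀ x ∈ zpowers (D.r 0), m * x * m⁻¹ ∈ zpowers (D.r 0) := by
  intro x hx
  rw [mem_zp (D.r_sq 0)] at hx ⊢
  rcases hx with rfl | rfl
  · left; group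
  · right; exact conj_of_comm hr

theorem S_Xn (hP : PPs D.M 3 X ∅ = (S : Subgroup G)) {s : G} (hs : s ∈ (S : Subgroup G)) (d : ℕ) (hd : d ≤ 3) :
    s ∈ normalizer (X d : Set G) := by
  rw [← hP] at hs
  exact hs.2 d hd (by simp)

theorem S_Z (hP : PPs D.M 3 X ∅ = (S : Subgroup G)) (d : ℕ) (hd : d ≤ 3) :
    ∀ s ∈ (S : Subgroup G), ∀ y ∈ D.Zf X d, s * y * s⁻¹ ∈ D.Zf X d := by
  intro s hs
  have hm := A.S_M hs
  have hr := A.S_r s hs
  have hz := A.S_z s hs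
  interval_cases d
  · exact Z0_conj hr
  · exact Z1_conj hz hr
  · exact Ns_Z hm hr (A.S_Xn hP hs 3 le_rfl)
  · exact Ns_Z hm hr (A.S_Xn hP hs 2 (by omega))

/-- **the flag of `C(r₀)`** -/
theorem hflag (hX : Flg D.U D.z D.Ms.f 3 X) (hY : ∀ d ≤ 2, X d = D.Yf d)
    (hP : PPs D.M 3 X ∅ = (S : Subgroup G)) : Flg (gen (D.r 0) D.z) (D.r 0) D.Hs.f 3 (D.Zf X) ∧
      PPs (centralizer {D.r 0}) 3 (D.Zf X) ∅ = (S : Subgroup G) := by
  have r1 : D.r 0 ≠ 1 := fun h => D.one_Δ (h ▸ D.r0_Δ)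
  have hSr : (S : Subgroup G) ≤ centralizer {D.r 0} := fun s hs => mem_centralizer_singleton_iff.2 (A.S_r s hs)
  obtain ⟨m, X', -, h2, h3, h4⟩ := exists_flg A.Hsd r1 S hSr A.H_ker (k := 3) (Y := D.Zf X)
    (fun x => mem_zp (D.r_sq 0)) (fun d hd => Z_mono hX d hd) (Z_N hX hY) (fun d hd => A.card_Z hX hY d hd)
    (A.Z_iso hY) (fun d hd => A.le_norm (A.S_Z hP d hd))
  have h5 := h2.card_U
  rw [A.card_N] at h5
  have h6 := Nat.pow_right_injective (le_refl 2) h5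
  have h7 : m = 3 := by
    have : 7 = 2 * m + 1 := h6
    omega
  subst h7
  refine ⟨⟨fun x => mem_zp (D.r_sq 0), fun d hd => Z_mono hX d hd, Z_N hX hY, fun d hd => A.card_Z hX hY d hd,
    A.Z_iso hY, h2.card_U⟩, ?_⟩
  rw [← h4]
  exact PPs_congr (fun d hd => (h3 d hd).symm) _

end FF

end TS

end Cfsg.Agent.Omega.HOneTwo.Trans

end

section


/-!
# II.0h1, `q = 2`, F4-type, (21) of #16429: `XX {r₀, r₁, r₂}`

* `TS.Q_le_M`, `TS.Q_act` : `Q_p ≤ M`; `g ∈ Q_p` moves `e ∈ p^⊥` to `e` or `e p`;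
* `TS.XX_PPs` : `XX {r₀, r₁, r₂} ≤ PPs M 3 X {1}`;
* `TS.XX_not_le` : `XX {r₀, r₁, r₂}` is not in `S`;
* `TS.XX_comm` : `XX {r₀, r₁, r₂}` centralises `Ns (X 3)` (even `Ns (X 2)`).
-/

set_option autoImplicit false
set_option linter.unusedSectionVars false

namespace Cfsg.Agent.Omega.HOneTwo.Trans

open Subgroup Cfsg.Agent.Omega.BTwo Cfsg.Agent.Omega.HTwo.Eight Cfsg.Agent.Omega.HTwo.SysSymp
  Cfsg.Agent.Omega.HOneTwo.OpSys Cfsg.Agent.Omega.HOneTwo.OpInst Cfsg.Agent.Omega.HOneTwo.FDigon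

universe u

variable {G : Type u} [Group G]

namespace TS

variable {D : TS G}

theorem self_N {p : G} (hp : p ∈ D.Δ) : p ∈ gen p D.z := by
  obtain ⟨m, hm, rfl⟩ := hp
  have h := gen_conj m D.r_mem_N
  rwa [conj_of_comm (D.M_z m hm)] at h

/-- `Q_p ≤ C(p)` -/
theorem Q_comm_p {p g : G} (hp : p ∈ D.Δ) (hg : g ∈ D.Q p) : g * p = p * g := N_Q_comm hp (self_N hp) hg

/-- `Q_p ≤ M` -/
theorem Q_le_M {p g : G} (hp : p ∈ D.Δ) (hg : g ∈ D.Q p) : g ∈ D.M :=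
  D.mem_M_of hp (Q_comm_p hp hg) (N_Q_comm hp (z_gen p) hg)

theorem mem_Q_of {p e : G} (hp : p ∈ D.Δ) (he : e ∈ D.U) (h0 : D.f p e = 0) : e ∈ D.Q p := by
  rw [D.f_Δ hp] at h0
  exact D.φ_eq_zero_iff.1 h0

/-- `g ∈ Q_p`, `e ∈ p^⊥`: `e^g ∈ {e, e p}` -/
theorem Q_act {p e g : G} (hp : p ∈ D.Δ) (he : e ∈ D.U) (h0 : D.f p e = 0) (hg : g ∈ D.Q p) :
    g * e * g⁻¹ = e ∨ g * e * g⁻¹ = e * p := by
  have hU : e * p = p * e := D.U_comm he (D.Ms.Δ_le hp)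
  rcases D.Q_der' hp hg (mem_Q_of hp he h0) with h | h
  · left; rw [h, mul_inv_cancel_right]
  · right
    rw [h, hU]; group

/-- `K ∋ p`, `K ⊥ p`: `Q_p` normalises `K` -/
theorem Q_norm {p g : G} {K : Subgroup G} (hp : p ∈ D.Δ) (hpK : p ∈ K) (hK : K ≤ D.U) (h0 : ∀ e ∈ K, D.f p e = 0)
    (hg : g ∈ D.Q p) : g ∈ normalizer (K : Set G) := by
  have key : ∀ g ∈ D.Q p, ∀ e ∈ K, g * e * g⁻¹ ∈ K := by
    intro g hg e he
    rcases Q_act hp (hK he) (h0 e he) hg with h | h <;> rw [h]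
    · exact he
    · exact Subgroup.mul_mem _ he hpK
  rw [Subgroup.mem_normalizer_iff]
  intro e
  refine ⟨key g hg e, fun h => ?_⟩
  have h1 := key g⁻¹ ((D.Q p).inv_mem hg) _ h
  have e2 : g⁻¹ * (g * e * g⁻¹) * g⁻¹⁻¹ = e := by group
  rwa [e2] at h1

variable {X : ℕ → Subgroup G}

theorem r_X2 (hY : ∀ d ≤ 2, X d = D.Yf d) (i : Fin 3) : D.r i ∈ X 2 := by
  have h0 := FF.r0_X2 hY
  have h1 := FF.r1_X2 hY
  fin_cases i
  · exact h0
  · exact h1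
  · change D.r 2 ∈ X 2
    rw [r2_eq]; exact Subgroup.mul_mem _ h0 h1

variable [Finite G] {S : Sylow 2 G} (A : FF D S)
include A

/-- **`XX {r₀, r₁, r₂} ≤ PPs M 3 X {1}`** -/
theorem FF.XX_PPs (hX : Flg D.U D.z D.Ms.f 3 X) (hY : ∀ d ≤ 2, X d = D.Yf d) :
    XX {D.r 0, D.r 1, D.r 2} ≤ PPs D.M 3 X {1} := by
  refine XX_le fun a ha g hg => ?_
  have ha' : ∃ i, a = D.r i := by
    rcases ha with rfl | rfl | rfl
    · exact ⟨0, rfl⟩
    · exact ⟨1, rfl⟩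
    · exact ⟨2, rfl⟩
  obtain ⟨i, rfl⟩ := ha'
  have hp := D.r_Δ i
  have hg' : g ∈ D.Q (D.r i) := by rw [A.hQ]; exact hg
  have hM := Q_le_M hp hg'
  refine ⟨hM, fun d hd hd1 => ?_⟩
  have hd1 : d ≠ 1 := hd1
  have h2 := r_X2 hY i
  have h3 : D.r i ∈ X 3 := FF.X23 hX h2
  have hd' : d = 0 ∨ d = 2 ∨ d = 3 := by omega
  rcases hd' with rfl | rfl | rfl
  · rw [Subgroup.mem_normalizer_iff]
    intro x
    rw [hX.zero, hX.zero]
    have hz := conj_of_comm (D.M_z g hM)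
    constructor
    · rintro (rfl | rfl)
      · left; group
      · exact Or.inr hz
    · rintro (h | h)
      · left
        rwa [mul_inv_eq_one, mul_eq_left] at h
      · right
        rw [← hz] at h
        exact mul_left_cancel (mul_right_cancel h)
  · exact Q_norm hp h2 (hX.le_U (by omega)) (fun e he => FF.f_X3 hX hp h3 (FF.X23 hX he)) hg'
  · exact Q_norm hp h3 (hX.le_U (by omega)) (fun e he => FF.f_X3 hX hp h3 he) hg'

/-- **`XX {r₀, r₁, r₂}` is not in `S`** -/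
theorem FF.XX_not_le : ¬ XX {D.r 0, D.r 1, D.r 2} ≤ (S : Subgroup G) := by
  intro hle
  obtain ⟨g, hg, h1⟩ := D.Q_mv (D.r_Δ 1) D.r0_Δ FF.r01.symm f_r
  have hg' : g ∈ O2 (centralizer {D.r 1}) := by
    have h2 := hg
    rw [A.hQ] at h2
    exact h2
  have h2 := hle (le_XX (show D.r 1 ∈ ({D.r 0, D.r 1, D.r 2} : Set G) by simp) hg')
  have h3 := conj_of_comm (A.S_r g h2)
  rw [h3] at h1
  have h4 : D.r 1 = 1 := by
    have h5 := h1.symm
    rwa [mul_eq_left] at h5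
  exact D.one_Δ (h4 ▸ D.r_Δ 1)

/-- **`XX {r₀, r₁, r₂}` centralises `N₀ ∩ N₁ ∩ N₂`** -/
theorem FF.XX_comm' {n : G} (hn : ∀ i, n ∈ gen (D.r i) D.z) {x : G} (hx : x ∈ XX {D.r 0, D.r 1, D.r 2}) :
    x * n = n * x := by
  have h1 : XX {D.r 0, D.r 1, D.r 2} ≤ centralizer {n} := by
    refine XX_le fun a ha g hg => ?_
    rw [mem_centralizer_singleton_iff]
    have key : ∀ i, g ∈ O2 (centralizer {D.r i}) → g * n = n * g := by
      intro i hg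
      refine N_Q_comm (D.r_Δ i) (hn i) ?_
      rw [A.hQ]; exact hg
    rcases ha with rfl | rfl | rfl
    · exact key 0 hg
    · exact key 1 hg
    · exact key 2 hg
  exact mem_centralizer_singleton_iff.1 (h1 hx)

/-- **`XX {r₀, r₁, r₂}` centralises `Ns K`, `K ∋ r₀, r₁, r₂`** -/
theorem FF.XX_comm {K : Subgroup G} (hK : ∀ i, D.r i ∈ K) {n : G} (hn : n ∈ D.Ns K) {x : G}
    (hx : x ∈ XX {D.r 0, D.r 1, D.r 2}) : x * n = n * x :=
  A.XX_comm' (fun i => hn _ (D.r_Δ i) (hK i)) hx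

theorem FF.XX_comm_Ns2 (hY : ∀ d ≤ 2, X d = D.Yf d) {n : G} (hn : n ∈ D.Ns (X 2)) {x : G}
    (hx : x ∈ XX {D.r 0, D.r 1, D.r 2}) : x * n = n * x := A.XX_comm (r_X2 hY) hn hx

theorem FF.XX_comm_Ns3 (hX : Flg D.U D.z D.Ms.f 3 X) (hY : ∀ d ≤ 2, X d = D.Yf d) {n : G} (hn : n ∈ D.Ns (X 3))
    {x : G} (hx : x ∈ XX {D.r 0, D.r 1, D.r 2}) : x * n = n * x :=
  A.XX_comm (fun i => FF.X23 hX (r_X2 hY i)) hn hx

/-- `S` normalises `{r₀, r₁, r₂}` -/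
theorem FF.S_R {s : G} (hs : s ∈ (S : Subgroup G)) :
    ∀ a ∈ ({D.r 0, D.r 1, D.r 2} : Set G), s * a * s⁻¹ ∈ ({D.r 0, D.r 1, D.r 2} : Set G) := by
  have h0 := conj_of_comm (A.S_r s hs)
  have hU : D.r 0 * D.r 1 = D.r 1 * D.r 0 := D.U_comm (D.r_mem 0) (D.r_mem 1)
  have h2 : s * D.r 2 * s⁻¹ = D.r 0 * (s * D.r 1 * s⁻¹) := by
    rw [r2_eq]
    calc s * (D.r 0 * D.r 1) * s⁻¹ = (s * D.r 0 * s⁻¹) * (s * D.r 1 * s⁻¹) := by group
      _ = _ := by rw [h0]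
  rintro a (rfl | rfl | rfl)
  · rw [h0]; simp
  · rcases A.S_V s hs with h | h <;> rw [h] <;> simp
  · rcases A.S_V s hs with h | h <;> rw [h2, h]
    · rw [← r2_eq]; simp
    · rw [r2_eq, ← mul_assoc, D.r_sq, one_mul]; simp

end TS

end Cfsg.Agent.Omega.HOneTwo.Trans

end

section


/-!
# II.0h1, `q = 2`, F4-type: the four parabolics ((21) of #16429)

`P₁ = PPs C(r₀) {1}`, `P₂ = PPs C(r₀) {2} = PPs M {3}`, `P₃ = PPs C(r₀) {3} = PPs M {2}`, `P₄ = PPs M {1}`.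

* `FF.eq_two`, `FF.eq_three`;
* `FF.one_eq` : `P₁ = ⟨O₂(C(z^h)) : h ∈ P₁⟩ S`.
-/

set_option autoImplicit false
set_option linter.unusedSectionVars false

namespace Cfsg.Agent.Omega.HOneTwo.Trans

open Subgroup Cfsg.Agent.Omega.BTwo Cfsg.Agent.Omega.HTwo.Eight Cfsg.Agent.Omega.HTwo.SysSymp
open Cfsg.Agent.Omega.HOneTwo.FDigon (XX le_XX XX_le O2_cent_conj XX_conj mem_sup_of sup_eq_of_relIndex)

universe u

variable {G : Type u} [Group G]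

theorem eq_of_relIndex {S P P' : Subgroup G} (hS : S ≤ P) (h : P ≤ P') (h3 : S.relIndex P = 3)
    (h3' : S.relIndex P' = 3) : P = P' := by
  have h4 := Subgroup.relIndex_mul_relIndex S P P' hS h
  rw [h3, h3'] at h4
  have h5 : P.relIndex P' = 1 := by omega
  exact le_antisymm h (Subgroup.relIndex_eq_one.1 h5)

namespace TS

variable {D : TS G}

namespace FF

variable [Finite G] {S : Sylow 2 G} (A : FF D S) {X : ℕ → Subgroup G}

omit [Finite G] in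
theorem r_of_X1 (hY : ∀ d ≤ 2, X d = D.Yf d) {m : G} (hm : m ∈ D.M) (h : m ∈ normalizer (X 1 : Set G)) :
    m * D.r 0 = D.r 0 * m := by
  have e : X 1 = zpowers D.z ⊔ zpowers (D.r 0) := hY 1 (by omega)
  rw [e, Subgroup.mem_normalizer_iff] at h
  have h1 := (h (D.r 0)).1 (mem_sup_right (mem_zpowers _))
  have h2 := Dl_inv hm D.r0_Δ
  rw [mem_Y1] at h1
  rcases h1 with h1 | h1 | h1 | h1
  · exact absurd (h1 ▸ h2) D.one_Δ
  · exact absurd (h1 ▸ h2) D.z_Δ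
  · exact comm_of_conj h1
  · exact absurd (h1 ▸ h2) (D.zz_mem D.r0_Δ)

theorem mem_norm {K : Subgroup G} {m : G} (h : ∀ x ∈ K, m * x * m⁻¹ ∈ K) : m ∈ normalizer (K : Set G) := by
  exact mem_normalizer_of_conj h

theorem le_two (hY : ∀ d ≤ 2, X d = D.Yf d) :
    PPs D.M 3 X {3} ≤ PPs (centralizer {D.r 0}) 3 (D.Zf X) {2} := by
  rintro m ⟨hm, h⟩
  have hr := r_of_X1 hY hm (h 1 (by omega) (by simp))
  refine ⟨mem_centralizer_singleton_iff.2 hr, fun d hd hd2 => ?_⟩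
  apply mem_norm
  interval_cases d
  · exact Z0_conj hr
  · exact Z1_conj (D.M_z m hm) hr
  · exact absurd rfl hd2
  · exact Ns_Z hm hr (h 2 (by omega) (by simp))

theorem le_three (hY : ∀ d ≤ 2, X d = D.Yf d) :
    PPs D.M 3 X {2} ≤ PPs (centralizer {D.r 0}) 3 (D.Zf X) {3} := by
  rintro m ⟨hm, h⟩
  have hr := r_of_X1 hY hm (h 1 (by omega) (by simp))
  refine ⟨mem_centralizer_singleton_iff.2 hr, fun d hd hd3 => ?_⟩
  apply mem_norm
  interval_cases d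
  · exact Z0_conj hr
  · exact Z1_conj (D.M_z m hm) hr
  · exact Ns_Z hm hr (h 3 (by omega) (by simp))
  · exact absurd rfl hd3

section

variable (hX : Flg D.U D.z D.Ms.f 3 X) (hY : ∀ d ≤ 2, X d = D.Yf d) (hP : PPs D.M 3 X ∅ = (S : Subgroup G))

include A hX hP

theorem idxM {j : ℕ} (h1 : 1 ≤ j) (h3 : j ≤ 3) : (S : Subgroup G).relIndex (PPs D.M 3 X {j}) = 3 := by
  rw [← hP]; exact hX.relIndex A.Msd D.z_ne h1 h3

theorem S_PM (j : ℕ) : (S : Subgroup G) ≤ PPs D.M 3 X {j} := by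
  rw [← hP]; exact PPs_mono (Set.empty_subset _)

include hY

theorem r_ne : D.r 0 ≠ 1 := fun h => D.one_Δ (h ▸ D.r0_Δ)

theorem idxH {j : ℕ} (h1 : 1 ≤ j) (h3 : j ≤ 3) :
    (S : Subgroup G).relIndex (PPs (centralizer {D.r 0}) 3 (D.Zf X) {j}) = 3 := by
  obtain ⟨h4, h5⟩ := A.hflag hX hY hP
  rw [← h5]
  exact h4.relIndex A.Hsd (A.r_ne hX hY hP) h1 h3

theorem S_PH (j : ℕ) : (S : Subgroup G) ≤ PPs (centralizer {D.r 0}) 3 (D.Zf X) {j} := by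
  obtain ⟨h4, h5⟩ := A.hflag hX hY hP
  rw [← h5]; exact PPs_mono (Set.empty_subset _)

/-- `P₂` -/
theorem eq_two : PPs D.M 3 X {3} = PPs (centralizer {D.r 0}) 3 (D.Zf X) {2} :=
  eq_of_relIndex (A.S_PM hX hP 3) (le_two hY) (A.idxM hX hP (by omega) le_rfl)
    (A.idxH hX hY hP (by omega) (by omega))

/-- `P₃` -/
theorem eq_three : PPs D.M 3 X {2} = PPs (centralizer {D.r 0}) 3 (D.Zf X) {3} :=
  eq_of_relIndex (A.S_PM hX hP 2) (le_three hY) (A.idxM hX hP (by omega) (by omega))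
    (A.idxH hX hY hP (by omega) le_rfl)

/-! ### `P₁` -/

/-- `P₁ ∩ C(z) ≤ S` -/
theorem one_inf {x : G} (hx : x ∈ PPs (centralizer {D.r 0}) 3 (D.Zf X) {1}) (hz : x * D.z = D.z * x) :
    x ∈ (S : Subgroup G) := by
  obtain ⟨h4, h5⟩ := A.hflag hX hY hP
  rw [← h5]
  refine ⟨hx.1, fun d hd _ => ?_⟩
  by_cases h1 : d = 1
  · subst h1
    exact mem_norm (Z1_conj hz (mem_centralizer_singleton_iff.1 hx.1))
  · exact hx.2 d hd h1

/-- the orbit of `z` -/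
theorem orb_Ns {h : G} (hh : h ∈ PPs (centralizer {D.r 0}) 3 (D.Zf X) {1}) : h * D.z * h⁻¹ ∈ D.Ns (X 3) := by
  have hr := mem_centralizer_singleton_iff.1 hh.1
  have h2 := hh.2 2 (by omega) (by simp)
  rw [Subgroup.mem_normalizer_iff] at h2
  have h3 : h * D.z * h⁻¹ ∈ D.Ns (X 3) ⊔ zpowers (D.r 0) := (h2 D.z).1 (mem_sup_left (z_Ns _))
  have h4 : h * D.z * h⁻¹ ∈ D.Hs.Δ := ⟨h, hr, rfl⟩
  rcases (mem_ad cN sN (Ns3_N hX hY) D.r_mem_N).1 h3 with h5 | h5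
  · exact h5
  · exfalso
    refine A.B.full.inj _ h4 ?_
    have h6 : h * D.z * h⁻¹ * D.r 0 ∈ gen (D.r 0) D.z ⊓ gen (D.r 1) D.z := by
      rw [← Ns2_eq hY]; exact Ns_anti (X23 hX) h5
    refine F4_ZZ A.hQ A.F A.B A.hk (D.r_Δ 1) r01 fr01 h6.1 h6.2 fun h7 => ?_
    have h8 : h * D.z * h⁻¹ = D.r 0 := by
      rw [mul_eq_one_iff_eq_inv] at h7
      rw [h7]
      exact inv_eq_of_mul_eq_one_left (D.r_sq 0)
    exact D.Hs.z_notin (h8 ▸ h4 : D.r 0 ∈ D.Hs.Δ) rfl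

theorem XX_le_one : XX {y | ∃ h ∈ PPs (centralizer {D.r 0}) 3 (D.Zf X) {1}, y = h * D.z * h⁻¹} ≤
    PPs (centralizer {D.r 0}) 3 (D.Zf X) {1} := by
  refine XX_le ?_
  rintro _ ⟨h, hh, rfl⟩ x hx
  have h1 := O2_cent_conj (g := h⁻¹) hx
  have e : h⁻¹ * (h * D.z * h⁻¹) * h⁻¹⁻¹ = D.z := by group
  rw [e, A.O_z] at h1
  have h2 := A.S_PH hX hY hP 1 (A.O_S h1)
  have h3 := Subgroup.mul_mem _ (Subgroup.mul_mem _ hh h2) (Subgroup.inv_mem _ hh)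
  have e2 : h * (h⁻¹ * x * h⁻¹⁻¹) * h⁻¹ = x := by group
  rwa [e2] at h3

theorem XX_not_one : ¬ XX {y | ∃ h ∈ PPs (centralizer {D.r 0}) 3 (D.Zf X) {1}, y = h * D.z * h⁻¹} ≤
    (S : Subgroup G) := by
  intro hcon
  have hex : ∃ h ∈ PPs (centralizer {D.r 0}) 3 (D.Zf X) {1}, h ∉ (S : Subgroup G) := by
    by_contra hall
    push Not at hall
    have h1 := A.idxH hX hY hP (j := 1) le_rfl (by omega)
    rw [Subgroup.relIndex_eq_one.2 hall] at h1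
    omega
  obtain ⟨h, hh, hhS⟩ := hex
  have hinv := Subgroup.inv_mem _ hh
  have hw : h⁻¹ * D.z * h⁻¹⁻¹ ∈ D.Ns (X 3) := A.orb_Ns hX hY hP hinv
  have hw2 : h⁻¹ * D.z * h⁻¹⁻¹ ∈ gen (D.r 0) D.z ⊓ gen (D.r 1) D.z := by
    rw [← Ns2_eq hY]; exact Ns_anti (X23 hX) hw
  have hwO := inf_O A.hQ A.F A.B A.hk D.r0_Δ (D.r_Δ 1) r01 hw2.1 hw2.2
  have hwc : ∀ o ∈ O2 D.M, h⁻¹ * D.z * h⁻¹⁻¹ * o = o * (h⁻¹ * D.z * h⁻¹⁻¹) := by
    intro o ho
    rw [← A.O_z] at ho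
    have h1 := O2_cent_conj (g := h) ho
    have hB : h * D.z * h⁻¹ ∈ {y | ∃ h ∈ PPs (centralizer {D.r 0}) 3 (D.Zf X) {1},
        y = h * D.z * h⁻¹} := ⟨h, hh, rfl⟩
    have h2 := hcon (le_XX hB h1)
    have h3 := A.S_z _ h2
    calc h⁻¹ * D.z * h⁻¹⁻¹ * o = h⁻¹ * (D.z * (h * o * h⁻¹)) * h := by group
      _ = h⁻¹ * (h * o * h⁻¹ * D.z) * h := by rw [h3]
      _ = _ := by group
  have hwU := A.Z_O hwO hwc
  rcases inf_U A.hQ A.F A.B A.hk D.r0_Δ (D.r_Δ 1) r01 hw2.1 hw2.2 hwU with h1 | h1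
  · have h2 : D.z = h * (h⁻¹ * D.z * h⁻¹⁻¹) * h⁻¹ := by group
    rw [h1] at h2
    exact D.z_ne (h2.trans (by group))
  · have h2 := comm_of_conj h1
    have h3 := inv_comm h2
    rw [inv_inv] at h3
    exact hhS (A.one_inf hX hY hP hh h3)

/-- `P₁ = X* S` -/
theorem one_eq : PPs (centralizer {D.r 0}) 3 (D.Zf X) {1} =
    XX {y | ∃ h ∈ PPs (centralizer {D.r 0}) 3 (D.Zf X) {1}, y = h * D.z * h⁻¹} ⊔ (S : Subgroup G) :=
  sup_eq_of_relIndex (A.idxH hX hY hP le_rfl (by omega)) (A.S_PH hX hY hP 1) (A.XX_le_one hX hY hP)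
    (A.XX_not_one hX hY hP)

end

end FF

end TS

end Cfsg.Agent.Omega.HOneTwo.Trans

end

section


/-!
# II.0h1, `q = 2`: a 2-subgroup of the commutator group of order `|O| 2 ^ (m²)` ((7) of #15507, (21) of #16429)

* `SData.mono`, `Side.sdata_sub` : `SData` for a subgroup which contains the transvections;
* `exists_T` : `T ≤ PPs C m X ∅`, `T ≤ C₀`, `|O| 2 ^ (m²) ≤ |T|`;
* `FF.exists_T` : `T ≤ S`, `2 ^ 24 ≤ |T|`, `T ≤ ⟨(z ^ H₁) ^ M⟩`; `FF.S_le` : `S ≤ ⟨(z ^ H₁) ^ M⟩` if `|S| ≤ 2 ^ 24`.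
-/

set_option autoImplicit false
set_option linter.unusedSectionVars false
set_option maxHeartbeats 400000

namespace Cfsg.Agent.Omega.HOneTwo.Trans

open Subgroup Cfsg.Agent.Omega.BTwo Cfsg.Agent.Omega.HTwo.Eight Cfsg.Agent.Omega.HTwo.SysSymp

universe u

variable {G : Type u} [Group G]

/-- `SData` for a subgroup which contains the transvections -/
theorem sdata_mono {C C₀ U : Subgroup G} {z : G} {f : G → G → ZMod 2} (D : SData C U z f) (h0 : C₀ ≤ C)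
    (htv : ∀ p ∈ U, ∃ c ∈ C₀, ∀ u ∈ U, (f u p = 0 → c * u * c⁻¹ = u ∨ c * u * c⁻¹ = u * z) ∧
      (f u p = 1 → c * u * c⁻¹ = u * p ∨ c * u * c⁻¹ = u * p * z)) : SData C₀ U z f where
  zz := D.zz
  C_z := fun c hc => D.C_z c (h0 hc)
  z_U := D.z_U
  U_comm := D.U_comm
  U_sq := D.U_sq
  U_C := fun c hc => D.U_C c (h0 hc)
  f_add := D.f_add
  f_symm := D.f_symm
  f_self := D.f_self
  f_C := fun c hc => D.f_C c (h0 hc)
  f_rad := D.f_rad
  f_z := D.f_z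
  tv := htv

/-- **a subgroup of the flag stabiliser in a subgroup which contains the transvections** -/
theorem exists_T [Finite G] {C C₀ U : Subgroup G} {z : G} {f : G → G → ZMod 2} (D : SData C U z f)
    (h0 : C₀ ≤ C) (htv : ∀ p ∈ U, ∃ c ∈ C₀, ∀ u ∈ U, (f u p = 0 → c * u * c⁻¹ = u ∨ c * u * c⁻¹ = u * z) ∧
      (f u p = 1 → c * u * c⁻¹ = u * p ∨ c * u * c⁻¹ = u * p * z)) (hz1 : z ≠ 1) {m : ℕ} {X : ℕ → Subgroup G}
    (F : Flg U z f m X) {O : Subgroup G} (hO : O ≤ C₀)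
    (hOU : ∀ x ∈ O, ∀ u ∈ U, x * u * x⁻¹ = u ∨ x * u * x⁻¹ = u * z) :
    ∃ T : Subgroup G, T ≤ PPs C m X ∅ ∧ T ≤ C₀ ∧ Nat.card O * 2 ^ (m ^ 2) ≤ Nat.card T :=
  ⟨PPs C₀ m X ∅, fun _ hx => ⟨h0 hx.1, hx.2⟩, PPs_le, F.card_le (sdata_mono D h0 htv) hz1 hO hOU⟩

/-- the transvections of a full side -/
theorem Side.tv_sub {D : Side G} (h : D.IsFull) {A₀ : Subgroup G} (hN : ∀ p ∈ D.Δ, D.N p ≤ A₀) :
    ∀ p ∈ D.U, ∃ c ∈ A₀, ∀ u ∈ D.U, (D.f u p = 0 → c * u * c⁻¹ = u ∨ c * u * c⁻¹ = u * D.z) ∧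
      (D.f u p = 1 → c * u * c⁻¹ = u * p ∨ c * u * c⁻¹ = u * p * D.z) := by
  have key : ∀ q ∈ D.Δ, ∀ u ∈ D.U, (D.f u q = 0 → D.t q * u * (D.t q)⁻¹ = u) ∧
      (D.f u q = 1 → D.t q * u * (D.t q)⁻¹ = u * (q * D.z)) := by
    intro q hq u hu
    have h1 := D.t_act hq hu
    have h2 : D.f u q = D.φ q u := by rw [h.f_symm hu (D.Δ_le hq), Side.f_Δ hq]
    rw [h2]
    exact ⟨fun h3 => by rw [h1, h3, pw_zero, mul_one], fun h3 => by rw [h1, h3, pw_one]⟩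
  intro p hp
  rcases h.cases hp with h1 | ⟨q, hq, h1⟩
  · refine ⟨1, A₀.one_mem, fun u hu => ⟨fun _ => Or.inl (by group), fun h2 => ?_⟩⟩
    exfalso
    rcases h1 with rfl | rfl
    · rw [h.f_right_one hu] at h2; exact zero_ne_one h2
    · rw [h.f_right_z hu] at h2; exact zero_ne_one h2
  · refine ⟨D.t q, hN q hq (D.t_mem hq), fun u hu => ?_⟩
    rcases h1 with rfl | rfl
    · refine ⟨fun h2 => Or.inl ((key _ hq u hu).1 h2), fun h2 => Or.inr ?_⟩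
      rw [(key _ hq u hu).2 h2, mul_assoc]
    · have e : D.f u (q * D.z) = D.f u q := by
        rw [h.f_mul_right (D.Δ_le hq) D.z_mem hu, h.f_right_z hu, add_zero]
      rw [e]
      refine ⟨fun h2 => Or.inl ((key _ hq u hu).1 h2), fun h2 => Or.inl ?_⟩
      rw [(key _ hq u hu).2 h2]

namespace TS

variable {D : TS G}

/-- `⟨(z ^ H₁) ^ M⟩` -/
def MN (D : TS G) : Subgroup G := closure {x | ∃ m ∈ D.M, ∃ y ∈ gen (D.r 0) D.z, x = m * y * m⁻¹}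

theorem gen_le_MN : ∀ p ∈ D.Δ, gen p D.z ≤ D.MN := by
  rintro p ⟨m, hm, rfl⟩ n hn
  have h1 := gen_conj m⁻¹ hn
  have e : m⁻¹ * (m * D.r 0 * m⁻¹) * m⁻¹⁻¹ = D.r 0 := by group
  rw [e, D.m_z' hm, inv_inv] at h1
  exact subset_closure ⟨m, hm, _, h1, by group⟩

theorem MN_le : D.MN ≤ D.M := by
  unfold MN
  rw [closure_le]
  rintro _ ⟨m, hm, y, hy, rfl⟩
  exact Subgroup.mul_mem _ (Subgroup.mul_mem _ hm (D.N_M hy)) (Subgroup.inv_mem _ hm)

theorem Gam_MN : D.Gam ≤ D.MN := by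
  unfold Gam
  rw [closure_le]
  rintro x ⟨p, hp, hx⟩
  exact gen_le_MN p hp (D.mem_NO.1 hx).1

namespace FF

variable [Finite G] {S : Sylow 2 G} (A : FF D S)
include A

/-- **a 2-subgroup of `⟨(z ^ H₁) ^ M⟩` of order at least `2 ^ 24`** -/
theorem exists_T {X : ℕ → Subgroup G} (F : Flg D.U D.z D.Ms.f 3 X) (hX : PPs D.M 3 X ∅ = (S : Subgroup G)) :
    ∃ T : Subgroup G, T ≤ (S : Subgroup G) ∧ 2 ^ 24 ≤ Nat.card T ∧
      T ≤ closure {x | ∃ m ∈ D.M, ∃ y ∈ gen (D.r 0) D.z, x = m * y * m⁻¹} := by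
  obtain ⟨T, h1, h2, h3⟩ := Trans.exists_T A.Msd (C₀ := D.MN) MN_le
    (Side.tv_sub D.Ms_orth.toIsFull gen_le_MN) D.z_ne F (O := O2 D.M) (by rw [A.O_eq]; exact Gam_MN) (by
      intro x hx u hu
      left
      rw [A.F.O_U x hx u hu]
      group)
  refine ⟨T, h1.trans hX.le, ?_, h2⟩
  rw [A.card_O] at h3
  exact le_trans (by norm_num) h3

/-- `S ≤ ⟨(z ^ H₁) ^ M⟩` -/
theorem S_le {X : ℕ → Subgroup G} (F : Flg D.U D.z D.Ms.f 3 X) (hX : PPs D.M 3 X ∅ = (S : Subgroup G))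
    (hS : Nat.card (S : Subgroup G) ≤ 2 ^ 24) :
    (S : Subgroup G) ≤ closure {x | ∃ m ∈ D.M, ∃ y ∈ gen (D.r 0) D.z, x = m * y * m⁻¹} := by
  obtain ⟨T, h1, h2, h3⟩ := A.exists_T F hX
  rwa [Subgroup.eq_of_le_of_card_ge h1 (hS.trans h2)] at h3

end FF

end TS

end Cfsg.Agent.Omega.HOneTwo.Trans

end

section


/-!
# II.0h1, `q = 2`, F4-type: the system of (21) of #16429

* `FF.P4` : the four parabolics `P₁, P₂, P₃ ≤ C(r₀)`, `P₂, P₃, P₄ ≤ M`;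
* `FF.gpp` : the residues of rank two, type `F₄`;
* `FF.gen_H`, `FF.gen_M` : `C(r₀)` and `M` lie in `⟨P₁, P₂, P₃, P₄⟩`.
-/

set_option autoImplicit false
set_option linter.unusedSectionVars false

namespace Cfsg.Agent.Omega.HOneTwo.Trans

open Subgroup Cfsg.Agent.Omega.BTwo Cfsg.Agent.Omega.HTwo.Eight Cfsg.Agent.Omega.HTwo.SysSymp
open Cfsg.Agent.ParSys Cfsg.Agent.ParSys.RankTwo Cfsg.Agent.ParSys.FreeCount
open Cfsg.Agent.Omega.HOneTwo.FDigon (XX le_XX XX_le O2_cent_conj XX_conj mem_sup_of sup_eq_of_relIndex)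

universe u v

variable {G : Type u} [Group G]

/-- a digon in both directions -/
theorem gpp_both {I : Type v} {P : I → Subgroup G} {i j : I} {S X Y : Subgroup G} (hB : ∀ k, S ≤ P k)
    (hi : P i = Y ⊔ S) (hj : P j = X ⊔ S) (hSX : ∀ s ∈ S, ∀ x ∈ X, s * x * s⁻¹ ∈ X)
    (hSY : ∀ s ∈ S, ∀ y ∈ Y, s * y * s⁻¹ ∈ Y) (hXY : ∀ x ∈ X, ∀ y ∈ Y, x * y * x⁻¹ ∈ Y)
    (hinf : ∀ x, x ∈ P i → x ∈ P j → x ∈ S) : GPp S P i j 2 ∧ GPp S P j i 2 := by
  have comm : ∀ p ∈ P i, ∀ q ∈ P j, ∃ q' ∈ P j, ∃ p' ∈ P i, p * q = q' * p' := by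
    intro p hp q hq
    rw [hi] at hp
    rw [hj] at hq
    obtain ⟨y, hy, s, hs, rfl⟩ := mem_sup_of hSY hp
    obtain ⟨x, hx, t, ht, rfl⟩ := mem_sup_of hSX hq
    have hx' := hSX s hs x hx
    have hy' := hXY _ (inv_mem hx') y hy
    refine ⟨s * x * s⁻¹, ?_, (s * x * s⁻¹)⁻¹ * y * (s * x * s⁻¹)⁻¹⁻¹ * (s * t), ?_, by group⟩
    · rw [hj]; exact (le_sup_left : X ≤ X ⊔ S) hx'
    · rw [hi]
      exact mul_mem ((le_sup_left : Y ≤ Y ⊔ S) hy') ((le_sup_right : S ≤ Y ⊔ S) (mul_mem hs ht))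
  refine ⟨gpp_two hB hinf comm, gpp_two hB (fun x hx hy => hinf x hy hx) fun p hp q hq => ?_⟩
  obtain ⟨q', hq', p', hp', h⟩ := comm q⁻¹ (inv_mem hq) p⁻¹ (inv_mem hp)
  refine ⟨p'⁻¹, inv_mem hp', q'⁻¹, inv_mem hq', ?_⟩
  rw [← mul_inv_rev, ← h]
  group

namespace TS

/-- the four parabolics -/
def P4 (D : TS G) (X : ℕ → Subgroup G) : Fin 4 → Subgroup G :=
  ![PPs (centralizer {D.r 0}) 3 (D.Zf X) {1}, PPs (centralizer {D.r 0}) 3 (D.Zf X) {2},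
    PPs (centralizer {D.r 0}) 3 (D.Zf X) {3}, PPs D.M 3 X {1}]

variable {D : TS G}

namespace FF

variable [Finite G] {S : Sylow 2 G} (A : FF D S) {X : ℕ → Subgroup G}
  (hX : Flg D.U D.z D.Ms.f 3 X) (hY : ∀ d ≤ 2, X d = D.Yf d) (hP : PPs D.M 3 X ∅ = (S : Subgroup G))

include A hX hY hP

theorem S_P4 : ∀ i, (S : Subgroup G) ≤ D.P4 X i := by
  intro i
  fin_cases i
  · exact A.S_PH hX hY hP 1
  · exact A.S_PH hX hY hP 2
  · exact A.S_PH hX hY hP 3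
  · exact A.S_PM hX hP 1

theorem idx_P4 : ∀ i, (S : Subgroup G).relIndex (D.P4 X i) = 3 := by
  intro i
  fin_cases i
  · exact A.idxH hX hY hP le_rfl (by omega)
  · exact A.idxH hX hY hP (by omega) (by omega)
  · exact A.idxH hX hY hP (by omega) le_rfl
  · exact A.idxM hX hP le_rfl (by omega)

omit A hX hY hP in
theorem P4_le (i : Fin 4) (hi : i ≠ 3) : D.P4 X i ≤ centralizer {D.r 0} := by
  fin_cases i
  · exact PPs_le
  · exact PPs_le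
  · exact PPs_le
  · exact absurd rfl hi

/-- `C(r₀)` is generated by `P₁, P₂, P₃` -/
theorem gen_H : centralizer {D.r 0} ≤ ⨆ i, D.P4 X i := by
  obtain ⟨h4, h5⟩ := A.hflag hX hY hP
  refine h4.gen A.Hsd (A.r_ne hX hY hP) (by omega) fun j h1 h2 => ?_
  interval_cases j
  · exact le_iSup (D.P4 X) 0
  · exact le_iSup (D.P4 X) 1
  · exact le_iSup (D.P4 X) 2

/-- `M` is generated by `P₂, P₃, P₄` -/
theorem gen_M : D.M ≤ ⨆ i, D.P4 X i := by
  refine hX.gen A.Msd D.z_ne (by omega) fun j h1 h2 => ?_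
  interval_cases j
  · exact le_iSup (D.P4 X) 3
  · rw [A.eq_three hX hY hP]; exact le_iSup (D.P4 X) 2
  · rw [A.eq_two hX hY hP]; exact le_iSup (D.P4 X) 1

/-- `2 ^ 24 ≤ |S|` -/
theorem card_S : 2 ^ 24 ≤ Nat.card (S : Subgroup G) := by
  have h1 := hX.card_le A.Msd D.z_ne (Q := O2 D.M) (O2_le _) (fun x hx u hu => by
    left
    rw [A.F.O_U x hx u hu]
    group)
  rw [A.card_O, hP] at h1
  exact le_trans (by norm_num) h1

/-- the digon `(1, 4)` -/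
theorem digon (h1 : XX {D.r 0, D.r 1, D.r 2} ≤ PPs D.M 3 X {1}) (h2 : ¬ XX {D.r 0, D.r 1, D.r 2} ≤ (S : Subgroup G))
    (h3 : ∀ x ∈ XX {D.r 0, D.r 1, D.r 2}, ∀ n, n ∈ gen (D.r 0) D.z → n ∈ gen (D.r 1) D.z → n ∈ gen (D.r 2) D.z →
      x * n = n * x) : GPp (S : Subgroup G) (D.P4 X) 0 3 2 ∧ GPp (S : Subgroup G) (D.P4 X) 3 0 2 := by
  have hAS : ∀ s ∈ (S : Subgroup G), ∀ a ∈ ({D.r 0, D.r 1, D.r 2} : Set G), s * a * s⁻¹ ∈ ({D.r 0, D.r 1, D.r 2} : Set G) := by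
    intro s hs a ha
    have h0 := A.S_r s hs
    have e0 : s * D.r 0 * s⁻¹ = D.r 0 := by rw [h0]; group
    have hr2 : D.r 2 = D.r 0 * D.r 1 := r2_eq
    have hr1 : D.r 1 = D.r 0 * D.r 2 := by rw [hr2, ← mul_assoc, D.r_sq 0, one_mul]
    have e2 : s * D.r 2 * s⁻¹ = D.r 0 * (s * D.r 1 * s⁻¹) := by
      rw [hr2]
      calc s * (D.r 0 * D.r 1) * s⁻¹ = (s * D.r 0 * s⁻¹) * (s * D.r 1 * s⁻¹) := by group
        _ = _ := by rw [e0]
    rcases ha with rfl | rfl | rfl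
    · rw [e0]; exact Or.inl rfl
    · rcases A.S_V s hs with h | h
      · rw [h]; exact Or.inr (Or.inl rfl)
      · rw [h]; exact Or.inr (Or.inr rfl)
    · rcases A.S_V s hs with h | h
      · rw [e2, h, ← hr2]; exact Or.inr (Or.inr rfl)
      · rw [e2, h, ← hr1]; exact Or.inr (Or.inl rfl)
  refine gpp_both (A.S_P4 hX hY hP) (A.one_eq hX hY hP)
    (sup_eq_of_relIndex (A.idxM hX hP le_rfl (by omega)) (A.S_PM hX hP 1) h1 h2)
    (fun s hs x hx => XX_conj (hAS s hs) hx) (fun s hs y hy => XX_conj ?_ hy) ?_ ?_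
  · rintro _ ⟨h, hh, rfl⟩
    exact ⟨s * h, Subgroup.mul_mem _ (A.S_PH hX hY hP 1 hs) hh, by group⟩
  · intro x hx y hy
    refine XX_conj ?_ hy
    rintro _ ⟨h, hh, rfl⟩
    have h4 := Ns_anti (X23 hX) (A.orb_Ns hX hY hP hh)
    have r2X : D.r 2 ∈ X 2 := by rw [r2_eq]; exact Subgroup.mul_mem _ (r0_X2 hY) (r1_X2 hY)
    have h5 := h3 x hx _ (h4 _ D.r0_Δ (r0_X2 hY)) (h4 _ (D.r_Δ 1) (r1_X2 hY)) (h4 _ (D.r_Δ 2) r2X)
    refine ⟨h, hh, ?_⟩
    rw [h5]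
    group
  · intro x hx hx'
    exact A.one_inf hX hY hP hx (D.M_z x hx'.1)

theorem gpp (h03 : GPp (S : Subgroup G) (D.P4 X) 0 3 2 ∧ GPp (S : Subgroup G) (D.P4 X) 3 0 2) :
    ∀ i j : Fin 4, i ≠ j → GPp (S : Subgroup G) (D.P4 X) i j (CoxeterMatrix.F₄ i j) := by
  obtain ⟨h4, h5⟩ := A.hflag hX hY hP
  have hr := A.r_ne hX hY hP
  have hBH : ∀ k, PPs (centralizer {D.r 0}) 3 (D.Zf X) ∅ ≤ D.P4 X k := by rw [h5]; exact A.S_P4 hX hY hP
  have hBM : ∀ k, PPs D.M 3 X ∅ ≤ D.P4 X k := by rw [hP]; exact A.S_P4 hX hY hP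
  have e1 : D.P4 X 1 = PPs D.M 3 X {3} := (A.eq_two hX hY hP).symm
  have e2 : D.P4 X 2 = PPs D.M 3 X {2} := (A.eq_three hX hY hP).symm
  have h01 := h4.gpp_three A.Hsd hr hBH (a := 0) (b := 1) (i := 1) (j := 2) rfl rfl le_rfl rfl (by omega)
  have h12 := h4.gpp_four A.Hsd hr hBH (a := 1) (b := 2) (i := 2) (j := 3) rfl rfl (by omega) rfl rfl
  have h02 := h4.gpp_two A.Hsd hr hBH (a := 0) (b := 2) (i := 1) (j := 3) rfl rfl (by omega) le_rfl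
  have h32 := hX.gpp_three A.Msd D.z_ne hBM (a := 3) (b := 2) (i := 1) (j := 2) rfl e2 le_rfl rfl (by omega)
  have h31 := hX.gpp_two A.Msd D.z_ne hBM (a := 3) (b := 1) (i := 1) (j := 3) rfl e1 (by omega) le_rfl
  rw [h5] at h01 h12 h02
  rw [hP] at h32 h31
  intro i j hij
  fin_cases i <;> fin_cases j
  · exact absurd rfl hij
  · exact h01.1
  · exact h02.1
  · exact h03.1
  · exact h01.2
  · exact absurd rfl hij
  · exact h12.1
  · exact h31.2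
  · exact h02.2
  · exact h12.2
  · exact absurd rfl hij
  · exact h32.2
  · exact h03.2
  · exact h31.1
  · exact h32.1
  · exact absurd rfl hij

end FF

end TS

/-- the order of the Borel subgroup of `F₄(2)` -/
theorem hasQ_four : HasQ CoxeterMatrix.F₄ (fun _ => 2) (2 ^ 24) := by
  have h := hasQ_F4 (M := CoxeterMatrix.F₄) (q := fun _ => 2) (Equiv.refl (Fin 4)) rfl (x := 2) (y := 2) (by
    intro i; simp)
  norm_num at h ⊢
  exact h

theorem conn_four : ∀ J : Set (Fin 4), J.Nonempty → Jᶜ.Nonempty → ∃ i ∈ J, ∃ j ∈ Jᶜ, CoxeterMatrix.F₄ i j ≠ 2 :=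
  conn_F4 (Equiv.refl (Fin 4)) rfl

end Cfsg.Agent.Omega.HOneTwo.Trans

end

section


/-!
# II.0h1, `q = 2`, F4-type: the system of (21) of #16429, closed form

`FF.exists_sys` : the four parabolics over `S`, of type `F₄`, three chambers in each panel.
-/

set_option autoImplicit false
set_option linter.unusedSectionVars false

namespace Cfsg.Agent.Omega.HOneTwo.Trans

open Subgroup Cfsg.Agent.Omega.BTwo Cfsg.Agent.Omega.HTwo.Eight Cfsg.Agent.Omega.HTwo.SysSymp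
open Cfsg.Agent.ParSys Cfsg.Agent.ParSys.RankTwo Cfsg.Agent.ParSys.FreeCount

universe u v

variable {G : Type u} [Group G]

/-- **the system of type `F₄`** -/
theorem TS.FF.exists_sys {D : TS G} [Finite G] {S : Sylow 2 G} (A : TS.FF D S) :
    ∃ PP : Fin 4 → Subgroup G, (∀ i, (S : Subgroup G) ≤ PP i) ∧ (∀ i, (S : Subgroup G).relIndex (PP i) = 3) ∧
      (∀ i j : Fin 4, i ≠ j → GPp (S : Subgroup G) PP i j (CoxeterMatrix.F₄ i j)) ∧
      (∀ i, i ≠ 3 → PP i ≤ centralizer {D.r 0}) ∧ centralizer {D.r 0} ≤ (⨆ i, PP i) ∧ D.M ≤ (⨆ i, PP i) ∧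
      2 ^ 24 ≤ Nat.card (S : Subgroup G) ∧
      ∃ T : Subgroup G, T ≤ (S : Subgroup G) ∧ 2 ^ 24 ≤ Nat.card T ∧
        T ≤ closure {x | ∃ m ∈ D.M, ∃ y ∈ gen (D.r 0) D.z, x = m * y * m⁻¹} := by
  obtain ⟨X, hX, hY, hP⟩ := A.exists_flag
  exact ⟨D.P4 X, A.S_P4 hX hY hP, A.idx_P4 hX hY hP,
    A.gpp hX hY hP (A.digon hX hY hP (A.XX_PPs hX hY) A.XX_not_le fun x hx n h0 h1 h2 =>
      A.XX_comm' (fun i => by
        fin_cases i
        · exact h0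
        · exact h1
        · exact h2) hx),
    TS.FF.P4_le, A.gen_H hX hY hP, A.gen_M hX hY hP, A.card_S hX hY hP, A.exists_T hX hP⟩

end Cfsg.Agent.Omega.HOneTwo.Trans

end
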