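import Cfsg.Agent.Mrg.Omega.HOneTwo.FSysA
import Cfsg.Agent.Mrg.Omega.HOneEnd.OfSys
import Cfsg.Agent.Mrg.Omega.HTwo.TSPos


/-!
# II.0h1, `q = 2`, F4-type: the end of (21) of #16429 over `Pos`

`ends_of_ff` : `FF (ts p h) S` gives `Ends S V (R o)` (the system of type `F₄` and THEOREM FREE).
-/

set_option autoImplicit false

namespace Cfsg.Agent.Omega.HOneTwo.Trans

open Subgroup Cfsg Cfsg.Agent.ParSys Cfsg.Agent.ParSys.RankTwo Cfsg.Agent.ParSys.FreeCount
open Cfsg.Agent.Omega.BTwo Cfsg.Agent.Omega.HOneTwo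
open Cfsg.Agent.Omega.HTwo.Entry (Pos)
open Cfsg.Agent.Omega.HOne.Cut (TSz Ends)
open Cfsg.Agent.Omega.HTwo.TSPos (ts ts_r ts_M ts_z)

universe u v

variable {G : Type u} [Group G] [Finite G] {S : Sylow 2 G} {P V : Subgroup G} {ι : Type v}
  {R : ι → Subgroup G} {o : ι} {r z : G}

/-- **the F4-type exit** -/
theorem ends_of_ff (p : Pos S P V R o r z) (h : TSz V R o r z) (A : TS.FF (ts p h) S) :
    Ends (S : Subgroup G) V (R o) := by
  obtain ⟨PP, hle, hidx, hgp, hpar, hCr, hM, hcard, T, hTS, hTc, hT⟩ := A.exists_sys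
  rw [ts_r p h] at hpar hCr hT
  refine HOneEnd.OfSys.ends_of_sys' p h (M := CoxeterMatrix.F₄) hasQ_four hle hidx hgp hcard ?_ conn_four
    (o' := 3) hpar hCr hM (T := T) (hT.trans le_sup_right) hTS hTc
  rw [Nat.card_eq_fintype_card, Fintype.card_fin]
  omega

end Cfsg.Agent.Omega.HOneTwo.Trans
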